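import Cfsg.Prelude.Def_Blocks
import Cfsg.Prelude.Def_Solvable
import Cfsg.Agent.Lib.Blocks.PrincipalInner
import Cfsg.Agent.Lib.BrauerMap.Principal
import Cfsg.Agent.Lib.HeightPSolv.Principal
import Cfsg.Agent.Lib.Chars.Ops
import Cfsg.Agent.Lib.Chars.Integral
import Cfsg.Agent.Lib.PSolvable.Core
import Cfsg.Agent.S0961
import Mathlib

/-!
Constant differences `χ(1) - χ(u)` on the nonprincipal characters of the principal 2-block:
orthogonality bookkeeping.
-/

set_option autoImplicit false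
set_option linter.unusedSectionVars false
set_option linter.style.haveILetI false

namespace Cfsg.Agent.Lib.B0Diff

open Cfsg
open Cfsg.Agent.Lib
open Cfsg.Agent.Lib.Blocks
open scoped ComplexConjugate

universe u

variable {G : Type u} [Group G] [Finite G] {M : Ideal AlgInt} [M.IsPrime]

/-- The principal block as a finite set. -/
noncomputable def B0 (M : Ideal AlgInt) (G : Type u) [Group G] [Finite G] : Finset (IrrCharacter G) :=
  (Set.toFinite (principalBlock M G)).toFinset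

omit [M.IsPrime] in
theorem mem_B0 {χ : IrrCharacter G} : χ ∈ B0 M G ↔ χ ∈ principalBlock M G :=
  Set.Finite.mem_toFinset _

theorem triv_mem : Chars.trivialIrr G ∈ B0 M G :=
  mem_B0.2 (BrauerMap.trivialIrr_mem_principalBlock M)

/-- The nonprincipal part of the principal block. -/
noncomputable def B1 (M : Ideal AlgInt) (G : Type u) [Group G] [Finite G] : Finset (IrrCharacter G) :=
  by classical exact (B0 M G).erase (Chars.trivialIrr G)

omit [M.IsPrime] in
theorem mem_B1 {χ : IrrCharacter G} :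
    χ ∈ B1 M G ↔ χ ∈ principalBlock M G ∧ (χ : G → ℂ) ≠ fun _ => 1 := by
  classical
  rw [B1, Finset.mem_erase, mem_B0, and_comm]
  exact and_congr_right fun _ => ⟨fun h e => h (Subtype.ext e), fun h e => h (by rw [e]; rfl)⟩

theorem sum_B0 (f : IrrCharacter G → ℂ) :
    ∑ χ ∈ B0 M G, f χ = f (Chars.trivialIrr G) + ∑ χ ∈ B1 M G, f χ := by
  classical
  rw [B1, Finset.add_sum_erase _ _ triv_mem]

omit [M.IsPrime] in
theorem finsum_B0 (f : IrrCharacter G → ℂ) :
    ∑ᶠ χ ∈ principalBlock M G, f χ = ∑ χ ∈ B0 M G, f χ :=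
  finsum_mem_eq_finite_toFinset_sum f _

/-- The degree. -/
noncomputable def deg (χ : IrrCharacter G) : ℕ := charDegree (χ : G → ℂ)

theorem deg_eq (χ : IrrCharacter G) : (χ : G → ℂ) 1 = (deg χ : ℂ) := by
  obtain ⟨n, -, hn⟩ := Chars.isIrrCharacter_exists_degree_pos χ.2
  simp [deg, charDegree, hn]

theorem deg_pos (χ : IrrCharacter G) : 0 < deg χ := by
  obtain ⟨n, hn0, hn⟩ := Chars.isIrrCharacter_exists_degree_pos χ.2
  simpa [deg, charDegree, hn] using hn0

theorem conj_deg (χ : IrrCharacter G) : conj ((χ : G → ℂ) 1) = (χ : G → ℂ) 1 := by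
  rw [deg_eq, Complex.conj_natCast]

/-- A regular and a singular column are orthogonal. -/
theorem orth_reg_sing (hM : IsPModular 2 M) {h g : G} (hh : ¬ 2 ∣ orderOf h) (hg : 2 ∣ orderOf g) :
    ∑ χ ∈ B0 M G, (χ : G → ℂ) h * conj ((χ : G → ℂ) g) = 0 := by
  haveI := Fact.mk Nat.prime_two
  rw [← finsum_B0]
  exact weak_block_orth hM (PrincipalSection.isPBlock_principalBlock M G) hh hg

/-- The degree column is orthogonal to every singular column. -/
theorem orth_one (hM : IsPModular 2 M) {g : G} (hg : 2 ∣ orderOf g) :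
    ∑ χ ∈ B0 M G, (χ : G → ℂ) 1 * (χ : G → ℂ) g = 0 := by
  have h := congrArg conj (orth_reg_sing (M := M) hM (h := (1 : G)) (by simp) hg)
  simp only [map_sum, map_mul, Complex.conj_conj, conj_deg, map_zero] at h
  exact h

/-- The kernel of all the characters of the principal block is trivial. -/
theorem eq_one_of_forall (hM : IsPModular 2 M) (hO : pPrimeCore 2 G = ⊥) {x : G}
    (hx : ∀ χ ∈ B0 M G, (χ : G → ℂ) x = (χ : G → ℂ) 1) : x = 1 := by
  classical
  haveI := Fact.mk Nat.prime_two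
  have hrep : ∀ χ : IrrCharacter G, ∃ H : Subgroup G, H.Normal ∧
      ∀ x, x ∈ H ↔ (χ : G → ℂ) x = (χ : G → ℂ) 1 := by
    intro χ
    obtain ⟨n, ρ, -, hρ⟩ := χ.2
    exact ⟨MonoidHom.ker ρ, inferInstance, fun x => by
      rw [MonoidHom.mem_ker, Chars.rep_eq_one_iff, hρ]⟩
  choose H hHn hH using hrep
  let K : Subgroup G := ⨅ χ ∈ B0 M G, H χ
  have hK : ∀ x, x ∈ K ↔ ∀ χ ∈ B0 M G, (χ : G → ℂ) x = (χ : G → ℂ) 1 := fun x => by
    simp only [K, Subgroup.mem_iInf, hH]
  have hKn : K.Normal := Subgroup.normal_iInf_normal fun χ => Subgroup.normal_iInf_normal fun _ => hHn χ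
  have hodd : (Nat.card K).Coprime 2 := by
    refine Nat.coprime_comm.1 ((Nat.prime_two.coprime_iff_not_dvd).2 fun h2 => ?_)
    obtain ⟨y, hy⟩ := exists_prime_orderOf_dvd_card' (G := K) 2 h2
    have h := orth_one (M := M) hM (g := (y : G)) (by rw [Subgroup.orderOf_coe, hy])
    rw [Finset.sum_congr rfl (g := fun χ : IrrCharacter G => ((deg χ * deg χ : ℕ) : ℂ))
      fun χ hχ => by rw [(hK y).1 y.2 χ hχ, deg_eq]; push_cast; ring, ← Nat.cast_sum,
      Nat.cast_eq_zero, Finset.sum_eq_zero_iff] at h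
    have := h _ (triv_mem (M := M))
    have := deg_pos (Chars.trivialIrr G)
    simp_all
  have hle : K ≤ pPrimeCore 2 G := le_sSup ⟨hKn, hodd⟩
  exact Subgroup.mem_bot.1 (hO ▸ hle ((hK x).2 hx))

/-- The multiplicity of a linear character of a subgroup is a natural number. -/
theorem exists_mult {φ : G → ℂ} (hφ : IsCharacter G φ) (A : Subgroup G) [Fintype A] (l : A →* ℂˣ) :
    ∃ n : ℕ, ∑ a : A, φ a * conj ((l a : ℂ)) = (Nat.card A : ℂ) * n := by
  obtain ⟨n, hn⟩ := Chars.isCharacter_classInner_nat (Chars.isCharacter_restrict A hφ)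
    (Chars.irr_isCharacter (Chars.linIrr l))
  refine ⟨n, ?_⟩
  rw [← hn, classInner, ← mul_assoc, mul_inv_cancel₀ Chars.natCard_ne_zero, one_mul]
  rfl

/-- A character is congruent to its degree modulo 2 at an involution. -/
theorem exists_invo_value {φ : G → ℂ} (hφ : IsCharacter G φ) {t : G} (ht : orderOf t = 2) :
    ∃ n : ℕ, φ t = 2 * (n : ℂ) - φ 1 := by
  classical
  haveI : Fintype (Subgroup.zpowers t) := Fintype.ofFinite _
  obtain ⟨n, hn⟩ := exists_mult hφ (Subgroup.zpowers t) 1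
  refine ⟨n, ?_⟩
  have hcard : Nat.card (Subgroup.zpowers t) = 2 := (Nat.card_zpowers t).trans ht
  have huniv : (Finset.univ : Finset (Subgroup.zpowers t)) =
      {1, ⟨t, Subgroup.mem_zpowers t⟩} := by
    refine (Finset.eq_univ_of_card _ ?_).symm
    rw [Finset.card_pair, ← Nat.card_eq_fintype_card, hcard]
    intro e
    have : t = 1 := (congrArg Subtype.val e).symm
    rw [this, orderOf_one] at ht
    omega
  rw [huniv, Finset.sum_pair, hcard] at hn
  · simp at hn
    rw [← hn]; ring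
  · intro e
    have : t = 1 := (congrArg Subtype.val e).symm
    rw [this, orderOf_one] at ht
    omega

/-- The column sum over the principal block, weighted by degrees, is divisible by the order of a
2-subgroup. -/
theorem dvd_sum_sq (hM : IsPModular 2 M) {P : Subgroup G} (hP : IsPGroup 2 P) :
    Nat.card P ∣ ∑ χ ∈ B0 M G, deg χ * deg χ := by
  classical
  haveI : Fintype P := Fintype.ofFinite _
  haveI := Fact.mk Nat.prime_two
  let φ : G → ℂ := fun g => ∑ χ ∈ B0 M G, (deg χ : ℂ) * (χ : G → ℂ) g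
  have hφ : IsCharacter G φ := by
    have h := Chars.isCharacter_sum (B0 M G) (f := fun χ => (deg χ : ℂ) • (χ : G → ℂ))
      fun χ _ => Chars.isCharacter_nat_smul _ (Chars.irr_isCharacter χ)
    convert h using 1
    funext g
    simp [φ, Finset.sum_apply]
  obtain ⟨n, hn⟩ := exists_mult hφ P 1
  refine ⟨n, ?_⟩
  have h0 : ∀ a : P, a ≠ 1 → φ a = 0 := by
    intro a ha
    obtain ⟨k, hk⟩ := IsPGroup.iff_orderOf.1 hP a
    have hk0 : k ≠ 0 := fun e => ha (orderOf_eq_one_iff.1 (by rw [hk, e, pow_zero]))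
    have h := orth_one (M := M) hM (g := (a : G))
      (by rw [Subgroup.orderOf_coe, hk]; exact dvd_pow_self 2 hk0)
    simpa [φ, deg_eq] using h
  rw [Finset.sum_eq_single (1 : P) (fun a _ ha => by rw [h0 a ha, zero_mul])
    (fun h => absurd (Finset.mem_univ _) h)] at hn
  have h1 : φ ((1 : P) : G) = ((∑ χ ∈ B0 M G, deg χ * deg χ : ℕ) : ℂ) := by
    simp [φ, deg_eq]
  rw [h1] at hn
  simp at hn
  rw [Nat.card_eq_fintype_card]
  exact_mod_cast hn

section Diff

variable {u : G} {k : ℂ}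
  (hM : IsPModular 2 M) (hO : pPrimeCore 2 G = ⊥) (heven : 2 ∣ Nat.card G) (hu : u ≠ 1)
  (hk : ∀ χ ∈ B1 M G, (χ : G → ℂ) 1 - (χ : G → ℂ) u = k)

include hM hO heven hu hk

theorem k_ne_zero : k ≠ 0 := by
  intro h0
  refine hu (eq_one_of_forall (M := M) hM hO fun χ hχ => ?_)
  by_cases e : (χ : G → ℂ) = fun _ => 1
  · rw [e]
  · have := hk χ (mem_B1.2 ⟨mem_B0.1 hχ, e⟩)
    rw [h0, sub_eq_zero] at this
    exact this.symm

theorem sum_value_mul (g : G) :
    ∑ χ ∈ B0 M G, (χ : G → ℂ) 1 * (χ : G → ℂ) g - ∑ χ ∈ B0 M G, (χ : G → ℂ) u * (χ : G → ℂ) g =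
      k * ∑ χ ∈ B1 M G, (χ : G → ℂ) g := by
  rw [sum_B0, sum_B0, Finset.mul_sum]
  have : ∀ χ ∈ B1 M G, k * (χ : G → ℂ) g =
      (χ : G → ℂ) 1 * (χ : G → ℂ) g - (χ : G → ℂ) u * (χ : G → ℂ) g := fun χ hχ => by
    rw [← hk χ hχ]; ring
  rw [Finset.sum_congr rfl this, Finset.sum_sub_distrib]
  simp

theorem two_dvd_orderOf : 2 ∣ orderOf u := by
  by_contra hodd
  haveI := Fact.mk Nat.prime_two
  obtain ⟨t, ht⟩ := exists_prime_orderOf_dvd_card' (G := G) 2 heven
  have h1 : ∑ χ ∈ B0 M G, (χ : G → ℂ) u * (χ : G → ℂ) t = 0 := by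
    have h := orth_reg_sing (M := M) hM hodd (g := t) (by rw [ht])
    refine Eq.trans (Finset.sum_congr rfl fun χ _ => ?_) h
    obtain ⟨n, hn⟩ := exists_invo_value (Chars.irr_isCharacter χ) ht
    rw [hn, deg_eq]
    simp only [map_sub, map_mul, map_ofNat, Complex.conj_natCast]
  have h2 := sum_value_mul hM hO heven hu hk t
  rw [h1, orth_one hM (by rw [ht]), sub_zero, eq_comm, mul_eq_zero] at h2
  have h3 := h2.resolve_left (k_ne_zero hM hO heven hu hk)
  choose n hn using fun χ : IrrCharacter G => exists_invo_value (Chars.irr_isCharacter χ) ht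
  have h4 : ((∑ χ ∈ B1 M G, deg χ : ℕ) : ℤ) = 2 * ((∑ χ ∈ B1 M G, n χ : ℕ) : ℤ) := by
    rw [Finset.sum_congr rfl fun χ _ => hn χ, Finset.sum_sub_distrib,
      Finset.sum_congr rfl (g := fun χ => (deg χ : ℂ)) fun χ _ => deg_eq χ, sub_eq_zero,
      ← Finset.mul_sum] at h3
    have : ((2 * ∑ χ ∈ B1 M G, n χ : ℕ) : ℂ) = ((∑ χ ∈ B1 M G, deg χ : ℕ) : ℂ) := by
      push_cast; exact h3
    exact_mod_cast this.symm
  have h5 : 2 ∣ ∑ χ ∈ B0 M G, deg χ * deg χ := by
    have h := dvd_sum_sq (M := M) hM (P := Subgroup.zpowers t)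
      (IsPGroup.of_card (n := 1) (by rw [Nat.card_zpowers, ht, pow_one]))
    rwa [Nat.card_zpowers, ht] at h
  classical
  rw [B1] at h4
  rw [← Finset.add_sum_erase _ _ (triv_mem (M := M)), Nat.dvd_iff_mod_eq_zero, Nat.add_mod,
    Finset.sum_nat_mod] at h5
  have e : ∀ χ : IrrCharacter G, deg χ * deg χ % 2 = deg χ % 2 := fun χ => by
    rw [Nat.mul_mod]; rcases Nat.mod_two_eq_zero_or_one (deg χ) with e | e <;> simp [e]
  rw [Finset.sum_congr rfl fun χ _ => e χ, ← Finset.sum_nat_mod, e] at h5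
  have : deg (Chars.trivialIrr G) = 1 := by simp [deg, charDegree]
  omega

theorem conj_value_u (χ : IrrCharacter G) (hχ : χ ∈ B0 M G) :
    conj k = k → conj ((χ : G → ℂ) u) = (χ : G → ℂ) u := by
  intro hck
  by_cases e : (χ : G → ℂ) = fun _ => 1
  · rw [e]; simp
  · rw [show (χ : G → ℂ) u = (χ : G → ℂ) 1 - k by
      rw [← hk χ (mem_B1.2 ⟨mem_B0.1 hχ, e⟩)]; ring, map_sub, conj_deg, hck]

theorem sum_sq_eq :
    ((∑ χ ∈ B0 M G, deg χ * deg χ : ℕ) : ℂ) = k * ((∑ χ ∈ B1 M G, deg χ : ℕ) : ℂ) := by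
  have h := sum_value_mul hM hO heven hu hk 1
  have h1 := orth_one (M := M) hM (two_dvd_orderOf hM hO heven hu hk)
  rw [show ∑ χ ∈ B0 M G, (χ : G → ℂ) u * (χ : G → ℂ) 1 = 0 from
    Eq.trans (Finset.sum_congr rfl fun χ _ => mul_comm _ _) h1, sub_zero] at h
  simpa [deg_eq] using h

/-- The difference is an integer and the degree sum is odd. -/
theorem exists_int : ∃ a : ℕ, k = (a : ℂ) ∧ 0 < a ∧
    ∑ χ ∈ B0 M G, deg χ * deg χ = a * ∑ χ ∈ B1 M G, deg χ ∧ ¬ 2 ∣ ∑ χ ∈ B1 M G, deg χ := by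
  classical
  have h := sum_sq_eq hM hO heven hu hk
  set N := ∑ χ ∈ B0 M G, deg χ * deg χ with hN
  set S := ∑ χ ∈ B1 M G, deg χ with hS
  have h1 : deg (Chars.trivialIrr G) = 1 := by simp [deg, charDegree]
  have hNS : N = 1 + ∑ χ ∈ B1 M G, deg χ * deg χ := by
    rw [hN, B1, ← Finset.add_sum_erase _ _ (triv_mem (M := M)), h1]
  have hN0 : (N : ℂ) ≠ 0 := by exact_mod_cast (show N ≠ 0 by omega)
  have hS0 : (S : ℂ) ≠ 0 := fun e => hN0 (by rw [h, e, mul_zero])
  obtain ⟨χ, hχ⟩ : (B1 M G).Nonempty := by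
    by_contra he
    rw [Finset.not_nonempty_iff_eq_empty] at he
    exact hS0 (by simp [hS, he])
  have hint : IsIntegral ℤ k := hk χ hχ ▸ (Chars.irr_isIntegral χ 1).sub (Chars.irr_isIntegral χ u)
  obtain ⟨z, hz⟩ := Chars.exists_int_eq_of_isIntegral hint ((N : ℚ) / S)
    (by push_cast; field_simp; linear_combination -h)
  have hzN : (N : ℤ) = z * S := by
    rw [hz] at h
    exact_mod_cast h
  have hSpos : 0 < S := Nat.pos_of_ne_zero fun e => hS0 (by rw [e]; simp)
  have hzpos : 0 < z := by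
    by_contra hc
    have : z * (S : ℤ) ≤ 0 := mul_nonpos_of_nonpos_of_nonneg (not_lt.1 hc) (by positivity)
    omega
  lift z to ℕ using hzpos.le with a ha
  have hNa : N = a * S := by exact_mod_cast hzN
  refine ⟨a, by simpa using hz, by omega, hNa, fun hS2 => ?_⟩
  haveI := Fact.mk Nat.prime_two
  obtain ⟨t, ht⟩ := exists_prime_orderOf_dvd_card' (G := G) 2 heven
  have h5 : 2 ∣ N := by
    have h := dvd_sum_sq (M := M) hM (P := Subgroup.zpowers t)
      (IsPGroup.of_card (n := 1) (by rw [Nat.card_zpowers, ht, pow_one]))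
    rwa [Nat.card_zpowers, ht] at h
  rw [hNS, Nat.dvd_iff_mod_eq_zero, Nat.add_mod, Finset.sum_nat_mod] at h5
  have e : ∀ χ : IrrCharacter G, deg χ * deg χ % 2 = deg χ % 2 := fun χ => by
    rw [Nat.mul_mod]; rcases Nat.mod_two_eq_zero_or_one (deg χ) with e | e <;> simp [e]
  rw [Finset.sum_congr rfl fun χ _ => e χ, ← Finset.sum_nat_mod] at h5
  omega

/-- Away from the 2-section of `u` the nonprincipal column sum vanishes. -/
theorem sum_B1_eq_zero {g x s : G} (hg : IsPPart 2 g x) (hs : IsPPart 2 u s)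
    (hx : x ≠ 1) (hne : ¬ IsConj x s) : ∑ χ ∈ B1 M G, (χ : G → ℂ) g = 0 := by
  haveI := Fact.mk Nat.prime_two
  have hg2 : 2 ∣ orderOf g := by
    by_contra h
    exact hx (isPPart_unique hg (isPPart_one_of_pRegular h))
  obtain ⟨a, ha, -⟩ := exists_int hM hO heven hu hk
  have h0 : ∑ χ ∈ B0 M G, (χ : G → ℂ) g * conj ((χ : G → ℂ) u) = 0 := by
    rw [← finsum_B0]
    exact block_orth_conj hM (PrincipalSection.isPBlock_principalBlock M G) hg hs hne
  rw [Finset.sum_congr rfl (g := fun χ : IrrCharacter G => (χ : G → ℂ) u * (χ : G → ℂ) g)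
    fun χ hχ => by rw [conj_value_u hM hO heven hu hk χ hχ (by rw [ha]; simp), mul_comm]] at h0
  have h := sum_value_mul hM hO heven hu hk g
  rw [h0, orth_one hM hg2, sub_zero, eq_comm, mul_eq_zero] at h
  exact h.resolve_left (k_ne_zero hM hO heven hu hk)

theorem isConj_part {t s : G} (ht : orderOf t = 2) (hs : IsPPart 2 u s) : IsConj t s := by
  classical
  haveI := Fact.mk Nat.prime_two
  by_contra hne
  have hz := sum_B1_eq_zero hM hO heven hu hk
    (isPPart_self_of_pElement (p := 2) (g := t) ⟨1, by rw [ht, pow_one]⟩) hs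
    (fun e => by simp [e] at ht) hne
  obtain ⟨a, -, -, -, hodd⟩ := exists_int hM hO heven hu hk
  choose n hn using fun χ : IrrCharacter G => exists_invo_value (Chars.irr_isCharacter χ) ht
  rw [Finset.sum_congr rfl fun χ _ => hn χ, Finset.sum_sub_distrib,
    Finset.sum_congr rfl (g := fun χ => (deg χ : ℂ)) fun χ _ => deg_eq χ, sub_eq_zero,
    ← Finset.mul_sum] at hz
  have : 2 * ∑ χ ∈ B1 M G, n χ = ∑ χ ∈ B1 M G, deg χ := by exact_mod_cast hz
  omega

theorem orderOf_part {s : G} (hs : IsPPart 2 u s) : orderOf s = 2 := by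
  haveI := Fact.mk Nat.prime_two
  obtain ⟨t, ht⟩ := exists_prime_orderOf_dvd_card' (G := G) 2 heven
  obtain ⟨c, hc⟩ := isConj_iff.1 (isConj_part hM hO heven hu hk ht hs)
  rw [← hc]
  exact (MulEquiv.orderOf_eq (MulAut.conj c) t).trans ht

theorem isConj_invo {a b : G} (ha : orderOf a = 2) (hb : orderOf b = 2) : IsConj a b := by
  haveI := Fact.mk Nat.prime_two
  obtain ⟨s, hs⟩ := Blocks.exists_isPPart (p := 2) u
  exact (isConj_part hM hO heven hu hk ha hs).trans (isConj_part hM hO heven hu hk hb hs).symm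

/-- There is no element of order four. -/
theorem sq_eq_one {x : G} {j : ℕ} (hx : x ^ 2 ^ j = 1) : x * x = 1 := by
  classical
  haveI := Fact.mk Nat.prime_two
  by_contra hxx
  obtain ⟨i, -, hi⟩ := (Nat.dvd_prime_pow Nat.prime_two).1 (orderOf_dvd_of_pow_eq_one hx)
  have hi2 : 2 ≤ i := by
    by_contra h
    refine hxx ?_
    rw [← pow_two]
    refine orderOf_dvd_iff_pow_eq_one.1 ?_
    rw [hi]
    exact (pow_dvd_pow 2 (show i ≤ 1 by omega)).trans (by norm_num)
  set g := x ^ 2 ^ (i - 2) with hg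
  have hgo : orderOf g = 4 := by
    rw [hg, orderOf_pow_of_dvd (by positivity) (hi ▸ pow_dvd_pow 2 (by omega)), hi,
      Nat.pow_div (by omega) (by norm_num), show i - (i - 2) = 2 by omega]
  obtain ⟨s, hs⟩ := Blocks.exists_isPPart (p := 2) u
  have hso := orderOf_part hM hO heven hu hk hs
  have hz : ∀ h : G, orderOf h = 4 → ∑ χ ∈ B1 M G, (χ : G → ℂ) h = 0 := fun h ho =>
    sum_B1_eq_zero hM hO heven hu hk (isPPart_self_of_pElement (p := 2) ⟨2, by rw [ho]; norm_num⟩)
      hs (fun e => by simp [e] at ho) fun hc => by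
        obtain ⟨c, rfl⟩ := isConj_iff.1 hc
        have e : orderOf (c * h * c⁻¹) = 4 := (MulEquiv.orderOf_eq (MulAut.conj c) h).trans ho
        omega
  obtain ⟨a, -, -, -, hodd⟩ := exists_int hM hO heven hu hk
  let θ : G → ℂ := fun h => ∑ χ ∈ B1 M G, (χ : G → ℂ) h
  have hθ : IsCharacter G θ := by
    have h := Chars.isCharacter_sum (B1 M G) (f := fun χ => (χ : G → ℂ))
      fun χ _ => Chars.irr_isCharacter χ
    convert h using 1
    funext y
    simp [θ, Finset.sum_apply]
  set A := Subgroup.zpowers g with hA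
  haveI : Fintype A := Fintype.ofFinite A
  have hres := Chars.isCharacter_restrict A hθ
  obtain ⟨m, hm⟩ := Chars.isCharacter_classInner_nat hres hres
  have hg2 : orderOf (g ^ 2) = 2 := by
    rw [orderOf_pow_of_dvd (by norm_num) (by rw [hgo]; norm_num), hgo]
  obtain ⟨n, hn⟩ := exists_invo_value hθ hg2
  set one' : A := ⟨1, A.one_mem⟩
  set two' : A := ⟨g ^ 2, A.pow_mem (Subgroup.mem_zpowers g) 2⟩
  have hne : one' ≠ two' := fun e => by
    have : g ^ 2 = 1 := (congrArg Subtype.val e).symm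
    rw [this, orderOf_one] at hg2
    omega
  have hcA : Nat.card A = 4 := (Nat.card_zpowers g).trans hgo
  have hzero : ∀ y : A, y ∉ ({one', two'} : Finset A) → θ y = 0 := by
    intro y hy
    simp only [Finset.mem_insert, Finset.mem_singleton, not_or] at hy
    refine hz _ ?_
    obtain ⟨r, hr, hry⟩ : ∃ r : ℕ, r < 4 ∧ g ^ r = (y : G) := by
      obtain ⟨r, hr, e⟩ := ((isOfFinOrder_of_finite g).mem_zpowers_iff_mem_range_orderOf).1 y.2 |>
        Finset.mem_image.1
      exact ⟨r, by rw [← hgo]; exact Finset.mem_range.1 hr, e⟩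
    rw [← hry]
    interval_cases r
    · exact absurd (Subtype.ext (show (y : G) = 1 by simpa using hry.symm)) hy.1
    · rw [pow_one, hgo]
    · exact absurd (Subtype.ext hry.symm) hy.2
    · rw [Nat.Coprime.orderOf_pow (by rw [hgo]; decide), hgo]
  rw [classInner, ← Finset.sum_subset (Finset.subset_univ ({one', two'} : Finset A))
    (fun y _ hy => by rw [hzero y hy, zero_mul]), Finset.sum_pair hne, hcA] at hm
  set S := ∑ χ ∈ B1 M G, deg χ with hS
  have h1 : θ 1 = (S : ℂ) := by simp [θ, hS, deg_eq]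
  change (4 : ℂ)⁻¹ * (θ 1 * conj (θ 1) + θ (g ^ 2) * conj (θ (g ^ 2))) = m at hm
  rw [hn, h1] at hm
  simp only [map_sub, map_mul, map_ofNat, Complex.conj_natCast] at hm
  have h2 : ((S : ℤ) * S + (2 * n - S) * (2 * n - S) : ℂ) = ((4 * m : ℕ) : ℂ) := by
    push_cast
    linear_combination (4 : ℂ) * hm
  have h3 : (S : ℤ) * S + (2 * n - S) * (2 * n - S) = 4 * m := by exact_mod_cast h2
  have h4 : (2 : ℤ) * ((S : ℤ) * S) = 4 * (m - n * n + n * S) := by linarith [h3]
  obtain ⟨c, hc⟩ := Nat.odd_iff.2 (Nat.two_dvd_ne_zero.1 hodd)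
  rw [hc] at h4
  push_cast at h4
  have : (2 : ℤ) * (1 + 4 * (c * c + c)) = 4 * (m - n * n + n * (2 * c + 1)) := by
    linear_combination h4
  omega

/-- The difference is the order of a Sylow 2-subgroup. -/
theorem k_eq_card (P : Sylow 2 G) : k = (Nat.card (P : Subgroup G) : ℂ) := by
  classical
  haveI := Fact.mk Nat.prime_two
  cases nonempty_fintype G
  obtain ⟨a, ha, ha0, hN, hodd⟩ := exists_int hM hO heven hu hk
  set q := Nat.card (P : Subgroup G) with hq
  have hqN : q ∣ a * ∑ χ ∈ B1 M G, deg χ := hN ▸ dvd_sum_sq (M := M) hM P.2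
  obtain ⟨e, he⟩ := P.2.exists_card_eq
  have hqa : q ∣ a := by
    refine Nat.Coprime.dvd_of_dvd_mul_right ?_ hqN
    rw [hq, he]
    exact Nat.Coprime.pow_left _ (Nat.prime_two.coprime_iff_not_dvd.2 hodd)
  have haq : a ∣ q := by
    let δ : G → ℂ := fun x => if 2 ∣ orderOf x then 0 else (q : ℂ)
    have hδ : IsGeneralizedCharacter G δ := by
      have h := Cfsg.Agent.S0961.result 2 (Chars.trivialIrr G)
      convert h using 2
      · simp only [δ, hq, Chars.trivialIrr_apply, mul_one]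
        rw [P.card_eq_multiplicity]
    choose z hz using fun χ : IrrCharacter G =>
      Chars.isGeneralizedCharacter_classInner_int hδ
        (Chars.isGeneralizedCharacter_of_isCharacter (Chars.irr_isCharacter χ))
    have key : ∀ h : G, ∑ χ ∈ B0 M G, (χ : G → ℂ) h * classInner δ (χ : G → ℂ) =
        (Nat.card G : ℂ)⁻¹ * ∑ x : G, δ x * ∑ χ ∈ B0 M G, (χ : G → ℂ) h * conj ((χ : G → ℂ) x) := by
      intro h
      simp only [classInner, Finset.mul_sum]
      rw [Finset.sum_comm]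
      exact Finset.sum_congr rfl fun x _ => Finset.sum_congr rfl fun χ _ => by ring
    have hu0 : ∑ χ ∈ B0 M G, (χ : G → ℂ) u * classInner δ (χ : G → ℂ) = 0 := by
      rw [key]
      refine mul_eq_zero_of_right _ (Finset.sum_eq_zero fun x _ => ?_)
      by_cases hx : 2 ∣ orderOf x
      · simp [δ, hx]
      · have h := congrArg conj (orth_reg_sing (M := M) hM hx (two_dvd_orderOf hM hO heven hu hk))
        simp only [map_sum, map_mul, Complex.conj_conj, map_zero] at h
        refine mul_eq_zero_of_right _ (Eq.trans (Finset.sum_congr rfl fun χ _ => ?_) h)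
        ring
    have hone : ∑ χ ∈ B0 M G, (χ : G → ℂ) 1 * classInner δ (χ : G → ℂ) = (q : ℂ) := by
      rw [key]
      have hx : ∀ x : G, δ x * ∑ χ ∈ B0 M G, (χ : G → ℂ) 1 * conj ((χ : G → ℂ) x) =
          (q : ℂ) * ∑ χ ∈ B0 M G, (χ : G → ℂ) 1 * conj ((χ : G → ℂ) x) := by
        intro x
        by_cases hx : 2 ∣ orderOf x
        · rw [orth_reg_sing (M := M) hM (h := (1 : G)) (by simp) hx]; simp
        · simp [δ, hx]
      rw [Finset.sum_congr rfl fun x _ => hx x, ← Finset.mul_sum, Finset.sum_comm,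
        Finset.sum_eq_single (Chars.trivialIrr G) ?_ (fun h => absurd (triv_mem (M := M)) h)]
      · simp
        field_simp
      · intro χ _ hχ
        have h := Chars.classInner_irr_of_ne (Ne.symm hχ)
        rw [classInner, mul_eq_zero] at h
        have h' := h.resolve_left (inv_ne_zero Chars.natCard_ne_zero)
        simp only [Chars.trivialIrr_apply, one_mul] at h'
        rw [← Finset.mul_sum, h', mul_zero]
    have h : (q : ℂ) = k * ∑ χ ∈ B1 M G, (z χ : ℂ) := by
      rw [← hone, ← sub_zero (∑ χ ∈ B0 M G, _), ← hu0, ← Finset.sum_sub_distrib, sum_B0,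
        Finset.mul_sum]
      simp only [Chars.trivialIrr_apply, sub_self, zero_add]
      exact Finset.sum_congr rfl fun χ hχ => by rw [← sub_mul, hk χ hχ, hz χ]
    rw [ha] at h
    have h' : (q : ℤ) = (a : ℤ) * ∑ χ ∈ B1 M G, z χ := by exact_mod_cast h
    exact Int.natCast_dvd_natCast.1 ⟨_, h'⟩
  rw [ha, Nat.dvd_antisymm haq hqa]

end Diff

end Cfsg.Agent.Lib.B0Diff
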