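import Cfsg.Agent.Lib.B0Diff.Reduce
import Cfsg.Agent.S3360
import Cfsg.Agent.S0205
import Cfsg.Agent.Lib.PSLAut.Kernel
import Mathlib

/-!
A Sylow 2-subgroup, elementary abelian with one class of involutions: field coordinates in which
the part of its normaliser fixing a point acts by field automorphisms.
-/

set_option autoImplicit false
set_option linter.unusedSectionVars false
set_option linter.style.haveILetI false

namespace Cfsg.Agent.Lib.B0Diff

open Cfsg
open Cfsg.Agent.Lib

universe u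

/-- Elementary abelian Sylow 2-subgroups and one class of involutions. -/
structure Elem {G : Type u} [Group G] (P : Sylow 2 G) : Prop where
  two_le : 2 ≤ Nat.card (P : Subgroup G)
  sq : ∀ a ∈ (P : Subgroup G), a * a = 1
  one_class : ∀ a b : G, orderOf a = 2 → orderOf b = 2 → IsConj a b

variable {G : Type u} [Group G]

/-- Conjugation of the normaliser on the subgroup. -/
def conjAut (H : Subgroup G) : Subgroup.normalizer (H : Set G) →* MulAut H where
  toFun g :=
    { toFun := fun v => ⟨(g : G) * v * (g : G)⁻¹, (Subgroup.mem_normalizer_iff.1 g.2 _).1 v.2⟩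
      invFun := fun v => ⟨(g : G)⁻¹ * v * (g : G), by
        have := (Subgroup.mem_normalizer_iff.1 (Subgroup.inv_mem _ g.2) _).1 v.2
        rwa [inv_inv] at this⟩
      left_inv := fun v => Subtype.ext (by simp [mul_assoc])
      right_inv := fun v => Subtype.ext (by simp [mul_assoc])
      map_mul' := fun v w => Subtype.ext (by simp [mul_assoc]) }
  map_one' := MulEquiv.ext fun v => Subtype.ext (by simp)
  map_mul' g h := MulEquiv.ext fun v => Subtype.ext (by simp [mul_assoc])

theorem conjAut_apply (H : Subgroup G) (g : Subgroup.normalizer (H : Set G)) (v : H) :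
    ((conjAut H g v : H) : G) = (g : G) * v * (g : G)⁻¹ := rfl

theorem conjAut_eq_one_iff {H : Subgroup G} (g : Subgroup.normalizer (H : Set G)) :
    conjAut H g = 1 ↔ ∀ v ∈ H, (g : G) * v = v * g := by
  constructor
  · intro h v hv
    have := congrArg Subtype.val (MulEquiv.congr_fun h ⟨v, hv⟩)
    rw [conjAut_apply] at this
    exact mul_inv_eq_iff_eq_mul.1 this
  · intro h
    exact MulEquiv.ext fun v => Subtype.ext (by
      rw [conjAut_apply, h v v.2, mul_inv_cancel_right]; rfl)

namespace Elem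

variable [Finite G] {P : Sylow 2 G} (h : Elem P)
include h

theorem comm {a b : G} (ha : a ∈ (P : Subgroup G)) (hb : b ∈ (P : Subgroup G)) : a * b = b * a := by
  have hinv : ∀ x ∈ (P : Subgroup G), x⁻¹ = x := fun x hx =>
    inv_eq_of_mul_eq_one_right (h.sq x hx)
  have := hinv _ (mul_mem ha hb)
  rw [mul_inv_rev, hinv a ha, hinv b hb] at this
  exact this.symm

theorem isMulCommutative : IsMulCommutative (P : Subgroup G) :=
  ⟨⟨fun a b => Subtype.ext (h.comm a.2 b.2)⟩⟩

theorem le_centralizer :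
    (P : Subgroup G) ≤ Subgroup.centralizer ((P : Subgroup G) : Set G) :=
  fun _ ha => Subgroup.mem_centralizer_iff.2 fun _ hb => h.comm hb ha

theorem orderOf_eq_two {a : G} (ha : a ∈ (P : Subgroup G)) (ha1 : a ≠ 1) : orderOf a = 2 :=
  haveI := Fact.mk Nat.prime_two
  orderOf_eq_prime (by rw [pow_two]; exact h.sq a ha) ha1

/-- Involutions of the Sylow subgroup are conjugate in its normaliser. -/
theorem exists_normalizer_conj {a b : G} (ha : a ∈ (P : Subgroup G)) (ha1 : a ≠ 1)
    (hb : b ∈ (P : Subgroup G)) (hb1 : b ≠ 1) :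
    ∃ n ∈ Subgroup.normalizer ((P : Subgroup G) : Set G), n * a * n⁻¹ = b := by
  haveI := Fact.mk Nat.prime_two
  obtain ⟨c, hc⟩ := isConj_iff.1 (h.one_class a b (h.orderOf_eq_two ha ha1) (h.orderOf_eq_two hb hb1))
  obtain ⟨n, hn, he⟩ := P.conj_eq_normalizer_conj_of_mem_centralizer a c⁻¹
    (h.le_centralizer ha) (by rw [inv_inv, hc]; exact h.le_centralizer hb)
  refine ⟨n⁻¹, Subgroup.inv_mem _ hn, ?_⟩
  rw [inv_inv] at he ⊢
  rw [← he, hc]

theorem odd_card_range : Odd (Nat.card (conjAut (P : Subgroup G)).range) := by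
  rw [← Subgroup.index_ker]
  have hle : (P : Subgroup G).subgroupOf (Subgroup.normalizer ((P : Subgroup G) : Set G)) ≤
      (conjAut (P : Subgroup G)).ker := fun g hg =>
    MonoidHom.mem_ker.2 ((conjAut_eq_one_iff g).2 fun v hv =>
      h.comm (Subgroup.mem_subgroupOf.1 hg) hv)
  rw [Nat.odd_iff, Nat.two_dvd_ne_zero.symm]
  haveI := Fact.mk Nat.prime_two
  exact fun h2 => P.not_dvd_index (h2.trans ((Subgroup.index_dvd_of_le hle).trans
    (Subgroup.relIndex_dvd_index_of_le Subgroup.le_normalizer)))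

theorem nontrivial : Nontrivial (P : Subgroup G) :=
  Finite.one_lt_card_iff_nontrivial.1 h.two_le

/-- Field coordinates based at `t`. -/
theorem exists_coord {t : G} (ht : t ∈ (P : Subgroup G)) (ht1 : t ≠ 1) :
    ∃ (F : Type) (_ : Field F) (_ : Fintype F) (e : Additive (P : Subgroup G) ≃+ F),
      e (Additive.ofMul ⟨t, ht⟩) = 1 ∧
      ∀ g : Subgroup.normalizer ((P : Subgroup G) : Set G), (g : G) * t = t * g →
        ∃ σ : F ≃+* F, ∀ v : (P : Subgroup G),
          e (Additive.ofMul (conjAut (P : Subgroup G) g v)) = σ (e (Additive.ofMul v)) := by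
  classical
  haveI := Fact.mk Nat.prime_two
  letI : CommGroup (P : Subgroup G) :=
    { (inferInstance : Group (P : Subgroup G)) with
      mul_comm := fun a b => Subtype.ext (h.comm a.2 b.2) }
  letI : Module (ZMod 2) (Additive (P : Subgroup G)) := AddCommGroup.zmodModule fun v =>
    show v.toMul ^ 2 = 1 by rw [pow_two]; exact Subtype.ext (h.sq _ v.toMul.2)
  haveI := h.nontrivial
  set Γ := (conjAut (P : Subgroup G)).range with hΓ
  let lin : ∀ φ : MulAut (P : Subgroup G),
      Additive (P : Subgroup G) ≃ₗ[ZMod 2] Additive (P : Subgroup G) := fun φ =>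
    { (MulEquiv.toAdditive φ) with
      map_smul' := fun c v => ZMod.map_smul (MulEquiv.toAdditive φ).toAddMonoidHom c v }
  let ρ : Γ →* (Additive (P : Subgroup G) ≃ₗ[ZMod 2] Additive (P : Subgroup G)) :=
    { toFun := fun φ => lin φ.1
      map_one' := LinearEquiv.ext fun v => rfl
      map_mul' := fun a b => LinearEquiv.ext fun v => rfl }
  have hρ : Function.Injective ρ := fun a b e => Subtype.ext (MulEquiv.ext fun v =>
    congrArg Additive.toMul (LinearEquiv.congr_fun e (Additive.ofMul v)))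
  have htr : ∀ v w : Additive (P : Subgroup G), v ≠ 0 → w ≠ 0 → ∃ g : Γ, ρ g v = w := by
    intro v w hv hw
    obtain ⟨n, hn, he⟩ := h.exists_normalizer_conj v.toMul.2
      (fun e => hv (Additive.toMul.injective (Subtype.ext e))) w.toMul.2
      (fun e => hw (Additive.toMul.injective (Subtype.ext e)))
    exact ⟨⟨_, ⟨n, hn⟩, rfl⟩, Additive.toMul.injective (Subtype.ext he)⟩
  obtain ⟨k, hk⟩ := P.2.exists_card_eq
  obtain ⟨F, iF, iFt, e, he⟩ | hV := Cfsg.Agent.S3360.result 2
    (S0205.result h.odd_card_range) ρ hρ htr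
  swap
  · have h2 := h.two_le
    have : Nat.card (Additive (P : Subgroup G)) = 2 ^ k :=
      (Nat.card_congr Additive.toMul).trans hk
    rw [this] at hV
    have hk0 : k ≠ 0 := fun e0 => by rw [hk, e0] at h2; omega
    have heven : 2 ∣ 2 ^ k := dvd_pow_self 2 hk0
    rcases hV with e0 | e0 | e0 | e0 | e0 | e0 <;> rw [e0] at heven <;> omega
  set x₀ := e (Additive.ofMul ⟨t, ht⟩) with hx₀
  have hx0 : x₀ ≠ 0 := fun e0 => ht1 (congrArg (fun z : Additive (P : Subgroup G) =>
    ((z.toMul : (P : Subgroup G)) : G)) (e.injective (e0.trans (map_zero e).symm)))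
  let e' : Additive (P : Subgroup G) ≃+ F :=
    e.trans { Equiv.mulLeft₀ x₀⁻¹ (inv_ne_zero hx0) with map_add' := fun a b => mul_add _ a b }
  have he' : ∀ v, e' v = x₀⁻¹ * e v := fun v => rfl

  refine ⟨F, iF, iFt, e', by rw [he', ← hx₀, inv_mul_cancel₀ hx0], fun g hg => ?_⟩
  obtain ⟨a, σ, hσ⟩ := he ⟨_, g, rfl⟩
  have hfix : ρ ⟨_, g, rfl⟩ (Additive.ofMul ⟨t, ht⟩) = Additive.ofMul ⟨t, ht⟩ :=
    Additive.toMul.injective (Subtype.ext (by
      show (g : G) * t * (g : G)⁻¹ = t
      rw [hg, mul_inv_cancel_right]))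
  have ha := hσ (Additive.ofMul ⟨t, ht⟩)
  rw [hfix, ← hx₀] at ha
  refine ⟨σ, fun v => ?_⟩
  rw [he', he']
  show x₀⁻¹ * e (ρ ⟨_, g, rfl⟩ (Additive.ofMul v)) = _
  rw [hσ, map_mul, map_inv₀]
  have hs : σ x₀ ≠ 0 := fun e0 => hx0 (σ.injective (e0.trans (map_zero σ).symm))
  have haeq : a = x₀ * (σ x₀)⁻¹ := (eq_mul_inv_iff_mul_eq₀ hs).2 ha.symm
  rw [haeq]
  field_simp

/-- The automiser of an involution is no larger than the degree of the field. -/
theorem relIndex_le {t : G} (ht : t ∈ (P : Subgroup G)) (ht1 : t ≠ 1) {n : ℕ}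
    (hn : Nat.card (P : Subgroup G) = 2 ^ n) :
    (Subgroup.centralizer ((P : Subgroup G) : Set G)).relIndex
      (Subgroup.normalizer ((P : Subgroup G) : Set G) ⊓ Subgroup.centralizer ({t} : Set G)) ≤ n := by
  classical
  haveI := Fact.mk Nat.prime_two
  obtain ⟨F, _, _, e, -, he⟩ := h.exists_coord ht ht1
  set L := Subgroup.normalizer ((P : Subgroup G) : Set G) ⊓ Subgroup.centralizer ({t} : Set G)
  haveI : Finite (F ≃+* F) := Finite.of_injective _ DFunLike.coe_injective
  have hcard : Nat.card (F ≃+* F) = n := by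
    refine PSLAut.card_ringEquiv (p := 2) ?_
    rw [← Nat.card_eq_fintype_card, ← hn]
    exact Nat.card_congr (e.toEquiv.symm.trans Additive.toMul)
  have hmem : ∀ g : L, (g : G) * t = t * g := fun g =>
    Subgroup.mem_centralizer_singleton_iff.1 (Subgroup.mem_inf.1 g.2).2
  choose σ hσ using fun g : L => he ⟨g, (Subgroup.mem_inf.1 g.2).1⟩ (hmem g)
  rw [← hcard]
  refine (Nat.card_le_card_of_injective
    (fun c : L ⧸ (Subgroup.centralizer ((P : Subgroup G) : Set G)).subgroupOf L => σ c.out)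
    fun c d hcd => ?_)
  rw [← c.out_eq', ← d.out_eq']
  refine QuotientGroup.eq.2 (Subgroup.mem_subgroupOf.2 (Subgroup.mem_centralizer_iff.2 fun v hv => ?_))
  have h1 := congrArg Additive.toMul (e.injective
    ((hσ c.out ⟨v, hv⟩).trans ((congrArg (fun s : F ≃+* F => s (e (Additive.ofMul ⟨v, hv⟩))) hcd).trans
      (hσ d.out ⟨v, hv⟩).symm)))
  have h2 : (c.out : G) * v * (c.out : G)⁻¹ = (d.out : G) * v * (d.out : G)⁻¹ :=
    congrArg Subtype.val h1
  push_cast
  calc v * ((c.out : G)⁻¹ * (d.out : G)) = (c.out : G)⁻¹ * ((c.out : G) * v * (c.out : G)⁻¹) *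
        (d.out : G) := by group
    _ = (c.out : G)⁻¹ * ((d.out : G) * v * (d.out : G)⁻¹) * (d.out : G) := by rw [h2]
    _ = (c.out : G)⁻¹ * (d.out : G) * v := by group

/-- An element acting nontrivially with a fixed point fixes few points. -/
theorem card_fixed_pow_three_le {t g : G} (ht : t ∈ (P : Subgroup G)) (ht1 : t ≠ 1)
    (hg : g ∈ Subgroup.normalizer ((P : Subgroup G) : Set G)) (hgt : g * t = t * g)
    (hne : g ∉ Subgroup.centralizer ((P : Subgroup G) : Set G)) :
    Nat.card ((P : Subgroup G) ⊓ Subgroup.centralizer ({g} : Set G) : Subgroup G) ^ 3 ≤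
      Nat.card (P : Subgroup G) := by
  classical
  obtain ⟨F, _, _, e, -, he⟩ := h.exists_coord ht ht1
  obtain ⟨σ, hσ⟩ := he ⟨g, hg⟩ hgt
  haveI : Finite (F ≃+* F) := Finite.of_injective _ DFunLike.coe_injective
  have hpow : ∀ (i : ℕ) (v : (P : Subgroup G)),
      e (Additive.ofMul (conjAut (P : Subgroup G) (⟨g, hg⟩ ^ i) v)) =
        (σ ^ i) (e (Additive.ofMul v)) := by
    intro i
    induction i with
    | zero => intro v; simp
    | succ i ih => intro v; rw [pow_succ', map_mul, MulAut.mul_apply, hσ, ih, pow_succ']; rfl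
  have hodd : Odd (orderOf σ) := by
    refine h.odd_card_range.of_dvd_nat ?_
    refine dvd_trans ?_ (Subgroup.orderOf_dvd_natCard _ (⟨⟨g, hg⟩, rfl⟩ :
      conjAut (P : Subgroup G) ⟨g, hg⟩ ∈ (conjAut (P : Subgroup G)).range))
    refine orderOf_dvd_of_pow_eq_one (RingEquiv.ext fun x => ?_)
    have := hpow (orderOf (conjAut (P : Subgroup G) ⟨g, hg⟩)) (e.symm x).toMul
    rw [map_pow, pow_orderOf_eq_one] at this
    simpa using this.symm
  have hσ1 : σ ≠ 1 := fun e1 => hne (Subgroup.mem_centralizer_iff.2 fun v hv => by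
    have := hσ ⟨v, hv⟩
    rw [e1] at this
    have h2 : g * v * g⁻¹ = v := congrArg Subtype.val (Additive.ofMul.injective (e.injective this))
    exact (mul_inv_eq_iff_eq_mul.1 h2).symm)
  have hord : 3 ≤ orderOf σ := by
    have h0 := orderOf_pos σ
    have h1 : orderOf σ ≠ 1 := fun e1 => hσ1 (orderOf_eq_one_iff.1 e1)
    obtain ⟨m, hm⟩ := hodd
    omega
  set H := Subgroup.zpowers σ
  haveI : Fintype H := Fintype.ofFinite _
  set K := FixedPoints.subfield H F
  have hK : Nat.card F = Nat.card K ^ orderOf σ := by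
    rw [Module.natCard_eq_pow_finrank (K := K) (V := F), FixedPoints.finrank_eq_card H F,
      ← Nat.card_eq_fintype_card, Nat.card_zpowers]
  have hF : Nat.card F = Nat.card (P : Subgroup G) :=
    Nat.card_congr (e.toEquiv.symm.trans Additive.toMul)
  refine le_trans (Nat.pow_le_pow_left ?_ 3)
    (le_trans (Nat.pow_le_pow_right Nat.card_pos hord) (hF ▸ hK.ge))
  have hmem : ∀ v : ↥((P : Subgroup G) ⊓ Subgroup.centralizer ({g} : Set G)),
      e (Additive.ofMul ⟨v, (Subgroup.mem_inf.1 v.2).1⟩) ∈ K := by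
    intro v s
    obtain ⟨i, hi⟩ := Subgroup.mem_zpowers_iff.1 s.2
    have hfix : σ (e (Additive.ofMul ⟨v, (Subgroup.mem_inf.1 v.2).1⟩)) =
        e (Additive.ofMul ⟨v, (Subgroup.mem_inf.1 v.2).1⟩) := by
      rw [← hσ]
      refine congrArg e (congrArg Additive.ofMul (Subtype.ext ?_))
      show g * (v : G) * g⁻¹ = v
      rw [← Subgroup.mem_centralizer_singleton_iff.1 (Subgroup.mem_inf.1 v.2).2, mul_inv_cancel_right]
    show (s : F ≃+* F) _ = _
    rw [← hi]
    exact MulAction.mem_stabilizer_iff.1 (Subgroup.zpow_mem _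
      (MulAction.mem_stabilizer_iff.2 hfix : σ ∈ MulAction.stabilizer (F ≃+* F) _) i)
  refine Nat.card_le_card_of_injective (fun v => (⟨_, hmem v⟩ : K)) fun v w hvw => ?_
  exact Subtype.ext (congrArg (fun z : Additive (P : Subgroup G) => ((z.toMul : (P : Subgroup G)) : G))
    (e.injective (congrArg Subtype.val hvw)))

end Elem

end Cfsg.Agent.Lib.B0Diff
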