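import Cfsg.Agent.Lib.B0Diff.Structure
import Cfsg.Agent.Lib.PowerCongr.Basic
import Cfsg.Agent.Lib.GaloisPos.Basic
import Mathlib

/-!
With soluble involution centralisers, the centraliser of an involution is the Sylow 2-subgroup.
-/

set_option autoImplicit false
set_option linter.unusedSectionVars false
set_option linter.style.haveILetI false

namespace Cfsg.Agent.Lib.B0Diff

open Cfsg
open Cfsg.Agent.Lib
open Cfsg.Agent.Lib.Blocks

universe u

theorem arith_small {k i d : ℕ} (hi : 1 ≤ i) (hik : 3 * i ≤ k) (hd : d ≤ k)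
    (h : 2 ^ k ≤ 2 ^ i + (2 ^ i - 1) ^ 2 * d) : False := by
  have h' : 2 ^ k ≤ 2 ^ i + (2 ^ i - 1) ^ 2 * k :=
    h.trans (Nat.add_le_add_left (Nat.mul_le_mul_left _ hd) _)
  rcases Nat.lt_or_ge k 12 with hk | hk
  · have : i ≤ 3 := by omega
    interval_cases i <;> interval_cases k <;> norm_num at h'
  · obtain ⟨m, hm⟩ : ∃ m, k = 2 * i + m := ⟨k - 2 * i, by omega⟩
    have hkm : k + 2 ≤ 2 ^ m := by
      have hm4 : 4 ≤ m := by omega
      have : 3 * m + 2 ≤ 2 ^ m := by
        clear hm hk h' h hd hik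
        induction m, hm4 using Nat.le_induction with
        | base => norm_num
        | succ j hj ih => rw [pow_succ]; omega
      omega
    have h1 : (2 ^ i - 1) ^ 2 * k ≤ 2 ^ (2 * i) * k := by
      refine Nat.mul_le_mul_right _ ?_
      rw [mul_comm 2 i, pow_mul]
      exact Nat.pow_le_pow_left (Nat.sub_le _ _) 2
    have h2 : 2 ^ i ≤ 2 ^ (2 * i) := Nat.pow_le_pow_right (by norm_num) (by omega)
    have h3 : 2 ^ (2 * i) * (k + 2) ≤ 2 ^ k := by
      conv_rhs => rw [hm, pow_add]
      exact Nat.mul_le_mul_left _ hkm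
    have : 0 < 2 ^ (2 * i) := by positivity
    nlinarith

namespace DiffData

variable {G : Type u} [Group G] [Finite G] {M : Ideal AlgInt} [M.IsPrime] {P : Sylow 2 G}
variable (h : DiffData M G P)
include h

theorem value_ne_zero {χ : IrrCharacter G} (hχ : χ ∈ A0 M P) {t z : G} (ht : orderOf t = 2)
    (hc : Commute t z) {r : ℕ} (hr : r.Prime) (hodd : Odd r) (hz : z ^ r = 1) :
    (χ : G → ℂ) (t * z) ≠ 0 := by
  intro h0
  have hpow : (t * z) ^ r = t := by
    obtain ⟨m, rfl⟩ := hodd
    rw [hc.mul_pow, hz, mul_one, pow_succ, pow_mul,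
      show t ^ 2 = 1 from ht ▸ pow_orderOf_eq_one t, one_pow, one_mul]
  obtain ⟨γ, hγ⟩ := PowerCongr.pow_congr hr 1 (Chars.irr_isCharacter χ) (t * z)
  rw [pow_one, h0, zero_pow hr.ne_zero, hpow, h.value_A0 hχ ht] at hγ
  refine PowerCongr.not_congrMod_natCast hr (n := 1) (fun hd => hr.ne_one (Nat.dvd_one.1 hd))
    ⟨γ, ?_⟩
  push_cast
  linear_combination hγ

variable (hsolv : ∀ t : G, orderOf t = 2 → Group.IsSolvable (Subgroup.centralizer ({t} : Set G)))
include hsolv

/-- The centraliser of an involution of the Sylow subgroup is that subgroup. -/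
theorem centralizer_eq {t : G} (ht : t ∈ (P : Subgroup G)) (ht1 : t ≠ 1) :
    Subgroup.centralizer ({t} : Set G) = (P : Subgroup G) := by
  classical
  haveI := Fact.mk Nat.prime_two
  cases nonempty_fintype G
  have he := h.elem
  have ht2 := he.orderOf_eq_two ht ht1
  obtain ⟨hn, hcP⟩ := h.centralizer_structure hsolv ht ht1
  set C := Subgroup.centralizer ({t} : Set G) with hC
  haveI : Fintype C := Fintype.ofFinite _
  have hPC : (P : Subgroup G) ≤ C := fun a ha =>
    Subgroup.mem_centralizer_singleton_iff.2 (he.comm ha ht)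
  obtain ⟨k, hk⟩ := P.2.exists_card_eq
  set d := (P : Subgroup G).relIndex C with hd
  have hCcard : Nat.card C = Nat.card (P : Subgroup G) * d := by
    rw [← Nat.card_congr (Subgroup.subgroupOfEquivOfLe hPC).toEquiv, hd, Subgroup.relIndex,
      Subgroup.card_mul_index]
  have hdk : d ≤ k := by
    have h1 := he.relIndex_le ht ht1 hk
    rwa [inf_eq_right.2 hn, le_antisymm hcP he.le_centralizer] at h1
  have hdodd : ¬ 2 ∣ d := fun h2 =>
    P.not_dvd_index (h2.trans (Subgroup.relIndex_dvd_index_of_le hPC))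
  obtain ⟨d', hd', hd0, hda, hbound⟩ := h.card_bound ht2 (K := C) rfl
  rw [h.sum_sq_centralizer hsolv ht ht1, hCcard] at hd'
  rw [← Nat.eq_of_mul_eq_mul_left Nat.card_pos hd'] at hbound hda
  by_contra hne
  have hd1 : d ≠ 1 := fun e => hne (le_antisymm (Subgroup.relIndex_eq_one.1 e) hPC)
  obtain ⟨r, hr, hrd⟩ := Nat.exists_prime_and_dvd hd1
  haveI := Fact.mk hr
  have hrodd : Odd r := hr.odd_of_ne_two fun e => hdodd (e ▸ hrd)
  obtain ⟨y, hy⟩ := exists_prime_orderOf_dvd_card' (G := C) r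
    (hCcard ▸ hrd.trans (dvd_mul_left _ _))
  have hyo : orderOf (y : G) = r := by rw [Subgroup.orderOf_coe, hy]
  have hty : Commute t (y : G) := (Subgroup.mem_centralizer_singleton_iff.1 y.2).symm
  have hyP : (y : G) ∉ (P : Subgroup G) := fun hy' => by
    rcases eq_or_ne (y : G) 1 with e | e
    · rw [e, orderOf_one] at hyo; exact hr.ne_one hyo.symm
    · have := he.orderOf_eq_two hy' e
      rw [hyo] at this
      subst this
      exact absurd hrodd (by decide)
  have hyc : (y : G) ∉ Subgroup.centralizer ((P : Subgroup G) : Set G) := fun h' => hyP (hcP h')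
  set E := (P : Subgroup G) ⊓ Subgroup.centralizer ({(y : G)} : Set G) with hE
  have hE3 : Nat.card E ^ 3 ≤ Nat.card (P : Subgroup G) :=
    he.card_fixed_pow_three_le ht ht1 (hn y.2) hty.eq.symm hyc
  -- the centraliser of `t y`
  set H := C ⊓ Subgroup.centralizer ({(y : G)} : Set G) with hH
  have hHcard : Nat.card H ≤ Nat.card E * d := by
    have h1 : Nat.card H = Nat.card ((P : Subgroup G).subgroupOf H) *
        (P : Subgroup G).relIndex H := (Subgroup.card_mul_index _).symm
    rw [h1]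
    refine Nat.mul_le_mul ?_ (Subgroup.relIndex_le_of_le_right inf_le_left
      Subgroup.index_ne_zero_of_finite)
    refine Nat.card_le_card_of_injective
      (fun z : (P : Subgroup G).subgroupOf H => (⟨((z : H) : G),
        Subgroup.mem_subgroupOf.1 z.2, (Subgroup.mem_inf.1 (z : H).2).2⟩ : E)) fun a b e => ?_
    exact Subtype.ext (Subtype.ext (congrArg Subtype.val e :))
  set s : Finset G := (Finset.Ioo 0 r).image fun j => t * (y : G) ^ j with hs
  have hscard : s.card = r - 1 := by
    rw [hs, Finset.card_image_of_injOn, Nat.card_Ioo, Nat.sub_zero]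
    intro a ha b hb hab
    rw [Finset.coe_Ioo, Set.mem_Ioo] at ha hb
    exact pow_injOn_Iio_orderOf (by rw [Set.mem_Iio, hyo]; omega)
      (by rw [Set.mem_Iio, hyo]; omega) (mul_left_cancel hab)
  have hclosed : ∀ m : ℕ, m.Coprime (Nat.card G) → ∀ g ∈ s, g ^ m ∈ s := by
    intro m hm g hg
    obtain ⟨j, hj, rfl⟩ := Finset.mem_image.1 hg
    rw [Finset.mem_Ioo] at hj
    have hmodd : Odd m := Nat.coprime_two_right.1 (hm.coprime_dvd_right h.even)
    have hmr : m.Coprime r :=
      hm.coprime_dvd_right (hyo ▸ orderOf_dvd_natCard (y : G))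
    refine Finset.mem_image.2 ⟨j * m % r, Finset.mem_Ioo.2 ⟨Nat.pos_of_ne_zero fun e => ?_,
      Nat.mod_lt _ hr.pos⟩, ?_⟩
    · rcases (Nat.Prime.dvd_mul hr).1 (Nat.dvd_of_mod_eq_zero e) with h' | h'
      · exact absurd (Nat.le_of_dvd hj.1 h') (by omega)
      · exact hr.ne_one (Nat.Coprime.eq_one_of_dvd hmr.symm h')
    · obtain ⟨l, rfl⟩ := hmodd
      rw [(hty.pow_right j).mul_pow, ← pow_mul, pow_succ t, pow_mul t,
        show t ^ 2 = 1 from ht2 ▸ pow_orderOf_eq_one t, one_pow, one_mul]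
      conv_lhs => rw [← hyo, pow_mod_orderOf]
  have hsum : ∀ g ∈ s, ∑ χ ∈ B0 M G, Complex.normSq ((χ : G → ℂ) g) = (Nat.card H : ℝ) := by
    intro g hg
    obtain ⟨j, hj, rfl⟩ := Finset.mem_image.1 hg
    rw [Finset.mem_Ioo] at hj
    have hx2 : ∃ i : ℕ, orderOf t = 2 ^ i := ⟨1, by rw [ht2, pow_one]⟩
    have hjr : j.Coprime r := (hr.coprime_iff_not_dvd.2 fun hd => by
      have := Nat.le_of_dvd hj.1 hd; omega).symm
    have hyj : ¬ 2 ∣ orderOf (y ^ j) := by
      intro h2
      have := h2.trans (orderOf_pow_dvd j)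
      rw [hy] at this
      exact Nat.two_dvd_ne_zero.2 (Nat.odd_iff.1 hrodd) this
    have h1 := PrincipalSection.sum_norm_sq_eq h.modular hx2
      (PrincipalInner.secondMain_holds h.modular hx2) (y ^ j) hyj
    rw [finsum_mem_eq_finite_toFinset_sum _ (Set.toFinite _),
      finsum_mem_eq_finite_toFinset_sum _ (Set.toFinite _)] at h1
    have huniv : (Set.toFinite (principalBlock M C)).toFinset = Finset.univ :=
      Finset.eq_univ_of_forall fun ξ => (Set.Finite.mem_toFinset _).2
        (h.mem_principalBlock_centralizer hsolv ht ht1 ξ)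
    rw [huniv] at h1
    have hcol := Chars.column_orthogonality_of_isConj (G := C) (IsConj.refl (y ^ j))
    have hH' : Nat.card (Subgroup.centralizer ({y ^ j} : Set C)) = Nat.card H := by
      refine Nat.card_congr
        { toFun := fun z => ⟨((z : C) : G), (z : C).2, ?_⟩
          invFun := fun z => ⟨⟨z, z.2.1⟩, ?_⟩
          left_inv := fun z => rfl
          right_inv := fun z => rfl }
      · obtain ⟨i, hi⟩ := exists_pow_eq_self_of_coprime (x := y) (by rw [hy]; exact hjr)
        have h1 : Commute (z : C) (y ^ j) := Subgroup.mem_centralizer_singleton_iff.1 z.2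
        have h2 := h1.pow_right i
        rw [hi] at h2
        exact Subgroup.mem_centralizer_singleton_iff.2 (congrArg Subtype.val h2.eq)
      · have h1 : Commute (⟨(z : G), z.2.1⟩ : C) y :=
          Subtype.ext (Subgroup.mem_centralizer_singleton_iff.1 z.2.2)
        exact Subgroup.mem_centralizer_singleton_iff.2 (h1.pow_right j).eq
    rw [← hH']
    refine Eq.trans (Finset.sum_congr rfl fun χ _ => ?_) (h1.trans ?_)
    · rw [Complex.normSq_eq_norm_sq, Subgroup.coe_pow]
    · apply Complex.ofReal_injective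
      push_cast
      rw [← hcol]
      refine Finset.sum_congr rfl fun ξ _ => ?_
      rw [Complex.mul_conj, Complex.normSq_eq_norm_sq]
      push_cast
      rfl
  have hA : ((A0 M P).card + 1) * (r - 1) ≤ Nat.card H * (r - 1) := by
    have hlow : ∀ χ ∈ insert (Chars.trivialIrr G) (A0 M P),
        ((r - 1 : ℕ) : ℝ) ≤ ∑ g ∈ s, Complex.normSq ((χ : G → ℂ) g) := by
      intro χ hχ
      refine le_trans (le_of_eq ?_) (GaloisPos.card_ne_zero_le_sum_normSq (Chars.irr_isCharacter χ) s
        hclosed)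
      rw [Finset.filter_true_of_mem, hscard]
      intro g hg
      obtain ⟨j, hj, rfl⟩ := Finset.mem_image.1 hg
      rcases Finset.mem_insert.1 hχ with rfl | hχ
      · simp
      · exact h.value_ne_zero hχ ht2 (hty.pow_right j) hr hrodd (by
          rw [← pow_mul, mul_comm, pow_mul, ← hyo, pow_orderOf_eq_one, one_pow])
    have hsub : insert (Chars.trivialIrr G) (A0 M P) ⊆ B0 M G := by
      intro χ hχ
      rcases Finset.mem_insert.1 hχ with rfl | hχ
      · exact triv_mem
      · exact mem_B0.2 (mem_B1.1 (mem_A0.1 hχ).1).1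
    have h1 : ((A0 M P).card + 1 : ℕ) • ((r - 1 : ℕ) : ℝ) ≤
        ∑ χ ∈ B0 M G, ∑ g ∈ s, Complex.normSq ((χ : G → ℂ) g) := by
      rw [← Finset.card_insert_of_notMem (a := Chars.trivialIrr G) (s := A0 M P) fun h' =>
        (mem_B1.1 (mem_A0.1 h').1).2 rfl]
      exact (Finset.card_nsmul_le_sum _ _ _ hlow).trans
        (Finset.sum_le_sum_of_subset_of_nonneg hsub fun χ _ _ =>
          Finset.sum_nonneg fun g _ => Complex.normSq_nonneg _)
    rw [Finset.sum_comm, Finset.sum_congr rfl hsum, Finset.sum_const, hscard, nsmul_eq_mul,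
      nsmul_eq_mul, mul_comm ((r - 1 : ℕ) : ℝ) (Nat.card H : ℝ)] at h1
    exact_mod_cast h1
  have haH : (A0 M P).card + 1 ≤ Nat.card E * d :=
    (Nat.le_of_mul_le_mul_right hA (by have := hr.two_le; omega)).trans hHcard
  obtain ⟨i, hi⟩ := (P.2.to_le (inf_le_left : E ≤ (P : Subgroup G))).exists_card_eq
  rw [hi] at hE3 haH
  rw [hk] at hE3 hbound
  rw [← pow_mul, Nat.pow_le_pow_iff_right (by norm_num : 1 < 2)] at hE3
  have hi1 : 1 ≤ i := by
    rcases Nat.eq_zero_or_pos i with rfl | h'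
    · have : (⟨t, ht, Subgroup.mem_centralizer_singleton_iff.2 hty.eq⟩ : E) = 1 :=
        ((Nat.card_eq_one_iff_unique.1 (hi.trans (pow_zero 2))).1.elim _ _)
      exact absurd (congrArg Subtype.val this) ht1
    · exact h'
  have hi' : 1 ≤ 2 ^ i := Nat.one_le_two_pow
  refine arith_small hi1 (by omega) hdk ?_
  -- `q d ≤ e d + ((e - 1) d)²`
  have h1 : (A0 M P).card - d ≤ (2 ^ i - 1) * d := by
    rw [Nat.sub_mul, one_mul]; omega
  have h2 : 2 ^ k * d ≤ (2 ^ i + (2 ^ i - 1) ^ 2 * d) * d := by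
    calc 2 ^ k * d ≤ 1 + (A0 M P).card + ((A0 M P).card - d) ^ 2 := hbound
      _ ≤ 2 ^ i * d + ((2 ^ i - 1) * d) ^ 2 :=
          Nat.add_le_add (by omega) (Nat.pow_le_pow_left h1 2)
      _ = (2 ^ i + (2 ^ i - 1) ^ 2 * d) * d := by ring
  exact Nat.le_of_mul_le_mul_right h2 (Nat.pos_of_ne_zero fun e => hdodd (e ▸ dvd_zero 2))

end DiffData

end Cfsg.Agent.Lib.B0Diff
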