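import Cfsg.Agent.Lib.B0Diff.Basic
import Cfsg.Agent.Lib.Blocks.KleinPrincipal
import Mathlib

/-!
The principal 2-block with Klein four Sylow subgroups, one class of involutions and nilpotent
centralisers modulo cores: the relations among the characters on the regular elements.
-/

set_option autoImplicit false
set_option linter.unusedSectionVars false
set_option linter.style.haveILetI false

namespace Cfsg.Agent.Lib.B0Diff

open Cfsg
open Cfsg.Agent.Lib
open Cfsg.Agent.Lib.Blocks
open scoped ComplexConjugate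

universe u

/-- The hypotheses. -/
structure KleinData {K : Type u} [Group K] (M : Ideal AlgInt) (T : Sylow 2 K) (z : K) : Prop where
  modular : IsPModular 2 M
  klein : IsKleinFour (T : Subgroup K)
  one_class : ∀ a b : K, orderOf a = 2 → orderOf b = 2 → IsConj a b
  mem : z ∈ (T : Subgroup K)
  order : orderOf z = 2
  odd_core : ∀ y : K, Commute y z → ¬ 2 ∣ orderOf y → y ∈ centralizerPPrimeCore 2 z

open Classical in
/-- The values at the involution. -/
noncomputable def colAt {K : Type u} [Group K] (z : K) (ζ : IrrCharacter K) : ℤ :=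
  if (ζ : K → ℂ) z = 1 then 1 else -1

namespace KleinData

variable {K : Type u} [Group K] [Finite K] {M : Ideal AlgInt} [M.IsPrime] {T : Sylow 2 K} {z : K}
variable (h : KleinData M T z)
include h

theorem col_spec : (∀ ζ ∈ B0 M K, (ζ : K → ℂ) z = (colAt z ζ : ℂ) ∧ colAt z ζ * colAt z ζ = 1 ∧
      (2 : ℤ) ∣ (deg ζ : ℤ) - colAt z ζ) ∧
    (B0 M K).card = 4 ∧ 12 ≤ ∑ ζ ∈ B0 M K, deg ζ ^ 2 := by
  classical
  haveI := Fact.mk Nat.prime_two
  obtain ⟨a, b, c, ε, hε, ha, hb, hab, hac, hbc, hB, hval, h4a, h4b, h4c, -⟩ :=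
    PrincipalSection.klein_principal h.modular T h.klein h.one_class
      fun x hx => PrincipalInner.secondMain_holds h.modular ⟨1, by rw [hx, pow_one]⟩
  obtain ⟨hza, hzb, hzc⟩ := hval z h.order
  have hc1 : (c : K → ℂ) ≠ fun _ => 1 := fun e => by
    rw [e] at hzc
    norm_num at hzc
  have hset : B0 M K = {Chars.trivialIrr K, a, b, c} := by
    ext χ
    rw [mem_B0, hB]
    simp only [Set.mem_ofPred_eq, Finset.mem_insert, Finset.mem_singleton]
    exact or_congr ⟨fun e => Subtype.ext e, fun e => by rw [e]; rfl⟩ Iff.rfl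
  have hta : Chars.trivialIrr K ≠ a := fun e => ha (by rw [← e]; rfl)
  have htb : Chars.trivialIrr K ≠ b := fun e => hb (by rw [← e]; rfl)
  have htc : Chars.trivialIrr K ≠ c := fun e => hc1 (by rw [← e]; rfl)
  refine ⟨fun ζ hζ => ?_, ?_, ?_⟩
  · have h1 : colAt z (Chars.trivialIrr K) = 1 := if_pos rfl
    have ha' : colAt z a = 1 := if_pos hza
    have hc' : colAt z c = -1 := if_neg (by rw [hzc]; norm_num)
    have hb' : colAt z b = ε := by
      rcases hε with e | e
      · rw [colAt, if_pos (by rw [hzb, e, Int.cast_one]), e]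
      · rw [colAt, if_neg (by rw [hzb, e]; norm_num), e]
    rw [hset] at hζ
    simp only [Finset.mem_insert, Finset.mem_singleton] at hζ
    have hd : ∀ χ : IrrCharacter K, deg χ = charDegree (χ : K → ℂ) := fun χ => rfl
    rcases hζ with e | e | e | e <;> subst e
    · refine ⟨by rw [h1]; simp, by rw [h1]; rfl, ?_⟩
      rw [h1]
      simp [deg, charDegree]
    · refine ⟨by rw [ha', hza]; simp, by rw [ha']; rfl, ?_⟩
      rw [ha', hd]
      exact dvd_trans (by norm_num) h4a
    · refine ⟨by rw [hb', hzb], ?_, ?_⟩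
      · rw [hb']; rcases hε with e | e <;> rw [e] <;> rfl
      · rw [hb', hd]
        exact dvd_trans (by norm_num) h4b
    · refine ⟨by rw [hc', hzc]; simp, by rw [hc']; rfl, ?_⟩
      rw [hc', hd, sub_neg_eq_add]
      exact dvd_trans (by norm_num) h4c
  · rw [hset]
    simp [hta, htb, htc, hab, hac, hbc]
  · rw [hset, Finset.sum_insert (by simp [hta, htb, htc]), Finset.sum_insert (by simp [hab, hac]),
      Finset.sum_insert (by simp [hbc]), Finset.sum_singleton]
    have h3 : 3 ≤ deg c := by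
      have := deg_pos c
      obtain ⟨k, hk⟩ := h4c
      have hdc : deg c = charDegree (c : K → ℂ) := rfl
      omega
    have := Nat.pow_le_pow_left h3 2
    have := Nat.pow_le_pow_left (deg_pos (Chars.trivialIrr K)) 2
    have := Nat.pow_le_pow_left (deg_pos a) 2
    have := Nat.pow_le_pow_left (deg_pos b) 2
    simp only [Nat.one_pow] at *
    omega

theorem value_col {ζ : IrrCharacter K} (hζ : ζ ∈ B0 M K) : (ζ : K → ℂ) z = (colAt z ζ : ℂ) :=
  (h.col_spec.1 ζ hζ).1

theorem col_sq {ζ : IrrCharacter K} (hζ : ζ ∈ B0 M K) : colAt z ζ * colAt z ζ = 1 :=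
  (h.col_spec.1 ζ hζ).2.1

/-- The column vanishes on the regular elements. -/
theorem sum_col_eq_zero {y : K} (hy : ¬ 2 ∣ orderOf y) :
    ∑ ζ ∈ B0 M K, (colAt z ζ : ℂ) * (ζ : K → ℂ) y = 0 := by
  have h0 := orth_reg_sing (M := M) h.modular hy (g := z) (by rw [h.order])
  refine Eq.trans (Finset.sum_congr rfl fun ζ hζ => ?_) h0
  rw [h.value_col hζ, map_intCast, mul_comm]

/-- On singular elements the characters take their values at the involution. -/
theorem value_singular {ζ : IrrCharacter K} (hζ : ζ ∈ B0 M K) {g : K} (hg : 2 ∣ orderOf g) :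
    (ζ : K → ℂ) g = (colAt z ζ : ℂ) := by
  haveI := Fact.mk Nat.prime_two
  obtain ⟨x, hx⟩ := Blocks.exists_isPPart (p := 2) g
  have hx1 : x ≠ 1 := isPPart_ne_one hx hg
  obtain ⟨v, hxv, hcomm, ⟨k, hk⟩, hv⟩ := hx
  have hxord : orderOf x = 2 := by
    obtain ⟨Q, hQ⟩ := (IsPGroup.of_card (p := 2) (n := k) (G := Subgroup.zpowers x)
      (by rw [Nat.card_zpowers, hk])).exists_le_sylow
    let φ : Q ≃* (T : Subgroup K) := Q.equiv T
    haveI := h.klein
    have : (⟨x, hQ (Subgroup.mem_zpowers x)⟩ : Q) ^ 2 = 1 :=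
      φ.injective (by rw [map_pow, map_one, pow_two, IsKleinFour.mul_self])
    exact orderOf_eq_prime (congrArg Subtype.val this) hx1
  obtain ⟨c, hc⟩ := isConj_iff.1 (h.one_class x z hxord h.order)
  have hvz : Commute (c * v * c⁻¹) z := by
    rw [← hc]
    exact (hcomm.symm.map (MulAut.conj c).toMonoidHom)
  have hcore := h.odd_core _ hvz (by
    rwa [show orderOf (c * v * c⁻¹) = orderOf v from
      orderOf_injective (MulAut.conj c).toMonoidHom (MulAut.conj c).injective v])
  have h3 := PrincipalSection.apply_mul_eq h.modular (u := z) ⟨1, by rw [h.order, pow_one]⟩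
    (PrincipalInner.secondMain_holds h.modular ⟨1, by rw [h.order, pow_one]⟩) hcore (mem_B0.1 hζ)
  rw [← h.value_col hζ, ← h3, ← hc,
    show c * x * c⁻¹ * (c * v * c⁻¹) = c * (x * v) * c⁻¹ by group,
    Chars.irr_isClassFunction ζ (x * v) c, hxv]

/-- A combination vanishing on the regular elements is a multiple of the column. -/
theorem eq_mul_col (v : IrrCharacter K → ℂ)
    (hv : ∀ y : K, ¬ 2 ∣ orderOf y → ∑ ζ ∈ B0 M K, v ζ * (ζ : K → ℂ) y = 0) :
    ∃ c : ℂ, ∀ ζ ∈ B0 M K, v ζ = c * (colAt z ζ : ℂ) := by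
  classical
  cases nonempty_fintype K
  refine ⟨(∑ ζ ∈ B0 M K, v ζ * (colAt z ζ : ℂ)) / 4, fun ζ₀ hζ₀ => ?_⟩
  set c := (∑ ζ ∈ B0 M K, v ζ * (colAt z ζ : ℂ)) / 4 with hc
  let w : IrrCharacter K → ℂ := fun ζ => if ζ ∈ B0 M K then v ζ - c * (colAt z ζ : ℂ) else 0
  have hw : (∑ ζ, w ζ • (ζ : K → ℂ)) = 0 := by
    funext g
    rw [Finset.sum_apply, Pi.zero_apply]
    simp only [w, Pi.smul_apply, smul_eq_mul, ite_mul, zero_mul, Finset.sum_ite_mem,
      Finset.univ_inter, sub_mul]
    rw [Finset.sum_sub_distrib]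
    by_cases hg : 2 ∣ orderOf g
    · rw [Finset.sum_congr rfl fun ζ hζ => by rw [h.value_singular hζ hg],
        Finset.sum_congr rfl (f := fun ζ => c * (colAt z ζ : ℂ) * (ζ : K → ℂ) g)
          (g := fun _ => c) fun ζ hζ => by
            rw [h.value_singular hζ hg, mul_assoc, ← Int.cast_mul, h.col_sq hζ, Int.cast_one,
              mul_one],
        Finset.sum_const, h.col_spec.2.1, hc, nsmul_eq_mul]
      push_cast
      ring
    · rw [hv g hg, Finset.sum_congr rfl (f := fun ζ => c * (colAt z ζ : ℂ) * (ζ : K → ℂ) g)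
        (g := fun ζ => c * ((colAt z ζ : ℂ) * (ζ : K → ℂ) g)) fun ζ _ => mul_assoc _ _ _,
        ← Finset.mul_sum, h.sum_col_eq_zero hg, mul_zero, sub_zero]
  have h1 := Chars.classInner_sum_smul_irr w ζ₀
  rw [hw] at h1
  simp only [w, hζ₀, if_true, classInner, Pi.zero_apply, zero_mul, Finset.sum_const_zero,
    mul_zero] at h1
  linear_combination -h1

end KleinData

end Cfsg.Agent.Lib.B0Diff
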