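import Cfsg.Agent.Lib.B0Diff.Reduce
import Cfsg.Agent.Lib.Blocks.CentralKernel
import Mathlib

/-!
A central involution split off a group: the principal 2-block is twice that of the complement.
-/

set_option autoImplicit false
set_option linter.unusedSectionVars false
set_option linter.style.haveILetI false

namespace Cfsg.Agent.Lib.B0Diff

open Cfsg
open Cfsg.Agent.Lib
open Cfsg.Agent.Lib.Blocks
open scoped ComplexConjugate

universe u

/-- A central involution with a complement. -/
structure Split {C : Type u} [Group C] (K : Subgroup C) (t : C) : Prop where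
  central : ∀ x : C, t * x = x * t
  sq : t * t = 1
  notMem : t ∉ K
  cover : ∀ x : C, x ∈ K ∨ t * x ∈ K

/-- A split exists for a central involution of an abelian Sylow 2-subgroup of exponent two. -/
theorem exists_split {C : Type u} [Group C] [Finite C] (S : Sylow 2 C)
    (hsq : ∀ a ∈ (S : Subgroup C), a * a = 1) {t : C} (htS : t ∈ (S : Subgroup C)) (ht1 : t ≠ 1)
    (hc : ∀ x : C, t * x = x * t) : ∃ K : Subgroup C, Split K t := by
  classical
  haveI := Fact.mk Nat.prime_two
  letI : CommGroup (S : Subgroup C) :=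
    { (inferInstance : Group (S : Subgroup C)) with
      mul_comm := fun a b => by
        have hinv : ∀ z : (S : Subgroup C), z⁻¹ = z := fun z =>
          inv_eq_of_mul_eq_one_right (Subtype.ext (hsq z z.2))
        conv_lhs => rw [← hinv (a * b), mul_inv_rev, hinv a, hinv b] }
  obtain ⟨l, hl⟩ := CommGroup.exists_apply_ne_one_of_hasEnoughRootsOfUnity (S : Subgroup C) ℂ
    (a := (⟨t, htS⟩ : (S : Subgroup C))) (fun e => ht1 (congrArg Subtype.val e))
  let l₂ : (S : Subgroup C) →* rootsOfUnity 2 ℂ := l.codRestrict _ fun a => by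
    rw [mem_rootsOfUnity, ← map_pow, pow_two, show a * a = 1 from Subtype.ext (hsq a a.2), map_one]
  let φ : C →* rootsOfUnity 2 ℂ := MonoidHom.transfer l₂
  have htt : t * t = 1 := hsq t htS
  have htpow : ∀ k : ℕ, Odd k → t ^ k = t := by
    rintro k ⟨j, rfl⟩
    rw [pow_succ, pow_mul, pow_two, htt, one_pow, one_mul]
  have hkey : ∀ (k : ℕ) (g₀ : C), g₀⁻¹ * t ^ k * g₀ ∈ (S : Subgroup C) →
      g₀⁻¹ * t ^ k * g₀ = t ^ k := fun k g₀ _ => by
    rw [mul_assoc, (Commute.pow_left (show Commute t g₀ from hc g₀) k).eq, inv_mul_cancel_left]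
  have hφt : ∀ z : C, φ z = 1 ∨ φ z = φ t := by
    have hne : φ t ≠ 1 := by
      show MonoidHom.transfer l₂ t ≠ 1
      rw [MonoidHom.transfer_eq_pow l₂ t hkey]
      intro e
      refine hl ?_
      have h1 : l ⟨t ^ (S : Subgroup C).index, _⟩ = 1 := congrArg Subtype.val e
      rw [← h1]
      exact congrArg l (Subtype.ext
        (htpow _ (Nat.odd_iff.2 (Nat.two_dvd_ne_zero.1 S.not_dvd_index))).symm)
    have hval : ∀ w : rootsOfUnity 2 ℂ, w = 1 ∨ ((w : ℂˣ) : ℂ) = -1 := by
      intro w
      have h := congrArg Units.val ((mem_rootsOfUnity 2 (w : ℂˣ)).1 w.2)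
      rw [Units.val_pow_eq_pow_val, Units.val_one] at h
      exact (sq_eq_one_iff.1 h).imp (fun h => Subtype.ext (Units.ext h)) id
    intro z
    refine (hval (φ z)).imp id fun h => ?_
    exact Subtype.ext (Units.ext (h.trans ((hval (φ t)).resolve_left hne).symm))
  refine ⟨φ.ker, hc, htt, fun h => ?_, fun x => ?_⟩
  · rw [MonoidHom.mem_ker] at h
    have := MonoidHom.transfer_eq_pow l₂ t hkey
    rw [show MonoidHom.transfer l₂ t = φ t from rfl, h] at this
    refine hl ?_
    have h1 : l ⟨t ^ (S : Subgroup C).index, _⟩ = 1 := (congrArg Subtype.val this).symm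
    rw [← h1]
    exact congrArg l (Subtype.ext
      (htpow _ (Nat.odd_iff.2 (Nat.two_dvd_ne_zero.1 S.not_dvd_index))).symm)
  · rcases hφt x with h | h
    · exact Or.inl (MonoidHom.mem_ker.2 h)
    · refine Or.inr (MonoidHom.mem_ker.2 ?_)
      rw [map_mul, h, ← map_mul, htt, map_one]

namespace Split

variable {C : Type u} [Group C] [Finite C] {K : Subgroup C} {t : C} (s : Split K t)
include s

theorem mul_mem_of_notMem {x : C} (hx : x ∉ K) : t * x ∈ K := (s.cover x).resolve_left hx

theorem mul_self_cancel (x : C) : t * (t * x) = x := by rw [← mul_assoc, s.sq, one_mul]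

theorem notMem_mul {x : C} (hx : x ∈ K) : t * x ∉ K := fun h =>
  s.notMem (by simpa using mul_mem h (inv_mem hx))

open Classical in
/-- The projection to the complement. -/
noncomputable def proj : C →* K where
  toFun x := if h : x ∈ K then ⟨x, h⟩ else ⟨t * x, s.mul_mem_of_notMem h⟩
  map_one' := dif_pos (one_mem K)
  map_mul' x y := by
    by_cases hx : x ∈ K <;> by_cases hy : y ∈ K
    · rw [dif_pos hx, dif_pos hy, dif_pos (mul_mem hx hy)]; rfl
    · rw [dif_pos hx, dif_neg hy, dif_neg fun h => hy (by simpa using mul_mem (inv_mem hx) h)]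
      exact Subtype.ext (show t * (x * y) = x * (t * y) by
        rw [← mul_assoc, s.central, mul_assoc])
    · rw [dif_neg hx, dif_pos hy, dif_neg fun h => hx (by simpa using mul_mem h (inv_mem hy))]
      exact Subtype.ext (mul_assoc _ _ _).symm
    · have h : x * y ∈ K := by
        have := mul_mem (s.mul_mem_of_notMem hx) (s.mul_mem_of_notMem hy)
        rwa [s.central x, mul_assoc x t, s.mul_self_cancel] at this
      rw [dif_neg hx, dif_neg hy, dif_pos h]
      exact Subtype.ext (show x * y = t * x * (t * y) by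
        rw [s.central x, mul_assoc x t, s.mul_self_cancel])

theorem proj_of_mem {x : C} (hx : x ∈ K) : s.proj x = ⟨x, hx⟩ := dif_pos hx

theorem proj_of_notMem {x : C} (hx : x ∉ K) :
    s.proj x = ⟨t * x, s.mul_mem_of_notMem hx⟩ := dif_neg hx

theorem proj_surjective : Function.Surjective s.proj := fun k => ⟨k, s.proj_of_mem k.2⟩

theorem mem_mul_iff (x y : C) : x * y ∈ K ↔ (x ∈ K ↔ y ∈ K) := by
  by_cases hx : x ∈ K <;> by_cases hy : y ∈ K
  · exact iff_of_true (mul_mem hx hy) (iff_of_true hx hy)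
  · exact iff_of_false (fun h => hy (by simpa using mul_mem (inv_mem hx) h)) (by tauto)
  · exact iff_of_false (fun h => hx (by simpa using mul_mem h (inv_mem hy))) (by tauto)
  · refine iff_of_true ?_ (iff_of_false hx hy)
    have := mul_mem (s.mul_mem_of_notMem hx) (s.mul_mem_of_notMem hy)
    rwa [s.central x, mul_assoc x t, s.mul_self_cancel] at this

open Classical in
/-- The sign. -/
noncomputable def sgn : C →* ℂˣ where
  toFun x := if x ∈ K then 1 else -1
  map_one' := if_pos (one_mem K)
  map_mul' x y := by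
    by_cases hx : x ∈ K <;> by_cases hy : y ∈ K <;> simp [hx, hy, s.mem_mul_iff]

/-- The lift of a character with `t` in the kernel. -/
noncomputable def lift (ζ : IrrCharacter K) : IrrCharacter C :=
  ⟨fun x => (ζ : K → ℂ) (s.proj x), Chars.isIrrCharacter_comp_surjective s.proj s.proj_surjective ζ.2⟩

/-- The other lift. -/
noncomputable def lift' (ζ : IrrCharacter K) : IrrCharacter C :=
  ⟨fun x => (s.sgn x : ℂ) * (s.lift ζ : C → ℂ) x,
    Chars.isIrrCharacter_hom_mul s.sgn (s.lift ζ).2⟩

theorem lift_apply (ζ : IrrCharacter K) (k : K) : (s.lift ζ : C → ℂ) (k : C) = (ζ : K → ℂ) k := by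
  show (ζ : K → ℂ) (s.proj k) = _
  rw [s.proj_of_mem k.2]

theorem lift'_apply (ζ : IrrCharacter K) (k : K) : (s.lift' ζ : C → ℂ) (k : C) = (ζ : K → ℂ) k := by
  show (s.sgn k : ℂ) * (s.lift ζ : C → ℂ) k = _
  rw [s.lift_apply, show s.sgn (k : C) = 1 from if_pos k.2, Units.val_one, one_mul]

theorem index_centralizer_eq (k : K) :
    (Subgroup.centralizer ({(k : C)} : Set C)).index = (Subgroup.centralizer ({k} : Set K)).index := by
  set H := Subgroup.centralizer ({(k : C)} : Set C)
  have htH : t ∈ H := Subgroup.mem_centralizer_singleton_iff.2 (s.central _)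
  have hmem : ∀ x : K, x ∈ Subgroup.centralizer ({k} : Set K) ↔ (x : C) ∈ H := fun x => by
    rw [Subgroup.mem_centralizer_singleton_iff, Subgroup.mem_centralizer_singleton_iff]
    exact ⟨fun h => congrArg Subtype.val h, fun h => Subtype.ext h⟩
  let f : K ⧸ Subgroup.centralizer ({k} : Set K) → C ⧸ H :=
    Quotient.map' (fun x : K => (x : C)) fun a b hab => by
      rw [QuotientGroup.leftRel_apply] at hab ⊢
      exact (hmem _).1 hab
  refine (Nat.card_eq_of_bijective f ⟨?_, ?_⟩).symm
  · rintro ⟨a⟩ ⟨b⟩ hab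
    exact QuotientGroup.eq.2 ((hmem _).2 (QuotientGroup.eq.1 hab))
  · rintro ⟨x⟩
    rcases s.cover x with hx | hx
    · exact ⟨QuotientGroup.mk ⟨x, hx⟩, rfl⟩
    · refine ⟨QuotientGroup.mk ⟨t * x, hx⟩, QuotientGroup.eq.2 ?_⟩
      show (t * x)⁻¹ * x ∈ H
      rw [mul_inv_rev, mul_assoc, ← inv_mem_iff, show (x⁻¹ * (t⁻¹ * x))⁻¹ = x⁻¹ * (t * x) by group,
        s.central, inv_mul_cancel_left]
      exact htH

theorem index_centralizer_proj (x : C) :
    (Subgroup.centralizer ({x} : Set C)).index =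
      (Subgroup.centralizer ({s.proj x} : Set K)).index := by
  by_cases hx : x ∈ K
  · rw [s.proj_of_mem hx]
    exact s.index_centralizer_eq ⟨x, hx⟩
  · rw [s.proj_of_notMem hx, ← s.index_centralizer_eq]
    congr 1
    ext z
    simp only [Subgroup.mem_centralizer_singleton_iff]
    rw [← mul_assoc z, ← s.central z, mul_assoc t z, mul_assoc t x, mul_right_inj]

variable {M : Ideal AlgInt} [M.IsPrime]

theorem lift_mem {ζ : IrrCharacter K} (hζ : ζ ∈ principalBlock M K) :
    s.lift ζ ∈ principalBlock M C := by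
  intro x
  have h := hζ (s.proj x)
  simp only [centralChar] at h ⊢
  rw [s.index_centralizer_proj x]
  show MemLocalIdeal M (_ - _ * (ζ : K → ℂ) (s.proj x) / (ζ : K → ℂ) (s.proj 1))
  rwa [map_one]

theorem lift'_mem (hM : IsPModular 2 M) {ζ : IrrCharacter K} (hζ : ζ ∈ principalBlock M K) :
    s.lift' ζ ∈ principalBlock M C := by
  intro x
  by_cases hx : x ∈ K
  · have h := s.lift_mem hζ x
    simp only [centralChar] at h ⊢
    rw [show (s.lift' ζ : C → ℂ) x = (ζ : K → ℂ) ⟨x, hx⟩ from s.lift'_apply ζ ⟨x, hx⟩,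
      show (s.lift' ζ : C → ℂ) 1 = (ζ : K → ℂ) 1 from s.lift'_apply ζ 1]
    rwa [show (s.lift ζ : C → ℂ) x = (ζ : K → ℂ) ⟨x, hx⟩ from s.lift_apply ζ ⟨x, hx⟩,
      show (s.lift ζ : C → ℂ) 1 = (ζ : K → ℂ) 1 from s.lift_apply ζ 1] at h
  · have h := s.lift_mem hζ x
    have h2 := half_mem hM 2 dvd_rfl (z := ((Subgroup.centralizer ({x} : Set C)).index : ℂ))
      (isIntegral_algebraMap (x := ((Subgroup.centralizer ({x} : Set C)).index : ℤ)))
    convert memLocalIdeal_sub h2 h using 1
    simp only [centralChar]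
    show _ - _ * ((s.sgn x : ℂ) * _) / ((s.sgn 1 : ℂ) * _) = _
    rw [show s.sgn x = -1 from if_neg hx, map_one]
    push_cast
    ring

theorem classify {ψ : IrrCharacter C} (hψ : ψ ∈ principalBlock M C) :
    ∃ ζ ∈ principalBlock M K, ψ = s.lift ζ ∨ ψ = s.lift' ζ := by
  classical
  cases nonempty_fintype C
  haveI : Fintype K := Fintype.ofFinite _
  have hmul : ∀ x : C, (ψ : C → ℂ) (t * x) = (ψ : C → ℂ) x * (ψ : C → ℂ) t / (ψ : C → ℂ) 1 :=
    fun x => by
      rw [s.central]
      exact CentralKernel.irr_mul_central ψ (Subgroup.mem_center_iff.2 fun y => (s.central y).symm) x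
  set c := (ψ : C → ℂ) t / (ψ : C → ℂ) 1 with hc
  have h1 := Chars.irr_apply_one_ne_zero ψ
  have hmul' : ∀ x : C, (ψ : C → ℂ) (t * x) = c * (ψ : C → ℂ) x := fun x => by
    rw [hmul, hc]; ring
  have hc2 : c * c = 1 := by
    have h := hmul' t
    rw [s.sq, show (ψ : C → ℂ) t = c * (ψ : C → ℂ) 1 by rw [hc]; field_simp, ← mul_assoc] at h
    exact (mul_left_eq_self₀.1 h.symm).resolve_right h1
  have hpm : c = 1 ∨ c = -1 := mul_self_eq_one_iff.1 hc2
  have hres : IsIrrCharacter K (fun k : K => (ψ : C → ℂ) k) := by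
    rw [Chars.isIrrCharacter_iff_classInner_eq_one
      (Chars.isCharacter_restrict K (Chars.irr_isCharacter ψ))]
    have h := Chars.classInner_irr_self ψ
    simp only [classInner] at h ⊢
    let e : K ⊕ K ≃ C := Equiv.ofBijective
      (Sum.elim (fun k => (k : C)) fun k => t * (k : C)) ⟨by
        rintro (a | a) (b | b) hab <;> simp only [Sum.elim_inl, Sum.elim_inr] at hab
        · exact congrArg Sum.inl (Subtype.ext hab)
        · exact absurd (hab ▸ a.2) (s.notMem_mul b.2)
        · exact absurd (hab ▸ b.2 : t * (a : C) ∈ K) (s.notMem_mul a.2)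
        · exact congrArg Sum.inr (Subtype.ext (mul_left_cancel hab)),
        fun x => (s.cover x).elim (fun hx => ⟨Sum.inl ⟨x, hx⟩, rfl⟩)
          fun hx => ⟨Sum.inr ⟨t * x, hx⟩, s.mul_self_cancel x⟩⟩
    rw [← Nat.card_congr e, ← Equiv.sum_comp e, Fintype.sum_sum_type, Nat.card_sum,
      Finset.sum_congr rfl (g := fun k : K => (ψ : C → ℂ) k * conj ((ψ : C → ℂ) k))
        (s₁ := Finset.univ) (f := fun k => (ψ : C → ℂ) (e (Sum.inr k)) *
          conj ((ψ : C → ℂ) (e (Sum.inr k)))) fun k _ => by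
        show (ψ : C → ℂ) (t * k) * conj ((ψ : C → ℂ) (t * k)) = _
        rw [hmul', map_mul]
        rcases hpm with e | e <;> simp [e]] at h
    rw [← h]
    have he : ∀ k : K, e (Sum.inl k) = (k : C) := fun k => rfl
    simp only [he]
    push_cast
    have : (Nat.card K : ℂ) ≠ 0 := Nat.cast_ne_zero.2 Nat.card_pos.ne'
    field_simp
  refine ⟨⟨_, hres⟩, fun k => ?_, ?_⟩
  · have h := hψ (k : C)
    simp only [centralChar] at h ⊢
    rw [s.index_centralizer_eq k] at h
    exact h
  · refine hpm.imp (fun e => Subtype.ext (funext fun x => ?_))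
      (fun e => Subtype.ext (funext fun x => ?_))
    · show _ = (ψ : C → ℂ) (s.proj x : C)
      by_cases hx : x ∈ K
      · rw [s.proj_of_mem hx]
      · rw [s.proj_of_notMem hx, hmul', e, one_mul]
    · show _ = (s.sgn x : ℂ) * (ψ : C → ℂ) (s.proj x : C)
      by_cases hx : x ∈ K
      · rw [s.proj_of_mem hx, show s.sgn x = 1 from if_pos hx, Units.val_one, one_mul]
      · rw [s.proj_of_notMem hx, show s.sgn x = -1 from if_neg hx, hmul', e]
        simp

theorem lift_injective : Function.Injective s.lift := fun a b h =>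
  Subtype.ext (funext fun k => by rw [← s.lift_apply a, ← s.lift_apply b, h])

theorem lift'_injective : Function.Injective s.lift' := fun a b h =>
  Subtype.ext (funext fun k => by rw [← s.lift'_apply a, ← s.lift'_apply b, h])

theorem lift_ne_lift' (a b : IrrCharacter K) : s.lift a ≠ s.lift' b := by
  intro h
  have hab : a = b := Subtype.ext (funext fun k => by rw [← s.lift_apply a, ← s.lift'_apply b, h])
  subst hab
  have := congrFun (congrArg Subtype.val h) t
  change (a : K → ℂ) (s.proj t) = (s.sgn t : ℂ) * (a : K → ℂ) (s.proj t) at this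
  rw [show s.sgn t = -1 from if_neg s.notMem,
    show s.proj t = 1 by rw [s.proj_of_notMem s.notMem]; exact Subtype.ext s.sq] at this
  push_cast at this
  exact Chars.irr_apply_one_ne_zero a (by linear_combination this / 2)

/-- Sums over the principal block. -/
theorem sum_principal (hM : IsPModular 2 M) {R : Type*} [AddCommMonoid R] (f : IrrCharacter C → R) :
    ∑ ψ ∈ B0 M C, f ψ = ∑ ζ ∈ B0 M K, (f (s.lift ζ) + f (s.lift' ζ)) := by
  classical
  have h : B0 M C = (B0 M K).image s.lift ∪ (B0 M K).image s.lift' := by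
    ext ψ
    simp only [mem_B0, Finset.mem_union, Finset.mem_image]
    constructor
    · intro hψ
      obtain ⟨ζ, hζ, e | e⟩ := s.classify hψ
      exacts [Or.inl ⟨ζ, hζ, e.symm⟩, Or.inr ⟨ζ, hζ, e.symm⟩]
    · rintro (⟨ζ, hζ, rfl⟩ | ⟨ζ, hζ, rfl⟩)
      exacts [s.lift_mem hζ, s.lift'_mem hM hζ]
  rw [h, Finset.sum_union, Finset.sum_image fun a _ b _ e => s.lift_injective e,
    Finset.sum_image fun a _ b _ e => s.lift'_injective e, Finset.sum_add_distrib]
  rw [Finset.disjoint_left]
  intro ψ h1 h2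
  obtain ⟨a, -, rfl⟩ := Finset.mem_image.1 h1
  obtain ⟨b, -, hb⟩ := Finset.mem_image.1 h2
  exact s.lift_ne_lift' a b hb.symm

end Split

end Cfsg.Agent.Lib.B0Diff
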