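import Cfsg.Agent.Lib.B0Diff.Count
import Cfsg.Agent.Lib.B0Diff.Split
import Cfsg.Agent.Lib.B0Diff.Rank
import Mathlib

/-!
Sylow 2-subgroups of order eight: no element of the normaliser acts nontrivially fixing an
involution, so involution centralisers are soluble.
-/

set_option autoImplicit false
set_option linter.unusedSectionVars false
set_option linter.style.haveILetI false

namespace Cfsg.Agent.Lib.B0Diff

open Cfsg
open Cfsg.Agent.Lib
open Cfsg.Agent.Lib.Blocks
open scoped ComplexConjugate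

universe u

variable {G : Type u} [Group G] [Finite G] {M : Ideal AlgInt} [M.IsPrime]

/-- Principal-block products on a section are those of the centraliser. -/
theorem sum_mul_conj_section (hM : IsPModular 2 M) {x : G} (hx : ∃ k : ℕ, orderOf x = 2 ^ k)
    {y w : Subgroup.centralizer ({x} : Set G)} (hy : ¬ 2 ∣ orderOf y) (hw : ¬ 2 ∣ orderOf w) :
    ∑ χ ∈ B0 M G, (χ : G → ℂ) (x * (y : G)) * conj ((χ : G → ℂ) (x * (w : G))) =
      ∑ ξ ∈ B0 M (Subgroup.centralizer ({x} : Set G)), (ξ : _ → ℂ) y * conj ((ξ : _ → ℂ) w) := by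
  classical
  haveI := Fact.mk Nat.prime_two
  cases nonempty_fintype G
  let H := Subgroup.centralizer ({x} : Set G)
  let : Fintype H := Fintype.ofFinite _
  have h2 := PrincipalInner.secondMain_holds hM hx
  let Bl := principalBlock M H
  have hBl : IsPBlock M Bl := PrincipalSection.isPBlock_principalBlock M H
  let E : H → ℂ := fun z => ∑ ξ : IrrCharacter H,
    if ξ ∈ Bl then (ξ : H → ℂ) y * conj ((ξ : H → ℂ) z) else 0
  let proj : (H → ℂ) → ℂ := fun ϑ =>
    (Nat.card H : ℂ)⁻¹ * ∑ z : H, (if 2 ∣ orderOf z then 0 else ϑ z * E z)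
  have hproj : ∀ ϑ, blockPart Bl ϑ y = proj ϑ := fun ϑ =>
    PrincipalSection.blockPart_eq_sum_regular hM hBl ϑ hy
  have hζ : ∀ ζ : IrrCharacter G, proj (fun c : H => (ζ : G → ℂ) (x * (c : G))) =
      if ζ ∈ principalBlock M G then (ζ : G → ℂ) (x * (y : G)) else 0 := by
    intro ζ
    rw [← hproj]
    split_ifs with h
    · exact (PrincipalSection.section_eq_blockPart hM hx h2 h hy).symm
    · refine h2 _ (isPBlock_blockOf ζ) ζ (mem_blockOf_self ζ) Bl hBl (fun hind => h ?_) y hy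
      rw [isInducedBlock_unique ((PrincipalSection.induces_principal_iff hM hx hBl).2 rfl) hind]
      exact mem_blockOf_self ζ
  have hKK : ∀ z : H, ¬ 2 ∣ orderOf z →
      ∑ ζ : IrrCharacter G, (ζ : G → ℂ) (x * (z : G)) * conj ((ζ : G → ℂ) (x * (w : G))) =
        ∑ ξ : IrrCharacter H, (ξ : H → ℂ) z * conj ((ξ : H → ℂ) w) := by
    intro z hz
    rw [Chars.column_orthogonality_eq, Chars.column_orthogonality_eq,
      PrincipalSection.card_centralizer_mul hx hw]
    simp only [Chars.classIndicator]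
    congr 1
    have hiff : IsConj (x * (w : G)) (x * (z : G)) ↔ IsConj w z :=
      PrincipalSection.isConj_mul_iff hx hw hz
    by_cases hc : IsConj w z
    · rw [if_pos hc, if_pos (hiff.2 hc)]
    · rw [if_neg hc, if_neg (mt hiff.1 hc)]
  have hmain : ∑ ζ : IrrCharacter G,
      (if ζ ∈ principalBlock M G then (ζ : G → ℂ) (x * (y : G)) else 0) *
        conj ((ζ : G → ℂ) (x * (w : G))) =
      ∑ ξ : IrrCharacter H, (if ξ ∈ Bl then (ξ : H → ℂ) y else 0) * conj ((ξ : H → ℂ) w) := by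
    simp only [← hζ, ← PrincipalSection.blockPart_irr, hproj, proj, Finset.mul_sum, Finset.sum_mul]
    rw [Finset.sum_comm]
    conv_rhs => rw [Finset.sum_comm]
    refine Finset.sum_congr rfl fun z _ => ?_
    by_cases hz : 2 ∣ orderOf z
    · simp [hz]
    · simp only [if_neg hz]
      rw [Finset.sum_congr rfl (g := fun ζ : IrrCharacter G => (Nat.card H : ℂ)⁻¹ * E z *
        ((ζ : G → ℂ) (x * (z : G)) * conj ((ζ : G → ℂ) (x * (w : G))))) (fun ζ _ => by ring),
        ← Finset.mul_sum, hKK z hz, Finset.mul_sum]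
      exact Finset.sum_congr rfl fun ξ _ => by ring
  simp only [ite_mul, zero_mul, ← Finset.sum_filter] at hmain
  refine Eq.trans ?_ (hmain.trans ?_)
  · exact Finset.sum_congr (by ext χ; simp [mem_B0]) fun _ _ => rfl
  · exact Finset.sum_congr (by ext χ; simp [mem_B0, Bl, H]) fun _ _ => rfl

/-- Column data of the products of the local coefficients. -/
theorem diag_eq_zero {α β : Type*} (B : Finset α) (r : α → ℤ) (Mx : α → α → ℤ)
    (val : β → α → ℂ)
    (hrank : ∀ v : α → ℂ, (∀ y, ∑ ζ ∈ B, v ζ * val y ζ = 0) → ∃ c : ℂ, ∀ ζ ∈ B, v ζ = c * r ζ)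
    (hr : ∑ ζ ∈ B, r ζ * r ζ = 4)
    (hl : ∀ η ∈ B, ∑ ζ ∈ B, r ζ * Mx ζ η = 0) (hR : ∀ ζ ∈ B, ∑ η ∈ B, r η * Mx ζ η = 0)
    (hzero : ∀ y w, ∑ ζ ∈ B, ∑ η ∈ B, (Mx ζ η : ℂ) * val y ζ * conj (val w η) = 0) :
    ∀ ζ ∈ B, Mx ζ ζ = 0 := by
  have hr' : ∑ ζ ∈ B, (r ζ : ℂ) * r ζ = 4 := by exact_mod_cast hr
  have hw : ∀ w, ∀ ζ ∈ B, ∑ η ∈ B, (Mx ζ η : ℂ) * conj (val w η) = 0 := by
    intro w
    obtain ⟨c, hc⟩ := hrank (fun ζ => ∑ η ∈ B, (Mx ζ η : ℂ) * conj (val w η)) fun y => by
      rw [← hzero y w]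
      exact Finset.sum_congr rfl fun ζ _ => by
        rw [Finset.sum_mul]
        exact Finset.sum_congr rfl fun η _ => by ring
    have h0 : ∑ ζ ∈ B, (r ζ : ℂ) * ∑ η ∈ B, (Mx ζ η : ℂ) * conj (val w η) = 0 := by
      simp only [Finset.mul_sum]
      rw [Finset.sum_comm]
      refine Finset.sum_eq_zero fun η hη => ?_
      have h1 : ∑ ζ ∈ B, (r ζ : ℂ) * (Mx ζ η : ℂ) = 0 := by exact_mod_cast hl η hη
      simp only [← mul_assoc, ← Finset.sum_mul, h1, zero_mul]
    rw [Finset.sum_congr rfl (g := fun ζ => c * ((r ζ : ℂ) * r ζ)) fun ζ hζ => by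
      rw [hc ζ hζ]; ring, ← Finset.mul_sum, hr', mul_eq_zero] at h0
    intro ζ hζ
    rw [hc ζ hζ, h0.resolve_right (by norm_num), zero_mul]
  intro ζ hζ
  obtain ⟨c, hc⟩ := hrank (fun η => (Mx ζ η : ℂ)) fun y => by
    have h := congrArg conj (hw y ζ hζ)
    simpa [map_sum, map_mul] using h
  have h0 : ∑ η ∈ B, (r η : ℂ) * (Mx ζ η : ℂ) = 0 := by exact_mod_cast hR ζ hζ
  rw [Finset.sum_congr rfl (g := fun η => c * ((r η : ℂ) * r η)) fun η hη => by
    rw [hc η hη]; ring, ← Finset.mul_sum, hr', mul_eq_zero] at h0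
  have h1 := hc ζ hζ
  rw [h0.resolve_right (by norm_num), zero_mul] at h1
  exact_mod_cast h1

/-- The contribution of one character. -/
theorem norm_facts {α : Type*} (B : Finset α) (b r : α → ℤ) (d : α → ℤ)
    (hr : ∀ ζ ∈ B, r ζ * r ζ = 1) (hcard : B.card = 4) (hd : ∀ ζ ∈ B, (2 : ℤ) ∣ d ζ - r ζ) :
    let m := 4 * ∑ ζ ∈ B, b ζ * b ζ - (∑ ζ ∈ B, b ζ * r ζ) * ∑ ζ ∈ B, b ζ * r ζ
    let c := fun ζ => 4 * b ζ - (∑ η ∈ B, b η * r η) * r ζ
    ∑ ζ ∈ B, c ζ * c ζ = 4 * m ∧ 0 ≤ m ∧ (¬ (2 : ℤ) ∣ ∑ ζ ∈ B, b ζ * d ζ → 3 ≤ m) ∧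
      (m = 0 → ∀ ζ ∈ B, c ζ = 0) := by
  intro m c
  have h1 : ∑ ζ ∈ B, c ζ * c ζ = 4 * m := by
    have e : ∀ ζ ∈ B, c ζ * c ζ = 16 * (b ζ * b ζ) -
        8 * (∑ η ∈ B, b η * r η) * (b ζ * r ζ) + (∑ η ∈ B, b η * r η) * ∑ η ∈ B, b η * r η := by
      intro ζ hζ
      simp only [c]
      linear_combination ((∑ η ∈ B, b η * r η) * ∑ η ∈ B, b η * r η) * hr ζ hζ
    rw [Finset.sum_congr rfl e, Finset.sum_add_distrib, Finset.sum_sub_distrib, ← Finset.mul_sum,
      ← Finset.mul_sum, Finset.sum_const, hcard]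
    simp only [m]
    ring
  have h0 : 0 ≤ m := by
    have := Finset.sum_nonneg (s := B) fun ζ _ => mul_self_nonneg (c ζ)
    omega
  refine ⟨h1, h0, fun hodd => ?_, fun hm ζ hζ => ?_⟩
  · have h2 : (2 : ℤ) ∣ ∑ ζ ∈ B, b ζ * d ζ - ∑ ζ ∈ B, b ζ * r ζ := by
      rw [← Finset.sum_sub_distrib]
      exact Finset.dvd_sum fun ζ hζ => by rw [← mul_sub]; exact dvd_mul_of_dvd_right (hd ζ hζ) _
    obtain ⟨j, hj⟩ : Odd (∑ ζ ∈ B, b ζ * r ζ) := by
      rw [← Int.not_even_iff_odd, even_iff_two_dvd]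
      exact fun h => hodd (by simpa using dvd_add h2 h)
    have h4 : (4 : ℤ) ∣ m + 1 := by
      simp only [m, hj]
      exact ⟨∑ ζ ∈ B, b ζ * b ζ - j * j - j, by ring⟩
    omega
  · have h2 := (Finset.sum_eq_zero_iff_of_nonneg fun ζ _ => mul_self_nonneg (c ζ)).1
      (h1.trans (by rw [hm, mul_zero])) ζ hζ
    exact mul_self_eq_zero.1 h2

namespace DiffData

variable {P : Sylow 2 G} (h : DiffData M G P)
include h

/-- Eight: no element fixing an involution acts nontrivially on the Sylow subgroup. -/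
theorem mem_centralizer_of_eight (h8 : Nat.card (P : Subgroup G) = 8) {t g : G}
    (ht : t ∈ (P : Subgroup G)) (ht1 : t ≠ 1)
    (hg : g ∈ Subgroup.normalizer ((P : Subgroup G) : Set G)) (hgt : g * t = t * g) :
    g ∈ Subgroup.centralizer ((P : Subgroup G) : Set G) := by
  classical
  by_contra hgP
  haveI := Fact.mk Nat.prime_two
  cases nonempty_fintype G
  have he := h.elem
  have ht2 := he.orderOf_eq_two ht ht1
  -- fixed points of nontrivially acting elements
  have hfix : ∀ n ∈ Subgroup.normalizer ((P : Subgroup G) : Set G), n * t = t * n →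
      n ∉ Subgroup.centralizer ((P : Subgroup G) : Set G) →
      ∀ a ∈ (P : Subgroup G), n * a = a * n → a = 1 ∨ a = t := by
    intro n hn hnt hnP a ha hna
    by_contra hc
    push Not at hc
    set E := (P : Subgroup G) ⊓ Subgroup.centralizer ({n} : Set G)
    have h3 : Nat.card E ^ 3 ≤ 8 := h8 ▸ he.card_fixed_pow_three_le ht ht1 hn hnt hnP
    let one' : E := 1
    let t' : E := ⟨t, ht, Subgroup.mem_centralizer_singleton_iff.2 hnt.symm⟩
    let a' : E := ⟨a, ha, Subgroup.mem_centralizer_singleton_iff.2 hna.symm⟩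
    have h3' : 3 ≤ Nat.card E := by
      haveI : Fintype E := Fintype.ofFinite _
      rw [Nat.card_eq_fintype_card]
      have e1 : one' ≠ t' := fun e => ht1 (congrArg Subtype.val e).symm
      have e2 : one' ≠ a' := fun e => hc.1 (congrArg Subtype.val e).symm
      have e3 : t' ≠ a' := fun e => hc.2 (congrArg Subtype.val e).symm
      have := Finset.card_le_univ ({one', t', a'} : Finset E)
      rwa [Finset.card_insert_of_notMem (by simp [e1, e2]), Finset.card_pair e3] at this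
    have := Nat.pow_le_pow_left h3' 3
    omega
  set C := Subgroup.centralizer ({t} : Set G) with hC
  haveI : Fintype C := Fintype.ofFinite _
  have hPC : (P : Subgroup G) ≤ C := fun a ha =>
    Subgroup.mem_centralizer_singleton_iff.2 (he.comm ha ht)
  let t₀ : C := ⟨t, hPC ht⟩
  let S : Sylow 2 C := P.subtype hPC
  have hS : ∀ a : C, a ∈ (S : Subgroup C) ↔ (a : G) ∈ (P : Subgroup G) := fun a =>
    Subgroup.mem_subgroupOf
  have hSsq : ∀ a ∈ (S : Subgroup C), a * a = 1 := fun a ha =>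
    Subtype.ext (he.sq _ ((hS a).1 ha))
  have hcen : ∀ x : C, t₀ * x = x * t₀ := fun x =>
    Subtype.ext (Subgroup.mem_centralizer_singleton_iff.1 x.2).symm
  obtain ⟨K, s⟩ := exists_split S hSsq ((hS t₀).2 ht)
    (fun e => ht1 (congrArg Subtype.val e)) hcen
  haveI : Fintype K := Fintype.ofFinite _
  let T : Sylow 2 K := S.mapSurjective s.proj_surjective
  have hT : ∀ k : K, k ∈ (T : Subgroup K) ↔ (k : C) ∈ (S : Subgroup C) := by
    intro k
    constructor
    · rintro ⟨a, ha, rfl⟩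
      by_cases hak : a ∈ K
      · rwa [s.proj_of_mem hak]
      · rw [s.proj_of_notMem hak]
        exact mul_mem ((hS t₀).2 ht) ha
    · exact fun hk => ⟨k, hk, s.proj_of_mem k.2⟩
  have hTP : ∀ k : K, k ∈ (T : Subgroup K) → ((k : C) : G) ∈ (P : Subgroup G) := fun k hk =>
    (hS _).1 ((hT k).1 hk)
  have hTsq : ∀ k : (T : Subgroup K), k * k = 1 := fun k =>
    Subtype.ext (Subtype.ext (hSsq _ ((hT k).1 k.2)))
  have hTcard : Nat.card (T : Subgroup K) = 4 := by
    let e : (T : Subgroup K) ⊕ (T : Subgroup K) ≃ (S : Subgroup C) := Equiv.ofBijective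
      (Sum.elim (fun k => ⟨(k : K), (hT _).1 k.2⟩)
        fun k => ⟨t₀ * (k : K), mul_mem ((hS t₀).2 ht) ((hT _).1 k.2)⟩) ⟨by
        rintro (a | a) (b | b) hab <;>
          simp only [Sum.elim_inl, Sum.elim_inr, Subtype.mk.injEq] at hab
        · exact congrArg Sum.inl (Subtype.ext (Subtype.ext hab))
        · exact absurd (hab ▸ (a : K).2) (s.notMem_mul (b : K).2)
        · exact absurd (hab ▸ (b : K).2 : t₀ * ((a : K) : C) ∈ K) (s.notMem_mul (a : K).2)
        · exact congrArg Sum.inr (Subtype.ext (Subtype.ext (mul_left_cancel hab))),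
        fun x => (s.cover x).elim (fun hx => ⟨Sum.inl ⟨⟨x, hx⟩, (hT _).2 x.2⟩, rfl⟩)
          fun hx => ⟨Sum.inr ⟨⟨t₀ * x, hx⟩, (hT _).2 (mul_mem ((hS t₀).2 ht) x.2)⟩,
            Subtype.ext (s.mul_self_cancel x)⟩⟩
    have h1 := Nat.card_congr e
    have hScard : Nat.card (S : Subgroup C) = 8 :=
      (Nat.card_congr (Subgroup.subgroupOfEquivOfLe hPC).toEquiv).trans h8
    rw [Nat.card_sum, hScard] at h1
    omega
  haveI hTn : Nontrivial (T : Subgroup K) := Finite.one_lt_card_iff_nontrivial.1 (by omega)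
  have hTord : ∀ k : (T : Subgroup K), k ≠ 1 → orderOf k = 2 := fun k hk =>
    orderOf_eq_prime (by rw [pow_two]; exact hTsq k) hk
  have hklein : IsKleinFour (T : Subgroup K) :=
    ⟨hTcard, (Monoid.exponent_eq_prime_iff Nat.prime_two).2 hTord⟩
  -- the element `g` permutes the involutions of `T` transitively
  let g₀ : C := ⟨g, Subgroup.mem_centralizer_singleton_iff.2 hgt⟩
  let g₁ : K := s.proj g₀
  have hg₁ : ∀ x : C, ((g₁ : C) * x * (g₁ : C)⁻¹) = g₀ * x * g₀⁻¹ := by
    intro x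
    by_cases hk : g₀ ∈ K
    · simp only [g₁, s.proj_of_mem hk]
    · simp only [g₁, s.proj_of_notMem hk]
      calc t₀ * g₀ * x * (t₀ * g₀)⁻¹ = t₀ * (g₀ * x * g₀⁻¹) * t₀⁻¹ := by group
        _ = g₀ * x * g₀⁻¹ := by rw [hcen, mul_inv_cancel_right]
  let γ : ↥(T : Subgroup K) → ↥(T : Subgroup K) := fun k => ⟨g₁ * (k : K) * g₁⁻¹, by
    rw [hT, hS]
    show (((g₁ : C) * ((k : K) : C) * (g₁ : C)⁻¹ : C) : G) ∈ _
    rw [hg₁]
    exact (Subgroup.mem_normalizer_iff.1 hg _).1 (hTP _ k.2)⟩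
  have hγinj : Function.Injective γ := fun a b hab =>
    Subtype.ext (mul_left_cancel (mul_right_cancel (congrArg Subtype.val hab)))
  have hγ1 : γ 1 = 1 := Subtype.ext (by simp [γ])
  have hγfix : ∀ k, k ≠ 1 → γ k ≠ k := by
    intro k hk hγk
    have h1 : g * (((k : K) : C) : G) * g⁻¹ = (((k : K) : C) : G) := by
      have e := congrArg (fun z : (T : Subgroup K) => (((z : K) : C) : G)) hγk
      exact ((congrArg Subtype.val (hg₁ ((k : K) : C))).symm.trans e :)
    rcases hfix g hg hgt hgP _ (hTP _ k.2) (mul_inv_eq_iff_eq_mul.1 h1) with e | e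
    · exact hk (Subtype.ext (Subtype.ext (Subtype.ext e)))
    · exact s.notMem (by
        have : t₀ = ((k : K) : C) := Subtype.ext e.symm
        rw [this]
        exact (k : K).2)
  have hconjT : ∀ a b : (T : Subgroup K), a ≠ 1 → b ≠ 1 → IsConj (a : K) (b : K) := by
    intro a b ha hb
    have hstep : ∀ k : (T : Subgroup K), IsConj (k : K) (γ k : K) := fun k =>
      isConj_iff.2 ⟨g₁, rfl⟩
    have hne : ∀ k, k ≠ 1 → γ k ≠ 1 := fun k hk e => hk (hγinj (e.trans hγ1.symm))
    by_contra hab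
    have hba : b ≠ a := fun e => hab (e ▸ IsConj.refl _)
    have hca : γ a ≠ a := hγfix a ha
    have hcb : γ a ≠ b := fun e => hab (e ▸ hstep a)
    haveI : Fintype (T : Subgroup K) := Fintype.ofFinite _
    have huniv : ({1, a, b, γ a} : Finset (T : Subgroup K)) = Finset.univ := by
      refine Finset.eq_univ_of_card _ ?_
      rw [Finset.card_insert_of_notMem (by simp [ha.symm, hb.symm, (hne a ha).symm]),
        Finset.card_insert_of_notMem (by simp [hba.symm, hca.symm]),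
        Finset.card_pair hcb.symm, ← Nat.card_eq_fintype_card, hTcard]
    have hall : ∀ x : (T : Subgroup K), x = 1 ∨ x = a ∨ x = b ∨ x = γ a := fun x => by
      have := Finset.mem_univ x
      rw [← huniv] at this
      simpa using this
    rcases hall (γ (γ a)) with e | e | e | e
    · exact hne _ (hne a ha) e
    · rcases hall (γ b) with e' | e' | e' | e'
      · exact hne b hb e'
      · exact hcb (hγinj (e'.trans e.symm)).symm
      · exact hγfix b hb e'
      · exact hba (hγinj e')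
    · exact hab ((hstep a).trans (e ▸ hstep (γ a)))
    · exact hγfix _ (hne a ha) e
  have hone : ∀ a b : K, orderOf a = 2 → orderOf b = 2 → IsConj a b := by
    have hmove : ∀ a : K, orderOf a = 2 → ∃ x : (T : Subgroup K), x ≠ 1 ∧ IsConj a (x : K) := by
      intro a ha
      obtain ⟨R, hR⟩ := (IsPGroup.of_card (n := 1) (by rw [Nat.card_zpowers, ha, pow_one]) :
        IsPGroup 2 (Subgroup.zpowers a)).exists_le_sylow
      obtain ⟨m, hm⟩ := MulAction.exists_smul_eq K R T
      have h1 : m * a * m⁻¹ ∈ ((m • R : Sylow 2 K) : Subgroup K) :=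
        ⟨_, hR (Subgroup.mem_zpowers _), rfl⟩
      rw [hm] at h1
      refine ⟨⟨_, h1⟩, fun e => ?_, isConj_iff.2 ⟨m, rfl⟩⟩
      have e' : m * a * m⁻¹ = 1 := congrArg Subtype.val e
      rw [conj_eq_one_iff] at e'
      rw [e', orderOf_one] at ha
      omega
    intro a b ha hb
    obtain ⟨x, hx, hax⟩ := hmove a ha
    obtain ⟨y, hy, hby⟩ := hmove b hb
    exact hax.trans ((hconjT x y hx hy).trans hby.symm)
  obtain ⟨z', hz'⟩ := exists_ne (1 : (T : Subgroup K))
  set z : K := (z' : K) with hz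
  have hzord : orderOf z = 2 := by rw [hz, Subgroup.orderOf_coe]; exact hTord z' hz'
  have hodd_core : ∀ y : K, Commute y z → ¬ 2 ∣ orderOf y → y ∈ centralizerPPrimeCore 2 z := by
    intro y hyz hy
    set H := Subgroup.centralizer ({z} : Set K) with hH
    have hTH : (T : Subgroup K) ≤ H := fun k hk => by
      refine Subgroup.mem_centralizer_singleton_iff.2 ?_
      exact congrArg Subtype.val (IsKleinFour.isMulCommutative.is_comm.comm
        (⟨k, hk⟩ : (T : Subgroup K)) z')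
    let TH : Sylow 2 H := T.subtype hTH
    have hNC : Subgroup.normalizer ((TH : Subgroup H) : Set H) ≤
        Subgroup.centralizer ((TH : Subgroup H) : Set H) := by
      intro n hn
      set n' : G := (((n : K) : C) : G) with hn'
      have hnt : n' * t = t * n' := Subgroup.mem_centralizer_singleton_iff.1 ((n : K) : C).2
      have hnN : n' ∈ Subgroup.normalizer ((P : Subgroup G) : Set G) := by
        refine Subgroup.mem_normalizer_fintype fun a ha => ?_
        let a₀ : C := ⟨a, hPC ha⟩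
        have hstep : ∀ k : K, (k : C) ∈ (S : Subgroup C) →
            (((n : K) : C) * (k : C) * ((n : K) : C)⁻¹) ∈ (S : Subgroup C) := by
          intro k hk
          have h1 := (Subgroup.mem_normalizer_iff.1 hn ⟨k, hTH ((hT k).2 hk)⟩).1
            (Subgroup.mem_subgroupOf.2 ((hT k).2 hk))
          exact (hT _).1 (Subgroup.mem_subgroupOf.1 h1)
        rcases s.cover a₀ with ha₀ | ha₀
        · exact (hS _).1 (hstep ⟨a₀, ha₀⟩ ((hS a₀).2 ha))
        · have h1 := mul_mem ((hS t₀).2 ht) (hstep ⟨t₀ * a₀, ha₀⟩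
            (mul_mem ((hS t₀).2 ht) ((hS a₀).2 ha)))
          have e : t₀ * (((n : K) : C) * (t₀ * a₀) * ((n : K) : C)⁻¹) =
              ((n : K) : C) * a₀ * ((n : K) : C)⁻¹ := by
            rw [← mul_assoc ((n : K) : C) t₀, ← hcen, mul_assoc t₀, mul_assoc t₀,
              s.mul_self_cancel]
          rw [e] at h1
          exact (hS _).1 h1
      refine Subgroup.mem_centralizer_iff.2 fun k hk => ?_
      by_cases hnP : n' ∈ Subgroup.centralizer ((P : Subgroup G) : Set G)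
      · refine Subtype.ext (Subtype.ext (Subtype.ext ?_))
        exact Subgroup.mem_centralizer_iff.1 hnP _ (hTP _ (Subgroup.mem_subgroupOf.1 hk))
      · exfalso
        rcases hfix n' hnN hnt hnP _ (hTP _ z'.2) (congrArg (fun x : K => ((x : C) : G))
          (Subgroup.mem_centralizer_singleton_iff.1 n.2)) with e | e
        · exact hz' (Subtype.ext (Subtype.ext (Subtype.ext e)))
        · exact s.notMem (by
            have : t₀ = ((z' : K) : C) := Subtype.ext e.symm
            rw [this]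
            exact (z' : K).2)
    haveI : IsMulCommutative (TH : Subgroup H) := by
      refine ⟨⟨fun a b => Subtype.ext (Subtype.ext ?_)⟩⟩
      have e := congrArg Subtype.val (IsKleinFour.isMulCommutative.is_comm.comm
        (⟨((a : H) : K), Subgroup.mem_subgroupOf.1 a.2⟩ : (T : Subgroup K))
        ⟨((b : H) : K), Subgroup.mem_subgroupOf.1 b.2⟩)
      simpa using e
    have := MonoidHom.normal_ker (MonoidHom.transferSylow TH hNC)
    have hle : (MonoidHom.transferSylow TH hNC).ker ≤ pPrimeCore 2 H :=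
      PSolvable.le_pPrimeCore (Nat.prime_two.coprime_iff_not_dvd.2
        (MonoidHom.not_dvd_card_ker_transferSylow TH hNC)).symm
    let y' : H := ⟨y, Subgroup.mem_centralizer_singleton_iff.2 hyz.eq⟩
    refine ⟨y', hle (MonoidHom.mem_ker.2 ?_), rfl⟩
    obtain ⟨k, hk⟩ := IsPGroup.iff_orderOf.1 TH.2 (MonoidHom.transferSylow TH hNC y')
    rw [← orderOf_eq_one_iff, hk]
    rcases Nat.eq_zero_or_pos k with rfl | hk0
    · simp
    · exfalso
      refine hy ?_
      have h1 := orderOf_map_dvd (MonoidHom.transferSylow TH hNC) y'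
      rw [hk] at h1
      have h2 := (dvd_pow_self 2 hk0.ne').trans h1
      rwa [Subgroup.orderOf_mk] at h2
  have hd : KleinData M T z := ⟨h.modular, hklein, hone, z'.2, hzord, hodd_core⟩
  -- local coefficients
  have htx : ∃ k : ℕ, orderOf t = 2 ^ k := ⟨1, by rw [ht2, pow_one]⟩
  have hregC : ∀ w : K, ¬ 2 ∣ orderOf w → ¬ 2 ∣ orderOf (w : C) := fun w hw => by
    rwa [Subgroup.orderOf_coe]
  have hcoef : ∀ χ : IrrCharacter G, ∀ ζ : IrrCharacter K, ∃ b : ℤ,
      classInner (fun c : C => (χ : G → ℂ) (t * (c : G))) (s.lift ζ : C → ℂ) +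
        classInner (fun c : C => (χ : G → ℂ) (t * (c : G))) (s.lift' ζ : C → ℂ) = (b : ℂ) := by
    intro χ ζ
    have hres := Chars.isCharacter_restrict C (Chars.irr_isCharacter χ)
    obtain ⟨n₁, hn₁⟩ := Chars.isCharacter_classInner_nat hres (Chars.irr_isCharacter (s.lift ζ))
    obtain ⟨n₂, hn₂⟩ := Chars.isCharacter_classInner_nat hres (Chars.irr_isCharacter (s.lift' ζ))
    refine ⟨(n₁ : ℤ) - n₂, ?_⟩
    have hp : s.proj t₀ = 1 := by rw [s.proj_of_notMem s.notMem]; exact Subtype.ext s.sq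
    have hl : ∀ c : C, (s.lift ζ : C → ℂ) (t₀ * c) = (s.lift ζ : C → ℂ) c := fun c => by
      show (ζ : K → ℂ) (s.proj (t₀ * c)) = (ζ : K → ℂ) (s.proj c)
      rw [map_mul, hp, one_mul]
    have hl' : ∀ c : C, (s.lift' ζ : C → ℂ) (t₀ * c) = -(s.lift' ζ : C → ℂ) c := fun c => by
      show (s.sgn (t₀ * c) : ℂ) * (s.lift ζ : C → ℂ) (t₀ * c) =
        -((s.sgn c : ℂ) * (s.lift ζ : C → ℂ) c)
      rw [hl, map_mul, show s.sgn t₀ = -1 from if_neg s.notMem]
      push_cast
      ring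
    have hsh : ∀ f : C → ℂ, classInner (fun c : C => (χ : G → ℂ) (t * (c : G))) f =
        classInner (fun c : C => (χ : G → ℂ) (c : G)) fun c => f (t₀ * c) := fun f => by
      simp only [classInner]
      congr 1
      refine Fintype.sum_equiv (Equiv.mulLeft t₀) _ _ fun c => ?_
      simp only [Equiv.coe_mulLeft, s.mul_self_cancel]
      rfl
    rw [hsh, hsh]
    simp only [hl, hl']
    push_cast
    rw [← hn₁, ← hn₂]
    simp only [classInner, map_neg, mul_neg, Finset.sum_neg_distrib]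
    ring_nf
  choose b hb using hcoef
  set B := B0 M K with hB
  set r := colAt z with hr
  have hF : ∀ χ ∈ B0 M G, ∀ w : K, ¬ 2 ∣ orderOf w →
      (χ : G → ℂ) (t * ((w : C) : G)) = ∑ ζ ∈ B, (b χ ζ : ℂ) * (ζ : K → ℂ) w := by
    intro χ hχ w hw
    rw [PrincipalSection.section_eq_blockPart h.modular htx
      (PrincipalInner.secondMain_holds h.modular htx) (mem_B0.1 hχ) (hregC w hw),
      PrincipalSection.blockPart_apply, ← Finset.sum_filter]
    rw [Finset.sum_congr (s₂ := B0 M C) (by ext ψ; simp [mem_B0, C]) fun _ _ => rfl,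
      s.sum_principal h.modular]
    refine Finset.sum_congr rfl fun ζ _ => ?_
    rw [s.lift_apply, s.lift'_apply, ← add_mul, hb]
  let c : IrrCharacter G → IrrCharacter K → ℤ := fun χ ζ =>
    4 * b χ ζ - (∑ η ∈ B, b χ η * r η) * r ζ
  let Mx : IrrCharacter K → IrrCharacter K → ℤ := fun ζ η =>
    ∑ χ ∈ B0 M G, c χ ζ * c χ η - 8 * ((if ζ = η then 4 else 0) - r ζ * r η)
  have hrsq : ∀ ζ ∈ B, r ζ * r ζ = 1 := fun ζ hζ => hd.col_sq hζ
  have hrsum : ∑ ζ ∈ B, r ζ * r ζ = 4 := by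
    rw [Finset.sum_congr rfl hrsq, Finset.sum_const, hd.col_spec.2.1]; rfl
  have hrc : ∀ χ, ∑ ζ ∈ B, r ζ * c χ ζ = 0 := by
    intro χ
    simp only [c, mul_sub, Finset.sum_sub_distrib]
    rw [Finset.sum_congr rfl (f := fun ζ => r ζ * (4 * b χ ζ))
        (g := fun ζ => 4 * (b χ ζ * r ζ)) fun ζ _ => by ring, ← Finset.mul_sum,
      Finset.sum_congr rfl (f := fun ζ => r ζ * ((∑ η ∈ B, b χ η * r η) * r ζ))
        (g := fun ζ => (∑ η ∈ B, b χ η * r η) * (r ζ * r ζ)) fun ζ _ => by ring,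
      ← Finset.mul_sum, hrsum]
    ring
  have hMsymm : ∀ ζ η, Mx ζ η = Mx η ζ := fun ζ η => by
    simp only [Mx, mul_comm (c _ ζ), mul_comm (r ζ), eq_comm (a := ζ)]
  have hleft : ∀ η ∈ B, ∑ ζ ∈ B, r ζ * Mx ζ η = 0 := by
    intro η hη
    simp only [Mx, mul_sub, Finset.sum_sub_distrib, Finset.mul_sum]
    rw [Finset.sum_comm, Finset.sum_eq_zero fun χ _ => by
      rw [Finset.sum_congr rfl (g := fun ζ => r ζ * c χ ζ * c χ η) fun ζ _ => by ring,
        ← Finset.sum_mul, hrc, zero_mul]]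
    have e : ∀ ζ, r ζ * (8 * (r ζ * r η)) = 8 * r η * (r ζ * r ζ) := fun ζ => by ring
    simp only [e, ← Finset.mul_sum, hrsum, mul_ite, mul_zero, Finset.sum_ite_eq', hη, if_true]
    ring
  have hzero : ∀ y w : {x : K // ¬ 2 ∣ orderOf x}, ∑ ζ ∈ B, ∑ η ∈ B,
      (Mx ζ η : ℂ) * (ζ : K → ℂ) (y : K) * conj ((η : K → ℂ) (w : K)) = 0 := by
    intro y w
    have hr0 : ∀ x : {x : K // ¬ 2 ∣ orderOf x}, ∑ ζ ∈ B, (r ζ : ℂ) * (ζ : K → ℂ) (x : K) = 0 :=
      fun x => hd.sum_col_eq_zero x.2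
    have hcF : ∀ χ ∈ B0 M G, ∀ x : {x : K // ¬ 2 ∣ orderOf x},
        ∑ ζ ∈ B, (c χ ζ : ℂ) * (ζ : K → ℂ) (x : K) = 4 * (χ : G → ℂ) (t * (((x : K) : C) : G)) := by
      intro χ hχ x
      rw [hF χ hχ _ x.2]
      simp only [c, Int.cast_sub, Int.cast_mul, sub_mul, Finset.sum_sub_distrib, mul_assoc,
        ← Finset.mul_sum, hr0, mul_zero, sub_zero]
      norm_num
    have hgram : ∑ χ ∈ B0 M G, (χ : G → ℂ) (t * (((y : K) : C) : G)) *
        conj ((χ : G → ℂ) (t * (((w : K) : C) : G))) =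
          ∑ ζ ∈ B, 2 * ((ζ : K → ℂ) (y : K) * conj ((ζ : K → ℂ) (w : K))) := by
      rw [sum_mul_conj_section h.modular htx (hregC _ y.2) (hregC _ w.2),
        s.sum_principal h.modular]
      exact Finset.sum_congr rfl fun ζ _ => by simp only [s.lift_apply, s.lift'_apply]; ring
    have e1 : ∀ ζ η : IrrCharacter K, (Mx ζ η : ℂ) * (ζ : K → ℂ) (y : K) *
        conj ((η : K → ℂ) (w : K)) = ∑ χ ∈ B0 M G,
          ((c χ ζ : ℂ) * (ζ : K → ℂ) (y : K)) * conj ((c χ η : ℂ) * (η : K → ℂ) (w : K)) -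
          (if ζ = η then 32 * ((ζ : K → ℂ) (y : K) * conj ((η : K → ℂ) (w : K))) else 0) +
          8 * (((r ζ : ℂ) * (ζ : K → ℂ) (y : K)) *
            conj ((r η : ℂ) * (η : K → ℂ) (w : K))) := by
      intro ζ η
      simp only [Mx, map_mul, map_intCast]
      rw [Finset.sum_congr rfl (g := fun χ => ((c χ ζ * c χ η : ℤ) : ℂ) *
        ((ζ : K → ℂ) (y : K) * conj ((η : K → ℂ) (w : K)))) fun χ _ => by push_cast; ring,
        ← Finset.sum_mul]
      push_cast
      split_ifs <;> ring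
    simp only [e1, Finset.sum_add_distrib, Finset.sum_sub_distrib, ← Finset.mul_sum,
      Finset.sum_ite_eq, map_mul]
    have e2 : ∑ ζ ∈ B, ∑ η ∈ B, ∑ χ ∈ B0 M G, ((c χ ζ : ℂ) * (ζ : K → ℂ) (y : K)) *
        (conj (c χ η : ℂ) * conj ((η : K → ℂ) (w : K))) =
          16 * ∑ ζ ∈ B, 2 * ((ζ : K → ℂ) (y : K) * conj ((ζ : K → ℂ) (w : K))) := by
      rw [← hgram, Finset.mul_sum]
      conv_lhs => enter [2, ζ]; rw [Finset.sum_comm]
      rw [Finset.sum_comm]
      refine Finset.sum_congr rfl fun χ hχ => ?_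
      simp only [← Finset.mul_sum, ← Finset.sum_mul, ← map_mul, ← map_sum, hcF χ hχ]
      rw [map_mul, map_ofNat]
      ring
    rw [e2]
    simp only [← Finset.mul_sum, ← Finset.sum_mul, ← map_mul, ← map_sum, hr0, map_zero, mul_zero]
    rw [Finset.sum_congr rfl fun ζ hζ => if_pos hζ, ← Finset.mul_sum]
    ring_nf
    simp
  have hdiag := diag_eq_zero B r Mx
    (fun (x : {x : K // ¬ 2 ∣ orderOf x}) (ζ : IrrCharacter K) => (ζ : K → ℂ) (x : K))
    (fun v hv => hd.eq_mul_col v fun y hy => hv ⟨y, hy⟩) hrsum hleft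
    (fun ζ hζ => by rw [← hleft ζ hζ]; exact Finset.sum_congr rfl fun η _ => by rw [hMsymm])
    hzero
  let m : IrrCharacter G → ℤ := fun χ =>
    4 * ∑ ζ ∈ B, b χ ζ * b χ ζ - (∑ ζ ∈ B, b χ ζ * r ζ) * ∑ ζ ∈ B, b χ ζ * r ζ
  have hnf := fun χ : IrrCharacter G => norm_facts B (b χ) r (fun ζ => (deg ζ : ℤ)) hrsq
    hd.col_spec.2.1 fun ζ hζ => (hd.col_spec.1 ζ hζ).2.2
  have hm24 : ∑ χ ∈ B0 M G, m χ = 24 := by
    have h0 : ∑ ζ ∈ B, Mx ζ ζ = 0 := Finset.sum_eq_zero hdiag
    simp only [Mx, Finset.sum_sub_distrib, if_true, ← Finset.mul_sum, Finset.sum_const,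
      show B.card = 4 from hd.col_spec.2.1, hrsum] at h0
    rw [Finset.sum_comm, Finset.sum_congr rfl (g := fun χ => 4 * m χ) fun χ _ => (hnf χ).1,
      ← Finset.mul_sum] at h0
    simp at h0
    omega
  -- the degree sum
  have hD : (∑ᶠ ψ ∈ principalBlock M C, charDegree (ψ : C → ℂ) ^ 2) = 2 * ∑ ζ ∈ B, deg ζ ^ 2 := by
    rw [finsum_mem_eq_finite_toFinset_sum _ (Set.toFinite _)]
    show ∑ ψ ∈ B0 M C, _ = _
    rw [s.sum_principal h.modular, Finset.mul_sum]
    refine Finset.sum_congr rfl fun ζ _ => ?_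
    have h1 : charDegree (s.lift ζ : C → ℂ) = deg ζ := by
      simp only [deg, charDegree]
      rw [show (s.lift ζ : C → ℂ) 1 = (ζ : K → ℂ) 1 from s.lift_apply ζ 1]
    have h2 : charDegree (s.lift' ζ : C → ℂ) = deg ζ := by
      simp only [deg, charDegree]
      rw [show (s.lift' ζ : C → ℂ) 1 = (ζ : K → ℂ) 1 from s.lift'_apply ζ 1]
    rw [h1, h2]
    ring
  obtain ⟨d, hd8, hd0, hda, hbound⟩ := h.card_bound ht2 (K := C) rfl
  rw [hD, h8] at hd8
  rw [h8] at hbound
  have hd3 : 3 ≤ d := by have := hd.col_spec.2.2; rw [← hB] at this; omega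
  -- every character of degree seven, and the trivial one, contributes three
  set a := (A0 M P).card with ha
  have hone' : ¬ 2 ∣ orderOf (1 : K) := by simp
  have hval : ∀ χ ∈ B0 M G, (χ : G → ℂ) t = ((∑ ζ ∈ B, b χ ζ * (deg ζ : ℤ) : ℤ) : ℂ) := by
    intro χ hχ
    have := hF χ hχ 1 hone'
    rw [OneMemClass.coe_one, OneMemClass.coe_one, mul_one] at this
    rw [this]
    push_cast
    simp only [deg_eq]
  have hm3 : ∀ χ ∈ insert (Chars.trivialIrr G) (A0 M P), 3 ≤ m χ := by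
    intro χ hχ
    refine (hnf χ).2.2.1 fun h2 => ?_
    rcases Finset.mem_insert.1 hχ with rfl | hχ
    · have h1 := hval _ (triv_mem (M := M) (G := G))
      rw [Chars.trivialIrr_apply] at h1
      have : ∑ ζ ∈ B, b (Chars.trivialIrr G) ζ * (deg ζ : ℤ) = 1 := by exact_mod_cast h1.symm
      rw [this] at h2
      norm_num at h2
    · have h1 := hval χ (mem_B0.2 (mem_B1.1 (mem_A0.1 hχ).1).1)
      rw [h.value_A0 hχ ht2] at h1
      have : ∑ ζ ∈ B, b χ ζ * (deg ζ : ℤ) = -1 := by exact_mod_cast h1.symm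
      rw [this] at h2
      norm_num at h2
  -- and there is another character not vanishing at `t`
  obtain ⟨χ₁, hχ₁, hχ₁A, hχ₁t⟩ : ∃ χ ∈ B1 M G, χ ∉ A0 M P ∧ (χ : G → ℂ) t ≠ 0 := by
    by_contra hc
    push Not at hc
    have h1 := h.sum_deg_mul ht2
    rw [h8, ← Finset.sum_filter_add_sum_filter_not (B1 M G) (fun χ => χ ∈ A0 M P),
      Finset.sum_congr rfl (g := fun _ => (-7 : ℤ)) fun χ hχ => by
        have := (mem_A0.1 (Finset.mem_filter.1 hχ).2).2
        rw [h8] at this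
        rw [show (deg χ : ℤ) = 7 by omega]
        norm_num,
      Finset.sum_eq_zero (s := (B1 M G).filter fun χ => χ ∉ A0 M P) fun χ hχ => by
        obtain ⟨h1', h2'⟩ := Finset.mem_filter.1 hχ
        have h3 := hc χ h1' h2'
        rw [h.value_sub h1' ht2, h8, sub_eq_zero] at h3
        have : deg χ = 8 := by exact_mod_cast h3
        rw [this]
        norm_num,
      show ((B1 M G).filter fun χ => χ ∈ A0 M P) = A0 M P by
        ext χ
        simp only [Finset.mem_filter, and_iff_right_iff_imp]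
        exact fun h => (mem_A0.1 h).1] at h1
    simp at h1
    omega
  have hm1 : 1 ≤ m χ₁ := by
    have h0 := (hnf χ₁).2.1
    by_contra hlt
    refine hχ₁t ?_
    have hχ₁B : χ₁ ∈ B0 M G := mem_B0.2 (mem_B1.1 hχ₁).1
    have hc0 := (hnf χ₁).2.2.2 (by show m χ₁ = 0; simp only [m] at h0 hlt ⊢; omega)
    have h1 := hF χ₁ hχ₁B 1 hone'
    rw [OneMemClass.coe_one, OneMemClass.coe_one, mul_one] at h1
    have h4 : (4 : ℂ) * (χ₁ : G → ℂ) t =
        ((∑ η ∈ B, b χ₁ η * r η : ℤ) : ℂ) * ∑ ζ ∈ B, (r ζ : ℂ) * (ζ : K → ℂ) 1 := by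
      rw [h1, Finset.mul_sum, Finset.mul_sum]
      refine Finset.sum_congr rfl fun ζ hζ => ?_
      have := hc0 ζ hζ
      rw [sub_eq_zero] at this
      rw [← mul_assoc, ← mul_assoc, show (4 : ℂ) * (b χ₁ ζ : ℂ) =
        ((∑ η ∈ B, b χ₁ η * r η : ℤ) : ℂ) * (r ζ : ℂ) by exact_mod_cast this]
    rw [hd.sum_col_eq_zero hone', mul_zero] at h4
    simpa using h4
  have ha6 : a ≤ 6 := by
    have hsub : insert χ₁ (insert (Chars.trivialIrr G) (A0 M P)) ⊆ B0 M G := by
      intro χ hχ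
      simp only [Finset.mem_insert] at hχ
      rcases hχ with rfl | rfl | hχ
      · exact mem_B0.2 (mem_B1.1 hχ₁).1
      · exact triv_mem
      · exact mem_B0.2 (mem_B1.1 (mem_A0.1 hχ).1).1
    have hnot : χ₁ ∉ insert (Chars.trivialIrr G) (A0 M P) := by
      rw [Finset.mem_insert]
      rintro (e | e)
      · exact (mem_B1.1 hχ₁).2 (by rw [e]; rfl)
      · exact hχ₁A e
    have h1 := Finset.sum_le_sum_of_subset_of_nonneg hsub fun χ _ _ => (hnf χ).2.1
    rw [show ∑ χ ∈ B0 M G, _ = (24 : ℤ) from hm24, Finset.sum_insert hnot] at h1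
    have h2 := Finset.card_nsmul_le_sum _ m 3 hm3
    rw [Finset.card_insert_of_notMem (fun e => (mem_B1.1 (mem_A0.1 e).1).2 rfl), nsmul_eq_mul] at h2
    simp only [m] at h1 h2 hm1
    omega
  have : (a - d) ^ 2 ≤ 9 := le_trans (Nat.pow_le_pow_left (show a - d ≤ 3 by omega) 2) (by norm_num)
  omega

/-- Involution centralisers are soluble. -/
theorem isSolvable_centralizer_all :
    ∀ t : G, orderOf t = 2 → Group.IsSolvable (Subgroup.centralizer ({t} : Set G)) := by
  classical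
  haveI := Fact.mk Nat.prime_two
  have he := h.elem
  intro t ht
  by_cases h8 : Nat.card (P : Subgroup G) = 8
  swap
  · exact he.isSolvable_centralizer h8 ht
  haveI := he.nontrivial
  obtain ⟨a, ha⟩ := exists_ne (1 : (P : Subgroup G))
  have ha1 : (a : G) ≠ 1 := fun e => ha (Subtype.ext e)
  set C := Subgroup.centralizer ({(a : G)} : Set G) with hC
  have hPC : (P : Subgroup G) ≤ C := fun z hz =>
    Subgroup.mem_centralizer_singleton_iff.2 (he.comm hz a.2)
  let T : Sylow 2 C := P.subtype hPC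
  have hP' : Subgroup.normalizer ((T : Subgroup C) : Set C) ≤
      Subgroup.centralizer ((T : Subgroup C) : Set C) := by
    intro g hg
    have hgN : (g : G) ∈ Subgroup.normalizer ((P : Subgroup G) : Set G) :=
      Subgroup.mem_normalizer_fintype fun y hy => Subgroup.mem_subgroupOf.1
        ((Subgroup.mem_normalizer_iff.1 hg ⟨y, hPC hy⟩).1 (Subgroup.mem_subgroupOf.2 hy))
    refine Subgroup.mem_centralizer_iff.2 fun y hy => Subtype.ext ?_
    exact Subgroup.mem_centralizer_iff.1 (h.mem_centralizer_of_eight h8 a.2 ha1 hgN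
      (Subgroup.mem_centralizer_singleton_iff.1 g.2)) y (Subgroup.mem_subgroupOf.1 hy)
  haveI : IsMulCommutative (T : Subgroup C) := ⟨⟨fun x y => Subtype.ext (Subtype.ext
    (he.comm (Subgroup.mem_subgroupOf.1 x.2) (Subgroup.mem_subgroupOf.1 y.2)))⟩⟩
  have hcompl := MonoidHom.ker_transferSylow_isComplement' T hP'
  haveI : Group.IsSolvable (MonoidHom.transferSylow T hP').ker := by
    refine isSolvable_of_two_not_dvd ?_
    rw [← hcompl.index_eq_card]
    exact T.not_dvd_index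
  haveI : Group.IsSolvable (T : Subgroup C) :=
    isSolvable_of_comm fun x y => IsMulCommutative.is_comm.comm x y
  haveI : Group.IsSolvable C := Group.isSolvable_of_ker_le_range
    (MonoidHom.transferSylow T hP').ker.subtype (MonoidHom.transferSylow T hP') (by simp)
  obtain ⟨c, hc⟩ := isConj_iff.1 (h.one_class t a ht (he.orderOf_eq_two a.2 ha1))
  refine Group.isSolvable_of_isSolvable_injective
    (f := MonoidHom.codRestrict ((MulAut.conj c).toMonoidHom.comp
      (Subgroup.centralizer ({t} : Set G)).subtype) C fun z => ?_)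
    fun x y e => Subtype.ext ((MulAut.conj c).injective (congrArg Subtype.val e :))
  refine Subgroup.mem_centralizer_singleton_iff.2 ?_
  show c * z * c⁻¹ * a = a * (c * z * c⁻¹)
  rw [← hc]
  have h1 := Subgroup.mem_centralizer_singleton_iff.1 z.2
  calc c * (z : G) * c⁻¹ * (c * t * c⁻¹) = c * ((z : G) * t) * c⁻¹ := by group
    _ = c * (t * z) * c⁻¹ := by rw [h1]
    _ = c * t * c⁻¹ * (c * z * c⁻¹) := by group

/-- The centraliser of every involution is abelian. -/
theorem abelian_centralizer (t : G) (ht : orderOf t = 2) :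
    IsMulCommutative (Subgroup.centralizer ({t} : Set G)) := by
  have he := h.elem
  haveI := he.nontrivial
  obtain ⟨a, ha⟩ := exists_ne (1 : (P : Subgroup G))
  have ha1 : (a : G) ≠ 1 := fun e => ha (Subtype.ext e)
  have hC := h.centralizer_eq h.isSolvable_centralizer_all a.2 ha1
  obtain ⟨c, hc⟩ := isConj_iff.1 (h.one_class t a ht (he.orderOf_eq_two a.2 ha1))
  have hmem : ∀ z : Subgroup.centralizer ({t} : Set G), c * (z : G) * c⁻¹ ∈ (P : Subgroup G) := by
    intro z
    rw [← hC, Subgroup.mem_centralizer_singleton_iff, ← hc]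
    have h1 := Subgroup.mem_centralizer_singleton_iff.1 z.2
    calc c * (z : G) * c⁻¹ * (c * t * c⁻¹) = c * ((z : G) * t) * c⁻¹ := by group
      _ = c * (t * z) * c⁻¹ := by rw [h1]
      _ = c * t * c⁻¹ * (c * z * c⁻¹) := by group
  exact ⟨⟨fun x y => Subtype.ext ((MulAut.conj c).injective (by
    show c * ((x : G) * y) * c⁻¹ = c * ((y : G) * x) * c⁻¹
    have := he.comm (hmem x) (hmem y)
    calc c * ((x : G) * y) * c⁻¹ = c * x * c⁻¹ * (c * y * c⁻¹) := by group
      _ = c * y * c⁻¹ * (c * x * c⁻¹) := this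
      _ = c * ((y : G) * x) * c⁻¹ := by group))⟩⟩

end DiffData

end Cfsg.Agent.Lib.B0Diff
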