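import Cfsg.Agent.Lib.B0Diff.Reduce
import Cfsg.Agent.Lib.Chars.Completeness
import Mathlib

/-!
The values at an involution: the characters of degree `|P| - 1`, their number, and elements of odd
order lying in the cores of many involution centralisers.
-/

set_option autoImplicit false
set_option linter.unusedSectionVars false
set_option linter.style.haveILetI false

namespace Cfsg.Agent.Lib.B0Diff

open Cfsg
open Cfsg.Agent.Lib
open Cfsg.Agent.Lib.Blocks
open scoped ComplexConjugate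

universe u

variable {G : Type u} [Group G] [Finite G] {M : Ideal AlgInt} [M.IsPrime] {P : Sylow 2 G}

/-- The characters of degree `|P| - 1` in the principal block. -/
noncomputable def A0 (M : Ideal AlgInt) (P : Sylow 2 G) : Finset (IrrCharacter G) :=
  (B1 M G).filter fun χ => deg χ + 1 = Nat.card (P : Subgroup G)

omit [M.IsPrime] in
theorem mem_A0 {χ : IrrCharacter G} :
    χ ∈ A0 M P ↔ χ ∈ B1 M G ∧ deg χ + 1 = Nat.card (P : Subgroup G) := Finset.mem_filter

namespace DiffData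

variable (h : DiffData M G P)
include h

theorem card_ge_two : 2 ≤ Nat.card (P : Subgroup G) :=
  haveI := Fact.mk Nat.prime_two
  Nat.le_of_dvd Nat.card_pos (P.dvd_card_of_dvd_card h.even)

theorem exists_invo : ∃ t : G, orderOf t = 2 :=
  haveI := Fact.mk Nat.prime_two
  exists_prime_orderOf_dvd_card' (G := G) 2 h.even

theorem orderOf_eq_two {a : G} (ha : a ∈ (P : Subgroup G)) (ha1 : a ≠ 1) : orderOf a = 2 :=
  haveI := Fact.mk Nat.prime_two
  orderOf_eq_prime (by rw [pow_two]; exact congrArg Subtype.val (sylow_sq h.sq_one ⟨a, ha⟩)) ha1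

theorem value_sub {χ : IrrCharacter G} (hχ : χ ∈ B1 M G) {t : G} (ht : orderOf t = 2) :
    (χ : G → ℂ) t = (deg χ : ℂ) - (Nat.card (P : Subgroup G) : ℂ) := by
  rw [← deg_eq, ← h.diff χ hχ t ht]
  ring

/-- The degree is at least `|P| - 1`. -/
theorem card_le_deg {χ : IrrCharacter G} (hχ : χ ∈ B1 M G) :
    Nat.card (P : Subgroup G) ≤ deg χ + 1 := by
  classical
  haveI := Fact.mk Nat.prime_two
  haveI : Fintype (P : Subgroup G) := Fintype.ofFinite _
  obtain ⟨n, hn⟩ := exists_mult (Chars.irr_isCharacter χ) (P : Subgroup G) 1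
  set q := Nat.card (P : Subgroup G) with hq
  have hsum : ∑ a : (P : Subgroup G), (χ : G → ℂ) a * conj (((1 : (P : Subgroup G) →* ℂˣ) a : ℂ)) =
      (deg χ : ℂ) + ((q : ℂ) - 1) * ((deg χ : ℂ) - (q : ℂ)) := by
    rw [← Finset.add_sum_erase _ _ (Finset.mem_univ (1 : (P : Subgroup G))), Finset.sum_congr rfl
      (g := fun _ => (deg χ : ℂ) - (q : ℂ)) fun a ha => by
        rw [h.value_sub hχ (h.orderOf_eq_two a.2 fun e => (Finset.mem_erase.1 ha).1 (Subtype.ext e))]
        simp [q],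
      Finset.sum_const, Finset.card_erase_of_mem (Finset.mem_univ _), Finset.card_univ,
      ← Nat.card_eq_fintype_card, ← hq, nsmul_eq_mul, Nat.cast_sub Nat.card_pos, Nat.cast_one]
    simp [deg_eq, q]
  rw [hsum] at hn
  have h1 : (q : ℂ) * ((deg χ + 1 : ℕ) : ℂ) = (q : ℂ) * ((q + n : ℕ) : ℂ) := by
    push_cast
    linear_combination hn
  have h2 : q * (deg χ + 1) = q * (q + n) := by exact_mod_cast h1
  have := Nat.eq_of_mul_eq_mul_left (Nat.card_pos (α := (P : Subgroup G))) h2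
  omega

theorem value_A0 {χ : IrrCharacter G} (hχ : χ ∈ A0 M P) {t : G} (ht : orderOf t = 2) :
    (χ : G → ℂ) t = -1 := by
  rw [h.value_sub (mem_A0.1 hχ).1 ht, ← (mem_A0.1 hχ).2]
  push_cast
  ring

theorem value_one_A0 {χ : IrrCharacter G} (hχ : χ ∈ A0 M P) :
    (χ : G → ℂ) 1 = (Nat.card (P : Subgroup G) : ℂ) - 1 := by
  rw [deg_eq, ← (mem_A0.1 hχ).2]
  push_cast
  ring

/-- The nonprincipal characters of the principal block are faithful. -/
theorem eq_one_of_value {χ : IrrCharacter G} (hχ : χ ∈ B1 M G) {x : G}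
    (hx : (χ : G → ℂ) x = (χ : G → ℂ) 1) : x = 1 := by
  classical
  haveI := Fact.mk Nat.prime_two
  obtain ⟨n, ρ, -, hρ⟩ := χ.2
  have hK : ∀ y, y ∈ MonoidHom.ker ρ ↔ (χ : G → ℂ) y = (χ : G → ℂ) 1 := fun y => by
    rw [MonoidHom.mem_ker, Chars.rep_eq_one_iff, hρ]
  have hodd : (Nat.card (MonoidHom.ker ρ)).Coprime 2 := by
    refine Nat.coprime_comm.1 ((Nat.prime_two.coprime_iff_not_dvd).2 fun h2 => ?_)
    obtain ⟨y, hy⟩ := exists_prime_orderOf_dvd_card' (G := MonoidHom.ker ρ) 2 h2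
    have hyo : orderOf (y : G) = 2 := by rw [Subgroup.orderOf_coe, hy]
    have := h.diff χ hχ (y : G) hyo
    rw [(hK y).1 y.2, sub_self] at this
    have h0 : Nat.card (P : Subgroup G) = 0 := Nat.cast_eq_zero.1 this.symm
    have := Nat.card_pos (α := (P : Subgroup G))
    omega
  have hle : MonoidHom.ker ρ ≤ pPrimeCore 2 G := le_sSup ⟨inferInstance, hodd⟩
  exact Subgroup.mem_bot.1 (h.core ▸ hle ((hK x).2 hx))

/-- The sum of the squares of the degrees in the principal block of an involution centraliser. -/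
theorem sum_value_sq {t : G} (ht : orderOf t = 2) {K : Subgroup G}
    (hK : K = Subgroup.centralizer ({t} : Set G)) :
    (1 : ℤ) + ∑ χ ∈ B1 M G, ((deg χ : ℤ) - (Nat.card (P : Subgroup G) : ℤ)) ^ 2 =
      ((∑ᶠ ψ ∈ principalBlock M K, charDegree (ψ : K → ℂ) ^ 2 : ℕ) : ℤ) := by
  haveI := Fact.mk Nat.prime_two
  have h1 := PrincipalInner.sum_principal_sq h.modular (x := t) ⟨1, by rw [ht, pow_one]⟩ hK
  rw [finsum_B0, sum_B0] at h1
  have h2 : ∀ χ ∈ B1 M G, (χ : G → ℂ) t * conj ((χ : G → ℂ) t) =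
      ((((deg χ : ℤ) - (Nat.card (P : Subgroup G) : ℤ)) ^ 2 : ℤ) : ℂ) := by
    intro χ hχ
    rw [h.value_sub hχ ht]
    simp only [map_sub, Complex.conj_natCast]
    push_cast
    ring
  rw [Finset.sum_congr rfl h2] at h1
  simp only [Chars.trivialIrr_apply, map_one, mul_one] at h1
  apply Int.cast_injective (α := ℂ)
  rw [Int.cast_natCast, ← h1]
  push_cast
  ring

theorem sum_deg_mul {t : G} (ht : orderOf t = 2) :
    (1 : ℤ) + ∑ χ ∈ B1 M G, (deg χ : ℤ) * ((deg χ : ℤ) - (Nat.card (P : Subgroup G) : ℤ)) = 0 := by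
  haveI := Fact.mk Nat.prime_two
  have h1 := orth_one (M := M) h.modular (g := t) (by rw [ht])
  rw [sum_B0, Finset.sum_congr rfl (g := fun χ : IrrCharacter G =>
    (((deg χ : ℤ) * ((deg χ : ℤ) - (Nat.card (P : Subgroup G) : ℤ)) : ℤ) : ℂ)) fun χ hχ => by
      rw [h.value_sub hχ ht, deg_eq]; push_cast; ring] at h1
  simp only [Chars.trivialIrr_apply, mul_one] at h1
  exact_mod_cast h1

/-- The principal block of an involution centraliser is bounded by the number of characters of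
degree `|P| - 1`. -/
theorem card_bound {t : G} (ht : orderOf t = 2) {K : Subgroup G}
    (hK : K = Subgroup.centralizer ({t} : Set G)) :
    ∃ d : ℕ, (∑ᶠ ψ ∈ principalBlock M K, charDegree (ψ : K → ℂ) ^ 2) =
        Nat.card (P : Subgroup G) * d ∧ 0 < d ∧ d ≤ (A0 M P).card ∧
      Nat.card (P : Subgroup G) * d ≤ 1 + (A0 M P).card + ((A0 M P).card - d) ^ 2 := by
  classical
  set q : ℤ := (Nat.card (P : Subgroup G) : ℤ) with hq
  have hq0 : 0 < q := by rw [hq]; exact_mod_cast Nat.card_pos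
  set D := ∑ᶠ ψ ∈ principalBlock M K, charDegree (ψ : K → ℂ) ^ 2 with hD
  have h1 := h.sum_value_sq ht hK
  have h2 := h.sum_deg_mul ht
  rw [← hq] at h1 h2
  set R := (B1 M G).filter fun χ => ¬ deg χ + 1 = Nat.card (P : Subgroup G) with hR
  have hsplit : ∀ f : IrrCharacter G → ℤ, ∑ χ ∈ B1 M G, f χ =
      ∑ χ ∈ A0 M P, f χ + ∑ χ ∈ R, f χ := fun f =>
    (Finset.sum_filter_add_sum_filter_not _ _ _).symm
  set a := (A0 M P).card with ha
  -- `s χ = m - 1 ≥ 0` on the remaining characters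
  let s : IrrCharacter G → ℤ := fun χ => (deg χ : ℤ) - q
  have hs : ∀ χ ∈ R, 0 ≤ s χ := by
    intro χ hχ
    obtain ⟨hχ1, hne⟩ := Finset.mem_filter.1 hχ
    have := h.card_le_deg hχ1
    simp only [s, hq]
    omega
  have hA : ∀ χ ∈ A0 M P, s χ = -1 := by
    intro χ hχ
    have := (mem_A0.1 hχ).2
    simp only [s, hq]
    omega
  have hS2 : (D : ℤ) = 1 + a + ∑ χ ∈ R, s χ ^ 2 := by
    rw [← h1, hsplit, Finset.sum_congr rfl (g := fun _ => (1 : ℤ)) fun χ hχ => by
      show s χ ^ 2 = 1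
      rw [hA χ hχ]; rfl]
    simp only [Finset.sum_const, nsmul_eq_mul, mul_one, ha, s]
    ring
  have hS1 : q * a = q * ∑ χ ∈ R, s χ + D := by
    have h2' : (1 : ℤ) + ∑ χ ∈ B1 M G, (s χ ^ 2 + q * s χ) = 0 := by
      rw [← h2]
      exact congrArg _ (Finset.sum_congr rfl fun χ _ => by simp only [s]; ring)
    rw [Finset.sum_add_distrib, ← add_assoc, h1, hsplit, Finset.sum_congr rfl
      (g := fun _ => -q) fun χ hχ => by rw [hA χ hχ]; ring] at h2'
    simp only [Finset.sum_const, nsmul_eq_mul, ← ha, ← Finset.mul_sum] at h2'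
    linarith
  have hS : ∑ χ ∈ R, s χ ^ 2 ≤ (∑ χ ∈ R, s χ) ^ 2 := Finset.sum_sq_le_sq_sum_of_nonneg hs
  have hS0 : 0 ≤ ∑ χ ∈ R, s χ ^ 2 := Finset.sum_nonneg fun χ _ => sq_nonneg _
  set S := ∑ χ ∈ R, s χ with hSdef
  have hSnn : 0 ≤ S := Finset.sum_nonneg hs
  have hDpos : 0 < (D : ℤ) := by rw [hS2]; positivity
  have hD' : (D : ℤ) = q * ((a : ℤ) - S) := by linear_combination -hS1
  have hd : 0 < (a : ℤ) - S := by
    by_contra hc
    have := mul_nonpos_of_nonneg_of_nonpos hq0.le (not_lt.1 hc)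
    omega
  obtain ⟨d, hd'⟩ := Int.eq_ofNat_of_zero_le hd.le
  have hda : d ≤ a := by omega
  have e : ((a - d : ℕ) : ℤ) = S := by rw [Nat.cast_sub hda]; omega
  refine ⟨d, ?_, by omega, hda, ?_⟩
  · rw [hd', hq] at hD'
    exact_mod_cast hD'
  · have : q * (d : ℤ) ≤ 1 + (a : ℤ) + ((a - d : ℕ) : ℤ) ^ 2 := by
      rw [e, ← hd', ← hD', hS2]; linarith
    rw [hq] at this
    exact_mod_cast this

theorem A0_nonempty : (A0 M P).Nonempty := by
  obtain ⟨t, ht⟩ := h.exists_invo
  obtain ⟨d, -, hd, hda, -⟩ := h.card_bound ht (K := Subgroup.centralizer ({t} : Set G)) rfl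
  exact Finset.card_pos.1 (by omega)

/-- The characters of the principal block are constant on `a · O(C(a))`. -/
theorem apply_core {a z : G} (ha : orderOf a = 2) (hz : z ∈ centralizerPPrimeCore 2 a)
    {χ : IrrCharacter G} (hχ : χ ∈ principalBlock M G) : (χ : G → ℂ) (a * z) = (χ : G → ℂ) a :=
  haveI := Fact.mk Nat.prime_two
  PrincipalSection.apply_mul_eq h.modular (p := 2) ⟨1, by rw [ha, pow_one]⟩
    (PrincipalInner.secondMain_holds h.modular ⟨1, by rw [ha, pow_one]⟩) hz hχ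

/-- An element of odd order in the cores of the centralisers of all involutions of a subgroup of
index at most two in `P` is trivial, if real when the index is two. -/
theorem eq_one_of_cores {E : Subgroup G} (hE : E ≤ (P : Subgroup G)) {y : G}
    (hy : ¬ 2 ∣ orderOf y) (hcomm : ∀ a ∈ E, Commute a y)
    (hv : ∀ a ∈ E, a ≠ 1 → y ∈ centralizerPPrimeCore 2 a)
    (hidx : Nat.card (P : Subgroup G) = Nat.card E ∨
      (Nat.card (P : Subgroup G) = 2 * Nat.card E ∧ IsConj y y⁻¹)) : y = 1 := by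
  classical
  obtain ⟨χ, hχ⟩ := h.A0_nonempty
  have hχ1 := (mem_A0.1 hχ).1
  set Y := Subgroup.zpowers y with hY
  haveI : Fintype E := Fintype.ofFinite _
  haveI : Fintype Y := Fintype.ofFinite _
  have hc : ∀ (a : E) (z : Y), Commute (E.subtype a) (Y.subtype z) := by
    intro a z
    obtain ⟨k, hk⟩ := Subgroup.mem_zpowers_iff.1 z.2
    show Commute (a : G) (z : G)
    rw [← hk]
    exact (hcomm a a.2).zpow_right k
  let φ : E × Y →* G := MonoidHom.noncommCoprod E.subtype Y.subtype hc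
  set e : ℂ := (Nat.card E : ℂ) with he
  have he0 : e ≠ 0 := Nat.cast_ne_zero.2 Nat.card_pos.ne'
  let f : Y → ℂ := fun z => e⁻¹ * ((χ : G → ℂ) z - (e - 1))
  have hsumE : ∀ z : Y, ∑ a : E, (χ : G → ℂ) ((a : G) * z) = (χ : G → ℂ) z - (e - 1) := by
    intro z
    rw [← Finset.add_sum_erase _ _ (Finset.mem_univ (1 : E)), Finset.sum_congr rfl
      (g := fun _ => (-1 : ℂ)) fun a ha => by
        have ha1 : (a : G) ≠ 1 := fun e => (Finset.mem_erase.1 ha).1 (Subtype.ext e)
        have ha2 := h.orderOf_eq_two (hE a.2) ha1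
        rw [h.apply_core ha2 ((Subgroup.zpowers_le.2 (hv a a.2 ha1)) z.2) (mem_B1.1 hχ1).1,
          h.value_A0 hχ ha2],
      Finset.sum_const, Finset.card_erase_of_mem (Finset.mem_univ _), Finset.card_univ,
      ← Nat.card_eq_fintype_card, nsmul_eq_mul, Nat.cast_sub Nat.card_pos, Nat.cast_one, ← he,
      OneMemClass.coe_one, one_mul]
    ring
  have hfcl : IsClassFunction Y f := fun g k => by
    have : k * g * k⁻¹ = g := Subtype.ext (by
      obtain ⟨i, hi⟩ := Subgroup.mem_zpowers_iff.1 g.2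
      obtain ⟨j, hj⟩ := Subgroup.mem_zpowers_iff.1 k.2
      push_cast
      rw [← hi, ← hj, ← zpow_add, ← zpow_neg, ← zpow_add]
      congr 1
      ring)
    rw [this]
  have hf : IsCharacter Y f := by
    refine Chars.isCharacter_of_isClassFunction_of_nat hfcl fun μ => ?_
    obtain ⟨n, hn⟩ := Chars.isCharacter_classInner_nat
      (Chars.isCharacter_comp φ (Chars.irr_isCharacter χ))
      (Chars.isCharacter_comp (MonoidHom.snd E Y) (Chars.irr_isCharacter μ))
    refine ⟨n, ?_⟩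
    rw [← hn, classInner, classInner, Nat.card_prod, Fintype.sum_prod_type, Finset.sum_comm]
    push_cast
    rw [Finset.mul_sum, Finset.mul_sum]
    refine Finset.sum_congr rfl fun z _ => ?_
    simp only [f, MonoidHom.coe_snd, φ,
      MonoidHom.noncommCoprod_apply, Subgroup.coe_subtype]
    rw [← Finset.sum_mul, hsumE z, ← he]
    ring
  have hf1 : f 1 = ((Nat.card (P : Subgroup G) : ℂ) - e) / e := by
    simp only [f, OneMemClass.coe_one, h.value_one_A0 hχ]
    field_simp
    ring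
  have hval : ∀ z : Y, (χ : G → ℂ) z = e * f z + (e - 1) := fun z => by
    simp only [f]
    field_simp
    ring
  have hy1 : ∀ c : ℂ, f ⟨y, Subgroup.mem_zpowers y⟩ = c → f 1 = c → y = 1 := by
    intro c h1 h2
    refine h.eq_one_of_value hχ1 ?_
    have e1 := hval ⟨y, Subgroup.mem_zpowers y⟩
    have e2 := hval 1
    rw [h1] at e1
    rw [h2] at e2
    exact e1.trans e2.symm
  rcases hidx with hidx | ⟨hidx, hreal⟩
  · rw [hidx, ← he, sub_self, zero_div] at hf1
    obtain ⟨n, ρ, hρ⟩ := hf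
    refine hy1 0 ?_ hf1
    rw [← hρ, Representation.char_one, Module.finrank_fin_fun, Nat.cast_eq_zero] at hf1
    subst hf1
    rw [← hρ, Chars.char_zero_of_subsingleton]
    rfl
  · rw [hidx, Nat.cast_mul, Nat.cast_two, ← he, show (2 * e - e) / e = 1 by field_simp; ring] at hf1
    obtain ⟨μ, hμ⟩ := Chars.exists_hom_of_degree_one hf hf1
    set w : Y := ⟨y, Subgroup.mem_zpowers y⟩
    refine hy1 1 ?_ hf1
    have hinv : μ w = μ w⁻¹ := by
      obtain ⟨c, hc⟩ := isConj_iff.1 hreal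
      refine Units.ext ?_
      rw [← congrFun hμ w, ← congrFun hμ w⁻¹]
      have : (χ : G → ℂ) ((w⁻¹ : Y) : G) = (χ : G → ℂ) (w : G) := by
        show (χ : G → ℂ) y⁻¹ = (χ : G → ℂ) y
        rw [← hc, Chars.irr_isClassFunction χ]
      simp only [f, this]
    rw [map_inv, eq_inv_iff_mul_eq_one, ← pow_two] at hinv
    have h3 : orderOf (μ w) ∣ Nat.gcd 2 (orderOf y) :=
      Nat.dvd_gcd (orderOf_dvd_of_pow_eq_one hinv)
        ((orderOf_map_dvd μ w).trans (dvd_of_eq (Subgroup.orderOf_mk _ _)))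
    rw [(Nat.prime_two.coprime_iff_not_dvd.2 hy).gcd_eq_one, Nat.dvd_one, orderOf_eq_one_iff] at h3
    rw [congrFun hμ w, h3, Units.val_one]

end DiffData

end Cfsg.Agent.Lib.B0Diff
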