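import Cfsg.Agent.Lib.B0Diff.Eight
import Cfsg.Agent.Lib.SL2.Basic
import Cfsg.Agent.S2202
import Mathlib

/-!
Constant differences with trivial core: order two or `PSL(2, 2ⁿ)`.
-/

set_option autoImplicit false
set_option linter.unusedSectionVars false
set_option linter.style.haveILetI false

namespace Cfsg.Agent.Lib.B0Diff

open Cfsg
open Cfsg.Agent.Lib

universe u

variable {X : Type u} [Group X] [Finite X] {M : Ideal AlgInt} [M.IsPrime]

namespace DiffData

variable {P : Sylow 2 X} (h : DiffData M X P)
include h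

theorem card_eq_two (hq : Nat.card (P : Subgroup X) = 2) : Nat.card X = 2 := by
  classical
  haveI := Fact.mk Nat.prime_two
  have he := h.elem
  haveI : IsMulCommutative (P : Subgroup X) := he.isMulCommutative
  have hNC : Subgroup.normalizer ((P : Subgroup X) : Set X) ≤
      Subgroup.centralizer ((P : Subgroup X) : Set X) := by
    intro g hg
    refine Subgroup.mem_centralizer_iff.2 fun a ha => ?_
    rcases eq_or_ne a 1 with rfl | ha1
    · simp
    · have hb := (Subgroup.mem_normalizer_iff.1 hg a).1 ha
      obtain ⟨x, y, hxy, huniv⟩ := Nat.card_eq_two_iff.1 hq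
      have hmem : ∀ b : (P : Subgroup X), b ≠ 1 → b = ⟨a, ha⟩ := by
        intro b hb1
        have ha' : (⟨a, ha⟩ : (P : Subgroup X)) ≠ 1 := fun e => ha1 (congrArg Subtype.val e)
        have hall : ∀ z : (P : Subgroup X), z = x ∨ z = y := fun z => by
          have hz : z ∈ ({x, y} : Set (P : Subgroup X)) := by rw [huniv]; exact Set.mem_univ z
          simpa using hz
        rcases hall b with e1 | e1 <;> rcases hall ⟨a, ha⟩ with e2 | e2 <;>
          rcases hall 1 with e3 | e3 <;>
            first
              | exact e1.trans e2.symm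
              | exact absurd (e1.trans e3.symm) hb1
              | exact absurd (e2.trans e3.symm) ha'
      have := congrArg Subtype.val (hmem ⟨g * a * g⁻¹, hb⟩ fun e => ha1
        (conj_eq_one_iff.1 (congrArg Subtype.val e)))
      exact (mul_inv_eq_iff_eq_mul.1 this).symm
  have := MonoidHom.normal_ker (MonoidHom.transferSylow P hNC)
  have hle : (MonoidHom.transferSylow P hNC).ker ≤ pPrimeCore 2 X :=
    PSolvable.le_pPrimeCore (Nat.prime_two.coprime_iff_not_dvd.2
      (MonoidHom.not_dvd_card_ker_transferSylow P hNC)).symm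
  rw [h.core, le_bot_iff] at hle
  have hc := (MonoidHom.ker_transferSylow_isComplement' P hNC).card_mul_card
  rw [hle, Subgroup.card_bot, one_mul, hq] at hc
  exact hc.symm

theorem card_eq_two_of_normal (hn : (P : Subgroup X).Normal) : Nat.card X = 2 := by
  classical
  haveI := Fact.mk Nat.prime_two
  have he := h.elem
  haveI := he.nontrivial
  obtain ⟨a, ha⟩ := exists_ne (1 : (P : Subgroup X))
  have ha1 : (a : X) ≠ 1 := fun e => ha (Subtype.ext e)
  have ha2 := he.orderOf_eq_two a.2 ha1
  refine h.card_eq_two ?_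
  haveI : Group.IsSolvable (P : Subgroup X) :=
    isSolvable_of_comm fun x y => Subtype.ext (he.comm x.2 y.2)
  haveI := hn
  haveI : Group.IsSolvable (X ⧸ (P : Subgroup X)) := isSolvable_of_two_not_dvd (by
    rw [← Subgroup.index_eq_card]; exact P.not_dvd_index)
  haveI : Group.IsSolvable X := Group.isSolvable_of_ker_le_range (P : Subgroup X).subtype
    (QuotientGroup.mk' (P : Subgroup X)) (by simp)
  haveI : Nontrivial X := ⟨⟨(a : X), 1, ha1⟩⟩
  have hlt := Group.IsSolvable.commutator_lt_top_of_nontrivial (G := X)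
  obtain ⟨g, -, hg⟩ := SetLike.exists_of_lt hlt
  have hne : (Abelianization.of g : Abelianization X) ≠ 1 := fun e =>
    hg ((QuotientGroup.eq_one_iff g).1 e)
  haveI : Finite (Abelianization X) := Quotient.finite _
  obtain ⟨l, hl⟩ := CommGroup.exists_apply_ne_one_of_hasEnoughRootsOfUnity (Abelianization X) ℂ hne
  set lam : X →* ℂˣ := l.comp Abelianization.of
  have hC : Subgroup.centralizer ((P : Subgroup X) : Set X) ≤ (P : Subgroup X) := by
    exact le_trans (fun z hz => Subgroup.mem_centralizer_singleton_iff.2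
      (Subgroup.mem_centralizer_iff.1 hz a a.2).symm)
      (h.centralizer_eq h.isSolvable_centralizer_all a.2 ha1).le
  have hmem : Chars.linIrr lam ∈ B1 M X := mem_B1.2
    ⟨HeightPSolv.sameBlock_of_centralizer_le h.modular (P : Subgroup X) P.2 hC
      (Chars.trivialIrr X) (Chars.linIrr lam), fun e => hl (Units.ext (congrFun e g))⟩
  have hd := h.diff _ hmem a ha2
  change ((lam 1 : ℂˣ) : ℂ) - ((lam a : ℂˣ) : ℂ) = _ at hd
  have hsq : ((lam a : ℂˣ) : ℂ) ^ 2 = 1 := by
    rw [← Units.val_pow_eq_pow_val, ← map_pow, pow_two, he.sq _ a.2, map_one, Units.val_one]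
  rw [map_one, Units.val_one] at hd
  rcases sq_eq_one_iff.1 hsq with e | e
  · rw [e, sub_self, eq_comm, Nat.cast_eq_zero] at hd
    have := h.card_ge_two
    omega
  · rw [e, sub_neg_eq_add, one_add_one_eq_two] at hd
    exact_mod_cast hd.symm

end DiffData

/-- The classification with trivial core. -/
theorem classify (hM : IsPModular 2 M) (hO : pPrimeCore 2 X = ⊥) {u : X} (hu : u ≠ 1) {k : ℂ}
    (hk : ∀ χ ∈ B1 M X, (χ : X → ℂ) 1 - (χ : X → ℂ) u = k) :
    Nat.card X = 2 ∨
      (∃ (F : Type) (_ : Field F) (_ : Fintype F) (n : ℕ), 2 ≤ n ∧ Fintype.card F = 2 ^ n ∧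
        Nonempty (X ≃* Matrix.ProjectiveSpecialLinearGroup (Fin 2) F) ∧ u * u = 1) := by
  classical
  haveI := Fact.mk Nat.prime_two
  have heven : 2 ∣ Nat.card X := by
    by_contra h2
    refine hu (Subgroup.mem_bot.1 (hO ▸ (?_ : (⊤ : Subgroup X) ≤ pPrimeCore 2 X) (Subgroup.mem_top u)))
    refine PSolvable.le_pPrimeCore ?_
    rw [Subgroup.card_top]
    exact (Nat.prime_two.coprime_iff_not_dvd.2 h2).symm
  obtain ⟨P⟩ := (inferInstance : Nonempty (Sylow 2 X))
  have h := diffData hM hO heven hu hk P
  have he := h.elem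
  rcases Cfsg.Agent.S2202.result (even_iff_two_dvd.2 heven) h.abelian_centralizer with
    hcyc | hn | ⟨F, hF, hFt, A, hA, hAfin, hchar, hodd, ⟨e⟩⟩
  · left
    refine h.card_eq_two ?_
    haveI : IsCyclic (P : Subgroup X) := hcyc P
    obtain ⟨g, hg⟩ := IsCyclic.exists_generator (α := (P : Subgroup X))
    have h1 : orderOf g = Nat.card (P : Subgroup X) := orderOf_eq_card_of_forall_mem_zpowers hg
    have h2 : orderOf g ∣ 2 := orderOf_dvd_of_pow_eq_one (by
      rw [pow_two]; exact Subtype.ext (he.sq _ g.2))
    rw [h1] at h2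
    have := Nat.le_of_dvd (by norm_num) h2
    have := h.card_ge_two
    omega
  · exact Or.inl (h.card_eq_two_of_normal (hn P))
  · haveI := hAfin
    -- the odd factor is trivial
    let ι : A →* X := e.symm.toMonoidHom.comp (MonoidHom.inr _ A)
    have hι : Function.Injective ι := fun a b hab => (Prod.ext_iff.1 (e.symm.injective hab)).2
    haveI : ι.range.Normal := by
      refine ⟨fun x hx g => ?_⟩
      obtain ⟨a, rfl⟩ := hx
      refine ⟨a, e.injective ?_⟩
      simp only [ι, MonoidHom.coe_comp, Function.comp_apply, MonoidHom.inr_apply, map_mul, map_inv,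
        MulEquiv.coe_toMonoidHom, MulEquiv.apply_symm_apply]
      exact Prod.ext (by simp) (by simp [mul_comm])
    have hAsub : Subsingleton A := by
      refine (Nat.card_eq_one_iff_unique.1 ?_).1
      have hle : ι.range ≤ pPrimeCore 2 X := by
        refine PSolvable.le_pPrimeCore ?_
        rw [← Nat.card_congr (MonoidHom.ofInjective hι).toEquiv]
        exact Nat.coprime_two_right.2 hodd
      rw [hO, le_bot_iff] at hle
      rw [Nat.card_congr (MonoidHom.ofInjective hι).toEquiv, hle, Subgroup.card_bot]
    haveI := hAsub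
    let eSL : X ≃* Matrix.SpecialLinearGroup (Fin 2) F := e.trans (MulEquiv.ofBijective
      (MonoidHom.fst (Matrix.SpecialLinearGroup (Fin 2) F) A)
      ⟨fun x y hxy => Prod.ext hxy (Subsingleton.elim _ _), fun x => ⟨(x, 1), rfl⟩⟩)
    obtain ⟨p, n, hp, hn⟩ : ∃ p n, p = 2 ∧ Fintype.card F = p ^ n := by
      obtain ⟨n, -, hn⟩ := FiniteField.card F 2
      exact ⟨2, n, rfl, hn⟩
    subst hp
    by_cases hn2 : 2 ≤ n
    · right
      have h2 : (2 : F) = 0 := CharTwo.two_eq_zero
      refine ⟨F, hF, hFt, n, hn2, hn, ⟨eSL.trans ((QuotientGroup.quotientMulEquivOfEq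
        (SL2.center_eq_bot_even h2)).trans QuotientGroup.quotientBot).symm⟩, ?_⟩
      obtain ⟨s, hs⟩ := Blocks.exists_isPPart (p := 2) u
      have hso := orderOf_part hM hO heven hu hk hs
      haveI := he.nontrivial
      obtain ⟨a, ha⟩ := exists_ne (1 : (P : Subgroup X))
      have ha1 : (a : X) ≠ 1 := fun e => ha (Subtype.ext e)
      obtain ⟨c, hc⟩ := isConj_iff.1 (h.one_class s a hso (he.orderOf_eq_two a.2 ha1))
      obtain ⟨v, hsv, hcomm, -, -⟩ := hs
      have hus : Commute u s := by rw [← hsv]; exact (Commute.refl s).mul_left hcomm.symm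
      have hcu : c * u * c⁻¹ ∈ (P : Subgroup X) := by
        rw [← h.centralizer_eq h.isSolvable_centralizer_all a.2 ha1,
          Subgroup.mem_centralizer_singleton_iff, ← hc]
        exact (hus.map (MulAut.conj c).toMonoidHom).eq
      have hsq := he.sq _ hcu
      rw [show c * u * c⁻¹ * (c * u * c⁻¹) = c * (u * u) * c⁻¹ by group, conj_eq_one_iff] at hsq
      exact hsq
    · left
      refine h.card_eq_two ?_
      have hX : Nat.card X = 6 := by
        rw [Nat.card_congr eSL.toEquiv, SL2.card_SLtwo, hn]
        interval_cases n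
        · exfalso
          have := Fintype.one_lt_card (α := F)
          rw [hn] at this
          norm_num at this
        · norm_num
      rw [P.card_eq_multiplicity, hX, show (6 : ℕ) = 2 ^ 1 * 3 by norm_num,
        Nat.factorization_mul (by norm_num) (by norm_num), Finsupp.add_apply,
        Nat.prime_two.factorization_pow, Finsupp.single_eq_same,
        Nat.factorization_eq_zero_of_not_dvd (by norm_num)]
      norm_num

end Cfsg.Agent.Lib.B0Diff
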