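import Cfsg.Agent.Lib.B0Diff.Reduce
import Cfsg.Agent.Lib.SL2.Classes
import Cfsg.Agent.Lib.LinGroup.Simple
import Mathlib

/-!
In `SL(2, q)`, `q` even, every nonprincipal irreducible character has `χ(1) - χ(u) = q` at an
involution `u`.
-/

set_option autoImplicit false
set_option linter.unusedSectionVars false
set_option linter.style.haveILetI false

namespace Cfsg.Agent.Lib.B0Diff

open Cfsg
open Cfsg.Agent.Lib
open scoped ComplexConjugate

section

variable {F : Type} [Field F] [Fintype F]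

theorem tr_mul_self (h2 : (2 : F) = 0) (g : SL2.SLtwo F) : SL2.tr (g * g) = SL2.tr g * SL2.tr g := by
  have hd := SL2.det_entries g
  simp only [SL2.tr, SL2.mul_00, SL2.mul_11]
  linear_combination (g 0 1 * g 1 0 - g 0 0 * g 1 1) * h2

theorem tr_eq_zero_of_pow (h2 : (2 : F) = 0) : ∀ (j : ℕ) (g : SL2.SLtwo F),
    g ^ 2 ^ j = 1 → SL2.tr g = 0 := by
  intro j
  induction j with
  | zero =>
    intro g hg
    rw [pow_zero, pow_one] at hg
    rw [hg]
    simp only [SL2.tr]
    simpa [one_add_one_eq_two] using h2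
  | succ j ih =>
    intro g hg
    have := ih (g * g) (by rw [← pow_two, ← pow_mul, ← pow_succ']; exact hg)
    rw [tr_mul_self h2] at this
    exact mul_self_eq_zero.1 this

theorem sq_eq_one_SL (h2 : (2 : F) = 0) (g : SL2.SLtwo F) (j : ℕ) (hg : g ^ 2 ^ j = 1) :
    g * g = 1 := by
  have ht := tr_eq_zero_of_pow h2 j g hg
  refine Subtype.ext ?_
  show ((g : Matrix (Fin 2) (Fin 2) F) * g) = 1
  rw [SL2.cayley_hamilton, ht, zero_smul, zero_sub]
  ext a b
  have hneg : (-1 : F) = 1 := by linear_combination -h2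
  fin_cases a <;> fin_cases b <;> simp [hneg]

theorem isConj_involution_SL (h2 : (2 : F) = 0) (g h : SL2.SLtwo F) (hg : orderOf g = 2)
    (hh : orderOf h = 2) : IsConj g h := by
  have key : ∀ g : SL2.SLtwo F, orderOf g = 2 → IsConj g (SL2.comp 0 1) := by
    intro g hg
    have hnc : g ∉ Subgroup.center (SL2.SLtwo F) := by
      rw [SL2.center_eq_bot_even h2, Subgroup.mem_bot]
      intro e
      rw [e, orderOf_one] at hg
      omega
    have ht : SL2.tr g = 0 := tr_eq_zero_of_pow h2 1 g (by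
      have := pow_orderOf_eq_one g
      rw [hg] at this
      rwa [pow_one])
    obtain ⟨v, hv⟩ := SL2.exists_cycForm_ne_zero (SL2.not_isScalarMat hnc)
    have hc := SL2.isConj_comp (Units.mk0 _ hv) (v := v) rfl
    rw [ht] at hc
    refine hc.trans ((SL2.isConj_comp_iff (Or.inl h2.symm) _ _).2 ?_)
    have hchar : ringChar F = 2 := by
      by_contra h; exact Ring.two_ne_zero h h2
    exact iff_of_true (FiniteField.isSquare_of_char_two hchar _)
      (FiniteField.isSquare_of_char_two hchar _)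
  exact (key g hg).trans (key h hh).symm

theorem card_centralizer_upper (h2 : (2 : F) = 0) :
    Nat.card (Subgroup.centralizer ({SL2.upper (1 : F)} : Set (SL2.SLtwo F))) = Fintype.card F := by
  rw [← Nat.card_eq_fintype_card]
  symm
  refine Nat.card_congr (Equiv.ofBijective (fun t => ⟨SL2.upper t,
    Subgroup.mem_centralizer_singleton_iff.2 (by rw [SL2.upper_mul, SL2.upper_mul, add_comm])⟩)
    ⟨fun a b hab => ?_, fun g => ?_⟩)
  · simpa using congrArg (fun x : Subgroup.centralizer ({SL2.upper (1 : F)} : Set (SL2.SLtwo F)) =>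
      (x : SL2.SLtwo F) 0 1) hab
  · obtain ⟨g, hg⟩ := g
    rw [Subgroup.mem_centralizer_singleton_iff] at hg
    have e0 := congrArg (fun x : SL2.SLtwo F => x 0 0) hg
    have e1 := congrArg (fun x : SL2.SLtwo F => x 0 1) hg
    simp only [SL2.mul_00, SL2.mul_01, SL2.upper_00, SL2.upper_01, SL2.upper_10, SL2.upper_11]
      at e0 e1
    have h10 : g 1 0 = 0 := by linear_combination -e0
    have h11 : g 0 0 = g 1 1 := by linear_combination e1
    have hd := SL2.det_entries g
    rw [h10, ← h11] at hd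
    have h00 : g 0 0 = 1 := by
      have : (g 0 0 - 1) * (g 0 0 - 1) = 0 := by linear_combination hd - (g 0 0 - 1) * h2
      exact sub_eq_zero.1 (mul_self_eq_zero.1 this)
    refine ⟨g 0 1, Subtype.ext (SL2.ext_entries ?_ ?_ ?_ ?_)⟩
    · simp [h00]
    · simp
    · simp [h10]
    · simp [← h11, h00]

theorem card_sylow_SL {n : ℕ} (hn : Fintype.card F = 2 ^ n) (hn0 : n ≠ 0)
    (P : Sylow 2 (SL2.SLtwo F)) : Nat.card (P : Subgroup (SL2.SLtwo F)) = Fintype.card F := by
  haveI := Fact.mk Nat.prime_two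
  rw [P.card_eq_multiplicity, SL2.card_SLtwo, hn,
    Nat.factorization_mul (by positivity) ?_, Finsupp.add_apply,
    Nat.prime_two.factorization_pow, Finsupp.single_eq_same,
    Nat.factorization_eq_zero_of_not_dvd ?_, add_zero]
  · have : 2 ∣ (2 ^ n) ^ 2 := dvd_pow (dvd_pow_self 2 hn0) (by norm_num)
    have h1 : 1 ≤ (2 ^ n) ^ 2 := Nat.one_le_pow _ _ (by positivity)
    omega
  · have : 4 ≤ (2 ^ n) ^ 2 := Nat.pow_le_pow_left (Nat.le_of_dvd (by positivity) (dvd_pow_self 2 hn0)) 2
    omega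

/-- The differences at an involution. -/
theorem diff_SL {n : ℕ} (hn : Fintype.card F = 2 ^ n) (hn2 : 2 ≤ n) {u : SL2.SLtwo F}
    (hu : orderOf u = 2) (χ₀ : IrrCharacter (SL2.SLtwo F)) (hχ₀ : χ₀ ≠ Chars.trivialIrr _) :
    (χ₀ : SL2.SLtwo F → ℂ) 1 - (χ₀ : SL2.SLtwo F → ℂ) u = (Fintype.card F : ℂ) := by
  classical
  haveI := Fact.mk Nat.prime_two
  cases nonempty_fintype (SL2.SLtwo F)
  haveI : CharP F 2 := charP_of_card_eq_prime_pow hn
  have h2 : (2 : F) = 0 := CharTwo.two_eq_zero
  set q := Fintype.card F with hq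
  have hq4 : 4 ≤ q := by
    rw [hn]
    exact le_trans (by norm_num) (Nat.pow_le_pow_right (by norm_num) hn2)
  obtain ⟨P⟩ := (inferInstance : Nonempty (Sylow 2 (SL2.SLtwo F)))
  have hP := card_sylow_SL hn (by omega) P
  have hsq := sq_eq_one_SL h2
  have hone := isConj_involution_SL h2
  choose m hm using fun χ : IrrCharacter (SL2.SLtwo F) => exists_natMult (P := P) hone hsq hu χ
  simp only [hP, ← hq] at hm
  -- no nonprincipal character has `u` in its kernel
  have hmpos : ∀ χ : IrrCharacter (SL2.SLtwo F), χ ≠ Chars.trivialIrr _ → 1 ≤ m χ := by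
    intro χ hχ
    by_contra hc
    have h0 := hm χ
    rw [show m χ = 0 by omega, Nat.cast_zero, mul_zero, sub_eq_zero] at h0
    obtain ⟨d, ρ, hρ, hchar⟩ := χ.2
    have huker : u ∈ MonoidHom.ker ρ := by
      rw [MonoidHom.mem_ker, Chars.rep_eq_one_iff, hchar, h0]
    haveI hs : IsSimpleGroup (SL2.SLtwo F) := by
      haveI : IsSimpleGroup (Matrix.ProjectiveSpecialLinearGroup (Fin 2) F) :=
        LinGroup.isSimpleGroup_PSL_fin le_rfl fun _ => by rw [Nat.card_eq_fintype_card]; exact hq4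
      exact ((QuotientGroup.quotientMulEquivOfEq (SL2.center_eq_bot_even h2)).trans
        QuotientGroup.quotientBot).symm.isSimpleGroup
    rcases Subgroup.Normal.eq_bot_or_eq_top (inferInstance : (MonoidHom.ker ρ).Normal) with e | e
    · rw [e, Subgroup.mem_bot] at huker
      rw [huker, orderOf_one] at hu
      omega
    · refine hχ ?_
      have hall : ∀ g, (χ : SL2.SLtwo F → ℂ) g = (χ : SL2.SLtwo F → ℂ) 1 := fun g => by
        rw [← hchar, ← Chars.rep_eq_one_iff, ← MonoidHom.mem_ker, e]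
        exact Subgroup.mem_top g
      by_contra hne
      have h1 := Chars.classInner_irr_of_ne hne
      rw [classInner, mul_eq_zero] at h1
      have h1' := h1.resolve_left (inv_ne_zero Chars.natCard_ne_zero)
      simp only [hall, Chars.trivialIrr_apply, map_one, mul_one, Finset.sum_const, nsmul_eq_mul,
        mul_eq_zero, Nat.cast_eq_zero] at h1'
      exact h1'.elim Fintype.card_ne_zero (Chars.irr_apply_one_ne_zero χ)
  -- the sum of the squares
  have hreal : ∀ χ : IrrCharacter (SL2.SLtwo F),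
      conj ((χ : SL2.SLtwo F → ℂ) u) = (χ : SL2.SLtwo F → ℂ) u := fun χ => by
    obtain ⟨k, hk⟩ := exists_invo_value (Chars.irr_isCharacter χ) hu
    rw [hk, deg_eq]
    simp only [map_sub, map_mul, map_ofNat, Complex.conj_natCast]
  have h11 := Chars.column_orthogonality_of_isConj (IsConj.refl (1 : SL2.SLtwo F))
  have huu := Chars.column_orthogonality_of_isConj (IsConj.refl u)
  have h1u := Chars.sum_degree_mul_irr (G := SL2.SLtwo F) u
  rw [if_neg (fun e => by rw [e, orderOf_one] at hu; omega)] at h1u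
  have hup : orderOf (SL2.upper (1 : F)) = 2 := orderOf_eq_prime
    (by rw [pow_two, SL2.upper_mul, one_add_one_eq_two, h2, SL2.upper_zero])
    (fun e => by simpa using congrArg (fun x : SL2.SLtwo F => x 0 1) e)
  rw [Chars.card_centralizer_eq_of_isConj (hone u _ hu hup), card_centralizer_upper h2] at huu
  have hC1 : Subgroup.centralizer ({1} : Set (SL2.SLtwo F)) = ⊤ :=
    Subgroup.eq_top_iff' _ |>.2 fun g => Subgroup.mem_centralizer_singleton_iff.2 (by simp)
  rw [hC1, Subgroup.card_top, SL2.card_SLtwo] at h11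
  simp only [conj_deg] at h11
  simp only [hreal] at huu
  have hsum : ∑ χ : IrrCharacter (SL2.SLtwo F), ((q * m χ : ℕ) : ℂ) ^ 2 =
      ((q * (q ^ 2 - 1) + q : ℕ) : ℂ) := by
    rw [Nat.cast_add, ← h11, ← hq] at *
    rw [Finset.sum_congr rfl (g := fun χ : IrrCharacter (SL2.SLtwo F) =>
      (χ : SL2.SLtwo F → ℂ) 1 * (χ : SL2.SLtwo F → ℂ) 1 +
        (χ : SL2.SLtwo F → ℂ) u * (χ : SL2.SLtwo F → ℂ) u -
        2 * ((χ : SL2.SLtwo F → ℂ) 1 * (χ : SL2.SLtwo F → ℂ) u)) fun χ _ => by
        rw [Nat.cast_mul, ← hm χ]; ring,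
      Finset.sum_sub_distrib, Finset.sum_add_distrib, ← Finset.mul_sum, h1u, mul_zero, sub_zero,
      huu]
  have hnat : q ^ 2 * ∑ χ : IrrCharacter (SL2.SLtwo F), m χ ^ 2 = q ^ 2 * q := by
    have h' : ∑ χ : IrrCharacter (SL2.SLtwo F), (q * m χ) ^ 2 = q * (q ^ 2 - 1) + q := by
      exact_mod_cast hsum
    simp only [mul_pow, ← Finset.mul_sum] at h'
    rw [h', Nat.mul_sub, mul_one, Nat.sub_add_cancel (Nat.le_mul_of_pos_right q (by positivity))]
    ring
  have hsum2 := Nat.eq_of_mul_eq_mul_left (by positivity) hnat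
  have hcard : ((Finset.univ : Finset (IrrCharacter (SL2.SLtwo F))).erase
      (Chars.trivialIrr _)).card = q := by
    rw [Finset.card_erase_of_mem (Finset.mem_univ _), Finset.card_univ, ← Nat.card_eq_fintype_card,
      Chars.card_irrCharacter, SL2.card_conjClasses_even h2, hq, Nat.add_sub_cancel]
  have hle : ∑ χ ∈ (Finset.univ : Finset (IrrCharacter (SL2.SLtwo F))).erase (Chars.trivialIrr _),
      m χ ^ 2 ≤ q :=
    le_trans (Finset.sum_le_sum_of_subset (Finset.erase_subset _ _)) hsum2.le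
  have hge : ∀ χ ∈ (Finset.univ : Finset (IrrCharacter (SL2.SLtwo F))).erase (Chars.trivialIrr _),
      1 ≤ m χ ^ 2 := fun χ hχ => Nat.one_le_pow _ _ (hmpos χ (Finset.mem_erase.1 hχ).1)
  have heq := (Finset.sum_eq_sum_iff_of_le hge).1 (le_antisymm
    (Finset.sum_le_sum hge) (by rw [Finset.sum_const, hcard]; simpa using hle)) χ₀
    (Finset.mem_erase.2 ⟨hχ₀, Finset.mem_univ _⟩)
  have : m χ₀ = 1 := (pow_eq_one_iff.1 heq.symm).resolve_right (by norm_num)
  rw [hm χ₀, this, Nat.cast_one, mul_one]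

end

end Cfsg.Agent.Lib.B0Diff
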