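import Cfsg.Agent.Lib.B0Diff.Basic
import Mathlib

/-!
From the element `u` to the involutions: every nonprincipal character of the principal 2-block has
`χ(1) - χ(t) = |P|` for all involutions `t`.
-/

set_option autoImplicit false
set_option linter.unusedSectionVars false
set_option linter.style.haveILetI false

namespace Cfsg.Agent.Lib.B0Diff

open Cfsg
open Cfsg.Agent.Lib
open Cfsg.Agent.Lib.Blocks
open scoped ComplexConjugate

universe u

variable {G : Type u} [Group G] [Finite G] {M : Ideal AlgInt} [M.IsPrime]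

/-- The situation reached: elementary abelian Sylow 2-subgroups, one class of involutions and
constant differences at involutions. -/
structure DiffData (M : Ideal AlgInt) (G : Type u) [Group G] [Finite G] (P : Sylow 2 G) : Prop where
  modular : IsPModular 2 M
  core : pPrimeCore 2 G = ⊥
  even : 2 ∣ Nat.card G
  sq_one : ∀ (x : G) (j : ℕ), x ^ 2 ^ j = 1 → x * x = 1
  one_class : ∀ a b : G, orderOf a = 2 → orderOf b = 2 → IsConj a b
  diff : ∀ χ ∈ B1 M G, ∀ t : G, orderOf t = 2 →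
    (χ : G → ℂ) 1 - (χ : G → ℂ) t = (Nat.card (P : Subgroup G) : ℂ)

theorem sylow_sq {P : Sylow 2 G} (h : ∀ (x : G) (j : ℕ), x ^ 2 ^ j = 1 → x * x = 1)
    (a : (P : Subgroup G)) : a * a = 1 := by
  obtain ⟨j, hj⟩ := P.2 a
  exact Subtype.ext (h a j (congrArg Subtype.val hj))

theorem sylow_comm {P : Sylow 2 G} (h : ∀ (x : G) (j : ℕ), x ^ 2 ^ j = 1 → x * x = 1)
    (a b : (P : Subgroup G)) : a * b = b * a := by
  have hinv : ∀ x : (P : Subgroup G), x⁻¹ = x := fun x => inv_eq_of_mul_eq_one_right (sylow_sq h x)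
  rw [← hinv (a * b), mul_inv_rev, hinv a, hinv b]

theorem exists_natMult (hone : ∀ a b : G, orderOf a = 2 → orderOf b = 2 → IsConj a b)
    {P : Sylow 2 G} (hsq : ∀ (x : G) (j : ℕ), x ^ 2 ^ j = 1 → x * x = 1)
    {t : G} (ht : orderOf t = 2) (χ : IrrCharacter G) :
    ∃ c : ℕ, (χ : G → ℂ) 1 - (χ : G → ℂ) t = (Nat.card (P : Subgroup G) : ℂ) * c := by
  classical
  haveI := Fact.mk Nat.prime_two
  set A : Subgroup G := (P : Subgroup G) with hA
  haveI : Fintype A := Fintype.ofFinite _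
  letI : CommGroup A := { (inferInstance : Group A) with mul_comm := sylow_comm hsq }
  have h2 : 2 ∣ Nat.card A := P.dvd_card_of_dvd_card (ht ▸ orderOf_dvd_natCard t)
  obtain ⟨a, ha⟩ := exists_prime_orderOf_dvd_card' (G := A) 2 h2
  have ha1 : a ≠ 1 := fun e => by simp [e] at ha
  obtain ⟨l, hl⟩ := CommGroup.exists_apply_ne_one_of_hasEnoughRootsOfUnity A ℂ ha1
  obtain ⟨c, hc⟩ := exists_mult (Chars.irr_isCharacter χ) A l
  refine ⟨c, ?_⟩
  rw [← hc, ← Finset.add_sum_erase _ _ (Finset.mem_univ (1 : A))]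
  have hv : ∀ b ∈ (Finset.univ : Finset A).erase 1, (χ : G → ℂ) b * conj ((l b : ℂ)) =
      (χ : G → ℂ) t * conj ((l b : ℂ)) := by
    intro b hb
    have hb1 : (b : G) ≠ 1 := fun e => (Finset.mem_erase.1 hb).1 (Subtype.ext e)
    have hb2 : orderOf (b : G) = 2 := orderOf_eq_prime
      (by rw [pow_two]; exact congrArg Subtype.val (sylow_sq hsq b)) hb1
    obtain ⟨g, hg⟩ := isConj_iff.1 (hone _ _ ht hb2)
    rw [← hg, Chars.irr_isClassFunction χ]
  have hsum : ∑ b : A, conj ((l b : ℂ)) = 0 := by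
    have h0 := sum_hom_units_eq_zero ((Units.coeHom ℂ).comp l)
      (fun e => hl (Units.ext (DFunLike.congr_fun e a)))
    simp only [MonoidHom.comp_apply, Units.coeHom_apply] at h0
    rw [← map_sum, h0, map_zero]
  rw [Finset.sum_congr rfl hv, ← Finset.mul_sum]
  rw [← Finset.add_sum_erase _ _ (Finset.mem_univ (1 : A)), map_one, Units.val_one, map_one,
    add_comm, add_eq_zero_iff_eq_neg] at hsum
  rw [hsum, map_one, Units.val_one, map_one, OneMemClass.coe_one]
  ring

/-- An element with a class of odd size lies in a conjugate of the centraliser of `P`. -/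
theorem exists_conj_centralizer (P : Sylow 2 G) {g : G}
    (hg : ¬ 2 ∣ (Subgroup.centralizer ({g} : Set G)).index) :
    ∃ c : G, c * g * c⁻¹ ∈ Subgroup.centralizer ((P : Subgroup G) : Set G) := by
  haveI := Fact.mk Nat.prime_two
  set C := Subgroup.centralizer ({g} : Set G) with hC
  obtain ⟨S⟩ := (inferInstance : Nonempty (Sylow 2 C))
  obtain ⟨T, hT⟩ := (S.2.map C.subtype).exists_le_sylow
  have hTC : (T : Subgroup G) ≤ C := by
    have hcard : Nat.card T ≤ Nat.card ((S : Subgroup C).map C.subtype) := by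
      rw [Subgroup.card_map_of_injective C.subtype_injective, T.card_eq_multiplicity,
        S.card_eq_multiplicity, ← C.card_mul_index, Nat.factorization_mul Nat.card_pos.ne'
          Subgroup.index_ne_zero_of_finite, Finsupp.add_apply,
        Nat.factorization_eq_zero_of_not_dvd hg, add_zero]
    rw [← Subgroup.eq_of_le_of_card_ge hT hcard]
    exact Subgroup.map_subtype_le _
  obtain ⟨c, hc⟩ := MulAction.exists_smul_eq G T P
  refine ⟨c, Subgroup.mem_centralizer_iff.2 fun x hx => ?_⟩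
  rw [SetLike.mem_coe, ← hc] at hx
  change x ∈ (T : Subgroup G).map (MulAut.conj c).toMonoidHom at hx
  obtain ⟨y, hy, rfl⟩ := hx
  have := Subgroup.mem_centralizer_singleton_iff.1 (hTC hy)
  show c * y * c⁻¹ * (c * g * c⁻¹) = c * g * c⁻¹ * (c * y * c⁻¹)
  calc c * y * c⁻¹ * (c * g * c⁻¹) = c * (y * g) * c⁻¹ := by group
    _ = c * (g * y) * c⁻¹ := by rw [this]
    _ = c * g * c⁻¹ * (c * y * c⁻¹) := by group

theorem isIntegral_sub_val (χ : IrrCharacter G) (g : G) :
    IsIntegral ℤ ((χ : G → ℂ) 1 - (χ : G → ℂ) g) :=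
  (Chars.irr_isIntegral χ 1).sub (Chars.irr_isIntegral χ g)

theorem half_mem (hM : IsPModular 2 M) (n : ℕ) (hn : 2 ∣ n) {z : ℂ} (hz : IsIntegral ℤ z) :
    MemLocalIdeal M ((n : ℂ) * z) :=
  memLocalIdeal_mul_right ((memLocalIdeal_natCast_iff hM n).2 hn)
    (mem_localRing.1 (algInt_mem_localRing (⟨z, hz⟩ : AlgInt)))

/-- No nonprincipal character of the principal block is trivial on the Sylow 2-subgroup. -/
theorem mult_ne_zero (hM : IsPModular 2 M) (_hO : pPrimeCore 2 G = ⊥) {u : G} {q : ℕ}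
    (P : Sylow 2 G) (hq : q = Nat.card (P : Subgroup G)) (heven : 2 ∣ Nat.card G)
    (hk : ∀ χ ∈ B1 M G, (χ : G → ℂ) 1 - (χ : G → ℂ) u = (q : ℂ))
    (hsq : ∀ (x : G) (j : ℕ), x ^ 2 ^ j = 1 → x * x = 1)
    {χ : IrrCharacter G} (hχ : χ ∈ B1 M G)
    (hker : ∀ a ∈ (P : Subgroup G), (χ : G → ℂ) a = (χ : G → ℂ) 1) : False := by
  classical
  haveI := Fact.mk Nat.prime_two
  cases nonempty_fintype G
  obtain ⟨n, ρ, hρ, hchar⟩ := χ.2
  have hval : ∀ x, (χ : G → ℂ) x = (χ : G → ℂ) 1 ↔ ρ x = 1 := fun x => by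
    rw [Chars.rep_eq_one_iff, hchar]
  set K0 := Subgroup.normalClosure ((P : Subgroup G) : Set G) with hK0
  haveI : K0.Normal := Subgroup.normalClosure_normal
  have hPK0 : (P : Subgroup G) ≤ K0 := Subgroup.le_normalClosure
  have hK0ker : K0 ≤ MonoidHom.ker ρ :=
    Subgroup.normalClosure_le_normal fun a ha => (hval a).1 (hker a ha)
  have hodd0 : ¬ 2 ∣ K0.index := fun h => P.not_dvd_index (h.trans (Subgroup.index_dvd_of_le hPK0))
  -- the degree is odd
  obtain ⟨ψ, hψ⟩ := Chars.exists_irr_quotient K0 χ fun x hx => (hval x).2 (hK0ker hx)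
  have hdeg : ¬ 2 ∣ deg χ := by
    intro h
    obtain ⟨m, -, hm, h1⟩ := Chars.irr_degree_dvd_card ψ
    have h2 : (deg χ : ℂ) = (m : ℂ) := by rw [← deg_eq, ← hψ 1, QuotientGroup.mk_one, hm]
    rw [← Subgroup.index_eq_card, ← Nat.cast_inj.1 h2] at h1
    exact hodd0 (h.trans h1)
  -- the odd part `H` of the centraliser of `P`
  set L := Subgroup.centralizer ((P : Subgroup G) : Set G) with hL
  have hPL : (P : Subgroup G) ≤ L := fun a ha => Subgroup.mem_centralizer_iff.2 fun b hb =>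
    congrArg Subtype.val (sylow_comm hsq (⟨b, hb⟩ : (P : Subgroup G)) ⟨a, ha⟩)
  haveI : ((P : Subgroup G).subgroupOf L).Normal := by
    refine ⟨fun a ha b => Subgroup.mem_subgroupOf.2 ?_⟩
    have := Subgroup.mem_centralizer_iff.1 b.2 a (Subgroup.mem_subgroupOf.1 ha)
    push_cast
    rw [← this, mul_inv_cancel_right]
    exact Subgroup.mem_subgroupOf.1 ha
  have hindL : ¬ 2 ∣ ((P : Subgroup G).subgroupOf L).index := fun h =>
    P.not_dvd_index (h.trans (Subgroup.relIndex_dvd_index_of_le hPL))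
  obtain ⟨H, hH⟩ := Subgroup.exists_right_complement'_of_coprime
    (N := (P : Subgroup G).subgroupOf L) (by
      rw [Nat.card_congr (Subgroup.subgroupOfEquivOfLe hPL).toEquiv]
      obtain ⟨e, he⟩ := P.2.exists_card_eq
      rw [he]
      exact Nat.Coprime.pow_left _ (Nat.prime_two.coprime_iff_not_dvd.2 hindL))
  set H' : Subgroup G := H.map L.subtype with hH'
  haveI : Fintype H' := Fintype.ofFinite _
  have hH'odd : ¬ 2 ∣ Nat.card H' := by
    rw [hH', Subgroup.card_map_of_injective L.subtype_injective, ← hH.symm.index_eq_card]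
    exact hindL
  have hLle : L ≤ K0 ⊔ H' := by
    intro x hx
    obtain ⟨⟨a, b⟩, hab⟩ := hH.2 ⟨x, hx⟩
    have h := congrArg Subtype.val hab
    simp only [Subgroup.coe_mul] at h
    rw [← h]
    exact Subgroup.mul_mem_sup (hPK0 (Subgroup.mem_subgroupOf.1 a.2)) (Subgroup.mem_map_of_mem _ b.2)
  -- values on `H`
  have hH'val : ∀ h ∈ H', MemLocalIdeal M ((χ : G → ℂ) 1 - (χ : G → ℂ) h) := by
    intro h hh
    have hhL : h ∈ L := Subgroup.map_subtype_le _ hh
    have hidx : ¬ 2 ∣ (Subgroup.centralizer ({h} : Set G)).index := by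
      refine fun h2 => P.not_dvd_index (h2.trans (Subgroup.index_dvd_of_le ?_))
      intro a ha
      exact Subgroup.mem_centralizer_singleton_iff.2 (Subgroup.mem_centralizer_iff.1 hhL a ha)
    have h1 := (mem_B1.1 hχ).1 h
    set i := (Subgroup.centralizer ({h} : Set G)).index
    have h2 : MemLocalIdeal M ((i : ℂ) * ((χ : G → ℂ) 1 - (χ : G → ℂ) h)) := by
      have h3 := memLocalIdeal_mul_left (mem_localRing.1 (natCast_mem_localRing (M := M) (deg χ))) h1
      convert h3 using 1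
      rw [centralChar, centralChar, ← deg_eq]
      have := Chars.irr_apply_one_ne_zero χ
      field_simp
      ring
    obtain ⟨j, hj⟩ := Nat.odd_iff.2 (Nat.two_dvd_ne_zero.1 hidx)
    have h3 := memLocalIdeal_sub h2 (half_mem hM (2 * j) ⟨j, rfl⟩ (isIntegral_sub_val χ h))
    convert h3 using 1
    rw [hj]
    push_cast
    ring
  have hsumH : ∑ h : H', (χ : G → ℂ) h ≠ 0 := by
    intro h0
    have h1 := memLocalIdeal_sum (M := M) Finset.univ (fun h : H' => (χ : G → ℂ) 1 - (χ : G → ℂ) h)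
      fun h _ => hH'val h h.2
    rw [Finset.sum_sub_distrib, h0, sub_zero, Finset.sum_const, Finset.card_univ,
      ← Nat.card_eq_fintype_card, nsmul_eq_mul, deg_eq, ← Nat.cast_mul,
      memLocalIdeal_natCast_iff hM] at h1
    rcases (Nat.Prime.dvd_mul Nat.prime_two).1 h1 with h | h
    exacts [hH'odd h, hdeg h]
  -- the kernel contains `K`
  set K := K0 ⊔ H' with hK
  haveI hKn : K.Normal := by
    refine ⟨fun x hx g => ?_⟩
    obtain ⟨n₀, hn₀, w, hw, rfl⟩ : ∃ n₀ ∈ Subgroup.normalizer ((P : Subgroup G) : Set G),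
        ∃ w ∈ K0, g = n₀ * w := by
      have h : g ∈ Subgroup.normalizer ((P : Subgroup G) : Set G) ⊔ K0 := by
        have := Sylow.normalizer_sup_eq_top' P hPK0
        rw [Sylow.coe_coe] at *
        rw [this]; trivial
      rw [Subgroup.mem_sup_of_normal_right] at h
      obtain ⟨a, ha, b, hb, hab⟩ := h
      exact ⟨a, ha, b, hb, hab.symm⟩
    obtain ⟨a, ha, b, hb, rfl⟩ := Subgroup.mem_sup_of_normal_left.1 hx
    have h1 : w * (a * b) * w⁻¹ ∈ K :=
      K.mul_mem (K.mul_mem (Subgroup.mem_sup_left hw)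
        (K.mul_mem (Subgroup.mem_sup_left ha) (Subgroup.mem_sup_right hb)))
        (K.inv_mem (Subgroup.mem_sup_left hw))
    obtain ⟨a', ha', b', hb', hab⟩ := Subgroup.mem_sup_of_normal_left.1 h1
    have hconj : n₀ * b' * n₀⁻¹ ∈ L := by
      refine Subgroup.mem_centralizer_iff.2 fun y hy => ?_
      have hy' : n₀⁻¹ * y * n₀ ∈ (P : Subgroup G) := by
        have := (Subgroup.mem_normalizer_iff.1 (Subgroup.inv_mem _ hn₀) y).1 hy
        rwa [inv_inv] at this
      have := Subgroup.mem_centralizer_iff.1 (Subgroup.map_subtype_le _ hb') _ hy'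
      calc y * (n₀ * b' * n₀⁻¹) = n₀ * ((n₀⁻¹ * y * n₀) * b') * n₀⁻¹ := by group
        _ = n₀ * (b' * (n₀⁻¹ * y * n₀)) * n₀⁻¹ := by rw [this]
        _ = n₀ * b' * n₀⁻¹ * y := by group
    rw [show n₀ * w * (a * b) * (n₀ * w)⁻¹ = (n₀ * a' * n₀⁻¹) * (n₀ * b' * n₀⁻¹) by
      rw [show n₀ * w * (a * b) * (n₀ * w)⁻¹ = n₀ * (w * (a * b) * w⁻¹) * n₀⁻¹ by group, ← hab]
      group]
    exact K.mul_mem (Subgroup.mem_sup_left (‹K0.Normal›.conj_mem a' ha' n₀)) (hLle hconj)
  haveI : Fintype K := Fintype.ofFinite _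
  have hKker : ∀ x ∈ K, (χ : G → ℂ) x = (χ : G → ℂ) 1 := by
    have hmul : ∀ w ∈ K0, ∀ h : G, (χ : G → ℂ) (w * h) = (χ : G → ℂ) h := fun w hw h => by
      rw [← hchar]
      simp only [Representation.character, map_mul, MonoidHom.mem_ker.1 (hK0ker hw), one_mul]
    have hne : ∑ x : K, (χ : G → ℂ) x ≠ 0 := by
      intro h0
      have hswap : ∑ h : H', ∑ x : K, (χ : G → ℂ) ((x : G) * h) =
          ∑ x : K, ∑ h : H', (χ : G → ℂ) ((x : G) * h) := Finset.sum_comm
      have e1 : ∀ h : H', ∑ x : K, (χ : G → ℂ) ((x : G) * h) = 0 := fun h => by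
        rw [← h0]
        exact Fintype.sum_equiv (Equiv.mulRight (⟨h, Subgroup.mem_sup_right h.2⟩ : K)) _ _
          fun x => rfl
      have e2 : ∀ x : K, ∑ h : H', (χ : G → ℂ) ((x : G) * h) = ∑ h : H', (χ : G → ℂ) h := by
        intro x
        obtain ⟨w, hw, b, hb, hwb⟩ := Subgroup.mem_sup_of_normal_left.1 x.2
        rw [← hwb]
        exact Fintype.sum_equiv (Equiv.mulLeft (⟨b, hb⟩ : H')) _ _ fun h => by
          rw [mul_assoc, hmul w hw]; rfl
      rw [Finset.sum_congr rfl fun h _ => e1 h, Finset.sum_congr rfl fun x _ => e2 x,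
        Finset.sum_const_zero, Finset.sum_const, Finset.card_univ, nsmul_eq_mul, eq_comm,
        mul_eq_zero, Nat.cast_eq_zero] at hswap
      exact hswap.elim Fintype.card_ne_zero hsumH
    exact fun x hx => Covering.eq_one_of_sum_ne_zero (N := K) χ hne ⟨x, hx⟩
  -- all characters of the odd quotient lie in the principal block
  have hall : ∀ η : IrrCharacter (G ⧸ K), Chars.inflate K η ∈ B0 M G := by
    intro η
    refine mem_B0.2 fun g => ?_
    have hint : IsIntegral ℤ ((η : G ⧸ K → ℂ) 1 - (η : G ⧸ K → ℂ) (g : G ⧸ K)) :=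
      isIntegral_sub_val η _
    have hηodd : ¬ 2 ∣ deg η := fun h => by
      obtain ⟨m, -, hm, h1⟩ := Chars.irr_degree_dvd_card η
      have h2 : (deg η : ℂ) = (m : ℂ) := by rw [← deg_eq, hm]
      rw [← Subgroup.index_eq_card, ← Nat.cast_inj.1 h2] at h1
      exact P.not_dvd_index ((h.trans h1).trans (Subgroup.index_dvd_of_le (hPK0.trans le_sup_left)))
    by_cases hi : 2 ∣ (Subgroup.centralizer ({g} : Set G)).index
    · obtain ⟨a, b, ha, hb, hab⟩ := half_mem hM _ hi hint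
      have hdnm : (⟨((deg η : ℕ) : ℂ), isIntegral_algebraMap (x := (deg η : ℤ))⟩ : AlgInt) ∉ M := by
        intro h
        apply hηodd
        rw [← memLocalIdeal_natCast_iff hM]
        exact ⟨_, 1, h, one_not_mem, by simp⟩
      refine ⟨a, b * ⟨((deg η : ℕ) : ℂ), isIntegral_algebraMap (x := (deg η : ℤ))⟩, ha,
        fun h => (Ideal.IsPrime.mem_or_mem inferInstance h).elim hb hdnm, ?_⟩
      show (a : ℂ) / ((b : ℂ) * (deg η : ℂ)) = _
      rw [← div_div, hab, centralChar, centralChar]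
      show _ = _ - _ * (η : G ⧸ K → ℂ) (g : G ⧸ K) / (η : G ⧸ K → ℂ) ((1 : G) : G ⧸ K)
      rw [QuotientGroup.mk_one, deg_eq]
      have : (deg η : ℂ) ≠ 0 := by exact_mod_cast (deg_pos η).ne'
      field_simp
    · obtain ⟨c, hc⟩ := exists_conj_centralizer P hi
      have hgK : g ∈ K := by
        have := hKn.conj_mem _ (hLle hc) c⁻¹
        rwa [show c⁻¹ * (c * g * c⁻¹) * c⁻¹⁻¹ = g by group] at this
      convert half_mem (M := M) hM 0 (dvd_zero 2) (isIntegral_zero (R := ℤ) (B := ℂ)) using 1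
      rw [centralChar, centralChar]
      show _ - _ * (η : G ⧸ K → ℂ) (g : G ⧸ K) / (η : G ⧸ K → ℂ) ((1 : G) : G ⧸ K) = _
      rw [(QuotientGroup.eq_one_iff g).2 hgK, QuotientGroup.mk_one]
      have := Chars.irr_apply_one_ne_zero η
      field_simp
      simp
  -- count in the quotient
  obtain ⟨ψ', hψ'⟩ := Chars.exists_irr_quotient K χ hKker
  have hψne : ψ' ≠ Chars.trivialIrr (G ⧸ K) := fun e => (mem_B1.1 hχ).2
    (funext fun g => by rw [← hψ' g, e]; rfl)
  have hū : ((u : G) : G ⧸ K) ≠ 1 := by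
    intro e
    have h := hk χ hχ
    rw [hKker u ((QuotientGroup.eq_one_iff u).1 e), sub_self] at h
    have : q = 0 := by exact_mod_cast h.symm
    have := Nat.card_pos (α := (P : Subgroup G))
    omega
  haveI : Fintype (G ⧸ K) := Fintype.ofFinite _
  have hcol := Chars.sum_degree_mul_irr (G := G ⧸ K) ((u : G) : G ⧸ K)
  rw [if_neg hū] at hcol
  have hdeg2 := Chars.sum_degree_mul_irr (G := G ⧸ K) (1 : G ⧸ K)
  rw [if_pos rfl] at hdeg2
  have hcount : (Nat.card (G ⧸ K) : ℂ) =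
      ((q * ∑ η ∈ Finset.univ.erase (Chars.trivialIrr (G ⧸ K)), deg η : ℕ) : ℂ) := by
    rw [← hdeg2, ← sub_zero (∑ η : IrrCharacter (G ⧸ K), _), ← hcol, ← Finset.sum_sub_distrib,
      ← Finset.add_sum_erase _ _ (Finset.mem_univ (Chars.trivialIrr (G ⧸ K)))]
    simp only [Chars.trivialIrr_apply, sub_self, zero_add]
    push_cast
    rw [Finset.mul_sum]
    refine Finset.sum_congr rfl fun η hη => ?_
    have hη1 : Chars.inflate K η ∈ B1 M G := mem_B1.2 ⟨mem_B0.1 (hall η), fun e => by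
      refine (Finset.mem_erase.1 hη).1 (Subtype.ext (funext fun z => ?_))
      obtain ⟨g, rfl⟩ := QuotientGroup.mk_surjective z
      exact congrFun e g⟩
    have h := hk _ hη1
    change (η : G ⧸ K → ℂ) ((1 : G) : G ⧸ K) - (η : G ⧸ K → ℂ) ((u : G) : G ⧸ K) = _ at h
    rw [QuotientGroup.mk_one] at h
    rw [← mul_sub, h, deg_eq]
    ring
  have hnat : Nat.card (G ⧸ K) = q * ∑ η ∈ Finset.univ.erase (Chars.trivialIrr (G ⧸ K)), deg η := by
    exact_mod_cast hcount
  rw [← Subgroup.index_eq_card] at hnat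
  refine P.not_dvd_index ((?_ : 2 ∣ K.index).trans (Subgroup.index_dvd_of_le (hPK0.trans le_sup_left)))
  rw [hnat]
  exact dvd_mul_of_dvd_left (hq ▸ P.dvd_card_of_dvd_card heven) _

/-- The situation at the involutions. -/
theorem diffData (hM : IsPModular 2 M) (hO : pPrimeCore 2 G = ⊥) (heven : 2 ∣ Nat.card G)
    {u : G} {k : ℂ} (hu : u ≠ 1)
    (hk : ∀ χ ∈ B1 M G, (χ : G → ℂ) 1 - (χ : G → ℂ) u = k) (P : Sylow 2 G) :
    DiffData M G P := by
  classical
  haveI := Fact.mk Nat.prime_two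
  have hsq := fun (x : G) (j : ℕ) (hx : x ^ 2 ^ j = 1) => sq_eq_one hM hO heven hu hk (x := x) hx
  have hone := fun (a b : G) (ha : orderOf a = 2) (hb : orderOf b = 2) =>
    isConj_invo hM hO heven hu hk ha hb
  set q := Nat.card (P : Subgroup G) with hq
  have hk' : ∀ χ ∈ B1 M G, (χ : G → ℂ) 1 - (χ : G → ℂ) u = (q : ℂ) := fun χ hχ =>
    (hk χ hχ).trans (k_eq_card hM hO heven hu hk P)
  refine ⟨hM, hO, heven, hsq, hone, fun χ₀ hχ₀ t ht => ?_⟩
  choose c hc using fun χ : IrrCharacter G => exists_natMult (P := P) hone hsq ht χ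
  have hc1 : ∀ χ ∈ B1 M G, 1 ≤ c χ := by
    intro χ hχ
    by_contra h
    refine mult_ne_zero hM hO P hq heven hk' hsq hχ fun a ha => ?_
    rcases eq_or_ne a 1 with rfl | ha1
    · rfl
    have ha2 : orderOf a = 2 := orderOf_eq_prime
      (by rw [pow_two]; exact congrArg Subtype.val (sylow_sq hsq ⟨a, ha⟩)) ha1
    obtain ⟨g, hg⟩ := isConj_iff.1 (hone _ _ ht ha2)
    have h0 := hc χ
    rw [show c χ = 0 by omega, Nat.cast_zero, mul_zero, sub_eq_zero] at h0
    rw [← hg, Chars.irr_isClassFunction χ, h0]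
  have h1 : ((q * ∑ χ ∈ B1 M G, deg χ : ℕ) : ℂ) = ((q * ∑ χ ∈ B1 M G, c χ * deg χ : ℕ) : ℂ) := by
    obtain ⟨a, ha, -, hN, -⟩ := exists_int hM hO heven hu hk
    have haq : a = q := by exact_mod_cast ha.symm.trans (k_eq_card hM hO heven hu hk P)
    rw [← haq, ← hN, haq]
    have h := orth_one (M := M) hM (g := t) (by rw [ht])
    push_cast
    rw [← sub_zero (∑ χ ∈ B0 M G, _), ← h, sum_B0, sum_B0, Finset.mul_sum]
    simp only [Chars.trivialIrr_apply, deg_eq]
    have hd : deg (Chars.trivialIrr G) = 1 := by simp [deg, charDegree]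
    rw [hd, Nat.cast_one, mul_one, add_sub_add_left_eq_sub, ← Finset.sum_sub_distrib]
    refine Finset.sum_congr rfl fun χ _ => ?_
    rw [← mul_sub, ← deg_eq, hc χ, deg_eq]
    ring
  have h2 : ∑ χ ∈ B1 M G, deg χ = ∑ χ ∈ B1 M G, c χ * deg χ := by
    have h' : q * ∑ χ ∈ B1 M G, deg χ = q * ∑ χ ∈ B1 M G, c χ * deg χ := by exact_mod_cast h1
    exact Nat.eq_of_mul_eq_mul_left (hq ▸ Nat.card_pos) h'
  have h3 := (Finset.sum_eq_sum_iff_of_le fun χ hχ => Nat.le_mul_of_pos_left (deg χ) (hc1 χ hχ)).1 h2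
    χ₀ hχ₀
  have : c χ₀ = 1 := by
    have := deg_pos χ₀
    exact (Nat.eq_of_mul_eq_mul_right this ((one_mul _).trans h3)).symm
  rw [hc χ₀, this, Nat.cast_one, mul_one]

end Cfsg.Agent.Lib.B0Diff
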