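import Cfsg.Agent.Lib.B0Diff.Coord
import Cfsg.Agent.S1279
import Cfsg.Agent.S0217
import Cfsg.Agent.S0223
import Cfsg.Agent.Lib.SECount.Basic
import Cfsg.Agent.Lib.SolvableCore.Basic
import Cfsg.Agent.Lib.CoreSeparated.Basic
import Mathlib

/-!
With elementary abelian Sylow 2-subgroups of order different from eight and one class of
involutions, involution centralisers are soluble.
-/

set_option autoImplicit false
set_option linter.unusedSectionVars false
set_option linter.style.haveILetI false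

namespace Cfsg.Agent.Lib.B0Diff

open Cfsg
open Cfsg.Agent.Lib

universe u

variable {X : Type u} [Group X] [Finite X]

theorem isSolvable_of_two_not_dvd (h : ¬ 2 ∣ Nat.card X) : Group.IsSolvable X :=
  Cfsg.Agent.S0205.result (Nat.odd_iff.2 (Nat.two_dvd_ne_zero.1 h))

theorem isSolvable_of_comm {Y : Type*} [Group Y] (hc : ∀ a b : Y, a * b = b * a) :
    Group.IsSolvable Y := Group.isSolvable_of_comm hc

theorem sylow_comm_of_sq (S : Sylow 2 X) (hsq : ∀ a ∈ (S : Subgroup X), a * a = 1) {a b : X}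
    (ha : a ∈ (S : Subgroup X)) (hb : b ∈ (S : Subgroup X)) : a * b = b * a := by
  have hinv : ∀ x ∈ (S : Subgroup X), x⁻¹ = x := fun x hx =>
    inv_eq_of_mul_eq_one_right (hsq x hx)
  have := hinv _ (mul_mem ha hb)
  rw [mul_inv_rev, hinv a ha, hinv b hb] at this
  exact this.symm

/-- In a soluble group an abelian Sylow 2-subgroup is normal modulo the core. -/
theorem sup_core_normal (hs : Group.IsSolvable X) (S : Sylow 2 X)
    (hc : ∀ a ∈ (S : Subgroup X), ∀ b ∈ (S : Subgroup X), a * b = b * a) :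
    (pPrimeCore 2 X ⊔ (S : Subgroup X)).Normal := by
  haveI := Fact.mk Nat.prime_two
  haveI := PSolvable.pPrimeCore_characteristic (p := 2) (G := X)
  haveI := hs
  set O := pPrimeCore 2 X
  haveI : O.Normal := inferInstance
  have hbot : pPrimeCore 2 (X ⧸ O) = ⊥ := PSolvable.pPrimeCore_quotient_eq_bot
  haveI : Group.IsSolvable (X ⧸ O) :=
    Group.isSolvable_of_surjective (QuotientGroup.mk'_surjective O)
  set T := S.mapSurjective (QuotientGroup.mk'_surjective O)
  have hT : (T : Subgroup (X ⧸ O)) = (S : Subgroup X).map (QuotientGroup.mk' O) := rfl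
  have hR : pCore 2 (X ⧸ O) = (T : Subgroup (X ⧸ O)) := by
    refine le_antisymm (PSolvable.pCore_le_sylow T) fun x hx => ?_
    refine SolvableCore.centralizer_pCore_le inferInstance hbot
      (Subgroup.mem_centralizer_iff.2 fun y hy => ?_)
    have hy' := PSolvable.pCore_le_sylow T hy
    rw [hT] at hy' hx
    obtain ⟨a, ha, rfl⟩ := hx
    obtain ⟨b, hb, rfl⟩ := hy'
    rw [← map_mul, ← map_mul, hc b hb a ha]
  haveI := PSolvable.pCore_characteristic (p := 2) (G := X ⧸ O)
  have hTn : (T : Subgroup (X ⧸ O)).Normal := hR ▸ inferInstance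
  have he : O ⊔ (S : Subgroup X) = (T : Subgroup (X ⧸ O)).comap (QuotientGroup.mk' O) := by
    rw [hT, Subgroup.comap_map_eq, QuotientGroup.ker_mk', sup_comm]
  rw [he]
  exact hTn.comap _

/-- A soluble involution centraliser is the product of its core and the normaliser of `S`. -/
theorem le_sup_normalizer {H : Subgroup X} (hs : Group.IsSolvable H) (S : Sylow 2 X)
    (hSH : (S : Subgroup X) ≤ H)
    (hc : ∀ a ∈ (S : Subgroup X), ∀ b ∈ (S : Subgroup X), a * b = b * a) {x : X} (hx : x ∈ H) :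
    ∃ n ∈ Subgroup.normalizer ((S : Subgroup X) : Set X),
      ∃ o ∈ (pPrimeCore 2 H).map H.subtype, x = o * n := by
  haveI := Fact.mk Nat.prime_two
  haveI := PSolvable.pPrimeCore_characteristic (p := 2) (G := H)
  set T : Sylow 2 H := S.subtype hSH
  have hT : (T : Subgroup H) = (S : Subgroup X).subgroupOf H := rfl
  have hn := sup_core_normal hs T fun a ha b hb =>
    Subtype.ext (hc _ (Subgroup.mem_subgroupOf.1 ha) _ (Subgroup.mem_subgroupOf.1 hb))
  have htop := Sylow.normalizer_sup_eq_top' (N := pPrimeCore 2 H ⊔ (T : Subgroup H)) T le_sup_right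
  rw [← Sylow.coe_coe, sup_comm (pPrimeCore 2 H), ← sup_assoc,
    sup_of_le_left (Subgroup.le_normalizer (H := (T : Subgroup H))), sup_comm] at htop
  have hmem : (⟨x, hx⟩ : H) ∈ pPrimeCore 2 H ⊔ Subgroup.normalizer ((T : Subgroup H) : Set H) := by
    rw [htop]; trivial
  obtain ⟨o, ho, n, hn', hon⟩ := Subgroup.mem_sup_of_normal_left.1 hmem
  refine ⟨n, ?_, o, ⟨o, ho, rfl⟩, (congrArg Subtype.val hon).symm⟩
  refine Subgroup.mem_normalizer_iff.2 fun y => ⟨fun hy => ?_, fun hy => ?_⟩
  · have h1 := (Subgroup.mem_normalizer_iff.1 hn' ⟨y, hSH hy⟩).1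
      (by rw [hT]; exact Subgroup.mem_subgroupOf.2 hy)
    rw [hT] at h1
    exact Subgroup.mem_subgroupOf.1 h1
  · have hyH : y ∈ H := by
      have := mul_mem (mul_mem (inv_mem n.2) (hSH hy)) n.2
      simpa [mul_assoc] using this
    have h1 := (Subgroup.mem_normalizer_iff.1 hn' ⟨y, hyH⟩).2
      (by rw [hT]; exact Subgroup.mem_subgroupOf.2 hy)
    rw [hT] at h1
    exact Subgroup.mem_subgroupOf.1 h1

theorem conj_core_le {a n y : X} (hy : y ∈ centralizerPPrimeCore 2 a) :
    n * y * n⁻¹ ∈ centralizerPPrimeCore 2 (n * a * n⁻¹) := by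
  haveI := Fact.mk Nat.prime_two
  refine CoreSeparated.le_centralizerPPrimeCore
    (U := (centralizerPPrimeCore 2 a).map (MulAut.conj n).toMonoidHom) ?_ ?_ ?_ ⟨y, hy, rfl⟩
  · rintro _ ⟨z, hz, rfl⟩
    have h := Subgroup.mem_centralizer_singleton_iff.1
      (Components.centralizerPPrimeCore_le_centralizer a hz)
    refine Subgroup.mem_centralizer_singleton_iff.2 ?_
    show n * z * n⁻¹ * (n * a * n⁻¹) = n * a * n⁻¹ * (n * z * n⁻¹)
    calc n * z * n⁻¹ * (n * a * n⁻¹) = n * (z * a) * n⁻¹ := by group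
      _ = n * (a * z) * n⁻¹ := by rw [h]
      _ = n * a * n⁻¹ * (n * z * n⁻¹) := by group
  · intro x hx
    have hx' : n⁻¹ * x * n ∈ Subgroup.centralizer ({a} : Set X) := by
      have h := Subgroup.mem_centralizer_singleton_iff.1 hx
      refine Subgroup.mem_centralizer_singleton_iff.2 ?_
      calc n⁻¹ * x * n * a = n⁻¹ * (x * (n * a * n⁻¹)) * n := by group
        _ = n⁻¹ * (n * a * n⁻¹ * x) * n := by rw [h]
        _ = a * (n⁻¹ * x * n) := by group
    have h := Components.centralizer_le_normalizer_centralizerPPrimeCore (p := 2) a hx'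
    refine Subgroup.mem_normalizer_iff.2 fun w => ?_
    have h' := Subgroup.mem_normalizer_iff.1 h (n⁻¹ * w * n)
    rw [show n⁻¹ * x * n * (n⁻¹ * w * n) * (n⁻¹ * x * n)⁻¹ = n⁻¹ * (x * w * x⁻¹) * n by group] at h'
    rw [Subgroup.mem_map_equiv, Subgroup.mem_map_equiv, MulAut.conj_symm_apply,
      MulAut.conj_symm_apply]
    exact h'
  · rw [Subgroup.card_map_of_injective (MulEquiv.injective _)]
    exact Nat.coprime_comm.1 ((Nat.prime_two.coprime_iff_not_dvd).2 fun h2 =>
      PSolvable.pPrimeCore_not_dvd (h2.trans (Subgroup.card_map_dvd _ _)))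

/-- Two classes of involutions, an elementary abelian Sylow 2-subgroup of order at least eight and
soluble involution centralisers give a soluble group. -/
theorem isSolvable_of_two_classes (S : Sylow 2 X) (hsq : ∀ a ∈ (S : Subgroup X), a * a = 1)
    (h8 : 8 ≤ Nat.card (S : Subgroup X))
    (hsolv : ∀ t : X, orderOf t = 2 → Group.IsSolvable (Subgroup.centralizer ({t} : Set X)))
    {a b : X} (ha : orderOf a = 2) (hb : orderOf b = 2) (hab : ¬ IsConj a b) :
    Group.IsSolvable X := by
  haveI := Fact.mk Nat.prime_two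
  have hcomm := fun (a : X) (ha : a ∈ (S : Subgroup X)) (b : X) (hb : b ∈ (S : Subgroup X)) =>
    sylow_comm_of_sq S hsq ha hb
  have hord : ∀ s ∈ (S : Subgroup X), s ≠ 1 → orderOf s = 2 := fun s hs hs1 =>
    orderOf_eq_prime (by rw [pow_two]; exact hsq s hs) hs1
  have hs' : ∀ s ∈ (S : Subgroup X), s ≠ 1 →
      Group.IsSolvable (Subgroup.centralizer ({s} : Set X)) := fun s hs hs1 =>
    hsolv s (hord s hs hs1)
  have hEA : IsElementaryAbelian 2 (S : Subgroup X) :=
    ⟨⟨⟨fun a b => Subtype.ext (hcomm _ a.2 _ b.2)⟩⟩, fun a ha => by rw [pow_two]; exact hsq a ha⟩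
  obtain ⟨⟨hθC, hθp, hθinv, hbal⟩, hθsolv⟩ := Cfsg.Agent.S1279.result 2 (S : Subgroup X) hEA
    (by omega) hs'
  obtain ⟨hWodd, -⟩ := Cfsg.Agent.S0217.result (p := 2) (S : Subgroup X) hcomm
    (fun a ha => by rw [pow_two]; exact hsq a ha) (by omega) _ hθC hθp hθinv hθsolv hbal
  set W := ⨆ a : {a : X // a ∈ (S : Subgroup X) ∧ a ≠ 1}, centralizerPPrimeCore 2 (a : X) with hW
  set N := Subgroup.normalizer ((S : Subgroup X) : Set X) with hN
  have hNW : N ≤ Subgroup.normalizer (W : Set X) := by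
    intro n hn
    have key : ∀ n ∈ N, ∀ w ∈ W, n * w * n⁻¹ ∈ W := by
      intro n hn w hw
      have hle : W ≤ W.comap (MulAut.conj n).toMonoidHom := by
        refine iSup_le fun a => fun z hz => Subgroup.mem_comap.2 ?_
        show n * z * n⁻¹ ∈ W
        refine le_iSup (fun a : {a : X // a ∈ (S : Subgroup X) ∧ a ≠ 1} =>
          centralizerPPrimeCore 2 (a : X)) ⟨n * a * n⁻¹,
            (Subgroup.mem_normalizer_iff.1 hn _).1 a.2.1, fun e => a.2.2 (conj_eq_one_iff.1 e)⟩
          (conj_core_le hz)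
      exact hle hw
    refine Subgroup.mem_normalizer_iff.2 fun w => ⟨key n hn w, fun h => ?_⟩
    have := key n⁻¹ (inv_mem hn) _ h
    rwa [show n⁻¹ * (n * w * n⁻¹) * n⁻¹⁻¹ = w by group] at this
  set M₁ := W ⊔ N with hM₁
  have hMn : M₁ ≤ Subgroup.normalizer (W : Set X) := sup_le Subgroup.le_normalizer hNW
  haveI hWn : (W.subgroupOf M₁).Normal := Subgroup.normal_subgroupOf_of_le_normalizer hMn
  haveI : Group.IsSolvable W := isSolvable_of_two_not_dvd hWodd
  haveI : Group.IsSolvable N := by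
    haveI : Group.IsSolvable ((S : Subgroup X).subgroupOf N) := isSolvable_of_comm fun a b =>
      Subtype.ext (Subtype.ext (hcomm _ (Subgroup.mem_subgroupOf.1 a.2) _
        (Subgroup.mem_subgroupOf.1 b.2)))
    haveI hnn : ((S : Subgroup X).subgroupOf N).Normal := Subgroup.normal_in_normalizer
    haveI : Group.IsSolvable (N ⧸ (S : Subgroup X).subgroupOf N) := by
      refine isSolvable_of_two_not_dvd ?_
      rw [← Subgroup.index_eq_card]
      exact fun h2 => S.not_dvd_index (h2.trans
        (Subgroup.relIndex_dvd_index_of_le Subgroup.le_normalizer))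
    exact Group.isSolvable_of_ker_le_range ((S : Subgroup X).subgroupOf N).subtype
      (QuotientGroup.mk' ((S : Subgroup X).subgroupOf N)) (by simp)
  have hMsolv : Group.IsSolvable M₁ := by
    haveI : Group.IsSolvable (W.subgroupOf M₁) :=
      Group.isSolvable_of_isSolvable_injective
        (f := (Subgroup.subgroupOfEquivOfLe (le_sup_left : W ≤ M₁)).toMonoidHom)
        (MulEquiv.injective _)
    haveI : Group.IsSolvable (M₁ ⧸ W.subgroupOf M₁) := by
      refine Group.isSolvable_of_surjective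
        (f := (QuotientGroup.mk' (W.subgroupOf M₁)).comp (Subgroup.inclusion (le_sup_right : N ≤ M₁)))
        fun c => ?_
      obtain ⟨⟨x, hx⟩, rfl⟩ := QuotientGroup.mk'_surjective _ c
      have hx' : x ∈ N ⊔ W := by rwa [sup_comm]
      rw [← SetLike.mem_coe, Subgroup.coe_mul_of_left_le_normalizer_right N W hNW] at hx'
      obtain ⟨n, hn, w, hw, rfl⟩ := hx'
      refine ⟨⟨n, hn⟩, QuotientGroup.eq.2 (Subgroup.mem_subgroupOf.2 ?_)⟩
      show n⁻¹ * (n * w) ∈ W
      simpa using hw
    exact Group.isSolvable_of_ker_le_range (W.subgroupOf M₁).subtype (QuotientGroup.mk' (W.subgroupOf M₁))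
      (by simp)
  by_cases htop : M₁ = ⊤
  · haveI := hMsolv
    exact Group.isSolvable_of_surjective (f := M₁.subtype) fun x =>
      ⟨⟨x, htop ▸ Subgroup.mem_top x⟩, rfl⟩
  exfalso
  have hSM : (S : Subgroup X) ≤ M₁ := Subgroup.le_normalizer.trans le_sup_right
  have heven : Even (Nat.card M₁) := even_iff_two_dvd.2 <| by
    refine dvd_trans ?_ (Subgroup.card_dvd_of_le hSM)
    obtain ⟨k, hk⟩ := S.2.exists_card_eq
    rw [hk] at h8 ⊢
    exact dvd_pow_self 2 (by rintro rfl; norm_num at h8)
  have hmove : ∀ t ∈ M₁, orderOf t = 2 → ∃ m ∈ M₁, m * t * m⁻¹ ∈ (S : Subgroup X) := by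
    intro t htM ht
    obtain ⟨T, hT⟩ := (IsPGroup.of_card (n := 1) (by rw [Nat.card_zpowers, Subgroup.orderOf_mk,
      ht, pow_one]) : IsPGroup 2 (Subgroup.zpowers (⟨t, htM⟩ : M₁))).exists_le_sylow
    obtain ⟨m, hm⟩ := MulAction.exists_smul_eq M₁ T (S.subtype hSM)
    refine ⟨m, m.2, ?_⟩
    have h1 : m * ⟨t, htM⟩ * m⁻¹ ∈ ((m • T : Sylow 2 M₁) : Subgroup M₁) :=
      ⟨_, hT (Subgroup.mem_zpowers _), rfl⟩
    rw [hm] at h1
    exact Subgroup.mem_subgroupOf.1 h1
  have hse : IsStronglyEmbedded M₁ := by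
    refine (Cfsg.Agent.S0223.result M₁ htop heven).2 ⟨fun t htM ht x hx => ?_, ?_⟩
    · obtain ⟨m, hm, hmS⟩ := hmove t htM ht
      set s := m * t * m⁻¹
      have hs1 : s ≠ 1 := fun e => by
        rw [conj_eq_one_iff] at e
        rw [e, orderOf_one] at ht
        omega
      have hxs : m * x * m⁻¹ ∈ Subgroup.centralizer ({s} : Set X) := by
        refine Subgroup.mem_centralizer_singleton_iff.2 ?_
        have h := Subgroup.mem_centralizer_singleton_iff.1 hx
        calc m * x * m⁻¹ * (m * t * m⁻¹) = m * (x * t) * m⁻¹ := by group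
          _ = m * (t * x) * m⁻¹ := by rw [h]
          _ = m * t * m⁻¹ * (m * x * m⁻¹) := by group
      obtain ⟨n, hn, o, ho, he⟩ := le_sup_normalizer (hs' s hmS hs1) S
        (fun y hy => Subgroup.mem_centralizer_singleton_iff.2 (hcomm y hy s hmS)) hcomm hxs
      have hmem : m * x * m⁻¹ ∈ M₁ := by
        rw [he]
        exact mul_mem (Subgroup.mem_sup_left (le_iSup
          (fun a : {a : X // a ∈ (S : Subgroup X) ∧ a ≠ 1} => centralizerPPrimeCore 2 (a : X))
          ⟨s, hmS, hs1⟩ ho)) (Subgroup.mem_sup_right hn)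
      have := mul_mem (mul_mem (inv_mem hm) hmem) hm
      simpa [mul_assoc] using this
    · intro t ht s hs hto hso hc
      obtain ⟨m, hm, hmS⟩ := hmove t ht hto
      obtain ⟨l, hl, hlS⟩ := hmove s hs hso
      obtain ⟨c, hc⟩ := isConj_iff.1 hc
      have hcent : ∀ z ∈ (S : Subgroup X), z ∈ Subgroup.centralizer ((S : Subgroup X) : Set X) :=
        fun z hz => Subgroup.mem_centralizer_iff.2 fun w hw => hcomm w hw z hz
      obtain ⟨n, hn, he⟩ := S.conj_eq_normalizer_conj_of_mem_centralizer (m * t * m⁻¹)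
        (l * c * m⁻¹)⁻¹ (hcent _ hmS) (hcent _ (by
          convert hlS using 1
          rw [← hc]; group))
      refine ⟨l⁻¹ * n⁻¹ * m, mul_mem (mul_mem (inv_mem hl)
        (Subgroup.mem_sup_right (inv_mem hn))) hm, ?_⟩
      calc l⁻¹ * n⁻¹ * m * t * (l⁻¹ * n⁻¹ * m)⁻¹
          = l⁻¹ * (n⁻¹ * (m * t * m⁻¹) * n) * l := by group
        _ = l⁻¹ * ((l * c * m⁻¹)⁻¹⁻¹ * (m * t * m⁻¹) * (l * c * m⁻¹)⁻¹) * l := by rw [he]
        _ = c * t * c⁻¹ := by group
        _ = s := hc
  exact hab (SECount.isConj_invo hse ha hb)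

theorem two_pow_gt {m k : ℕ} (hm : 3 ≤ m) (hk : 2 * k ≤ 3 * m) : k + 1 < 2 ^ m := by
  have : 3 * m + 2 < 2 * 2 ^ m := by
    clear hk
    induction m, hm using Nat.le_induction with
    | base => norm_num
    | succ j hj ih => rw [pow_succ]; omega
  omega

namespace Elem

variable {P : Sylow 2 X} (h : Elem P)
include h

/-- Soluble centralisers of subgroups of the Sylow subgroup. -/
theorem isSolvable_centralizer_aux (hne : Nat.card (P : Subgroup X) ≠ 8) :
    ∀ (d : ℕ) (A : Subgroup X), A ≤ (P : Subgroup X) → A ≠ ⊥ →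
      Nat.card (P : Subgroup X) - Nat.card A = d →
        Group.IsSolvable (Subgroup.centralizer (A : Set X)) := by
  classical
  haveI := Fact.mk Nat.prime_two
  intro d
  induction d using Nat.strong_induction_on with
  | _ d ih =>
  intro A hAP hA hd
  set C := Subgroup.centralizer (A : Set X) with hC
  have hPC : (P : Subgroup X) ≤ C := fun y hy =>
    Subgroup.mem_centralizer_iff.2 fun a ha => h.comm (hAP ha) hy
  set T : Sylow 2 C := P.subtype hPC with hT
  have hTeq : (T : Subgroup C) = (P : Subgroup X).subgroupOf C := rfl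
  by_cases htriv : ∀ g ∈ Subgroup.normalizer ((P : Subgroup X) : Set X), g ∈ C →
      g ∈ Subgroup.centralizer ((P : Subgroup X) : Set X)
  · have hP' : Subgroup.normalizer ((T : Subgroup C) : Set C) ≤
        Subgroup.centralizer ((T : Subgroup C) : Set C) := by
      intro g hg
      have hgN : (g : X) ∈ Subgroup.normalizer ((P : Subgroup X) : Set X) := by
        refine Subgroup.mem_normalizer_fintype fun y hy => ?_
        have h1 := (Subgroup.mem_normalizer_iff.1 hg ⟨y, hPC hy⟩).1
          (by rw [hTeq]; exact Subgroup.mem_subgroupOf.2 hy)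
        rw [hTeq] at h1
        exact Subgroup.mem_subgroupOf.1 h1
      refine Subgroup.mem_centralizer_iff.2 fun y hy => Subtype.ext ?_
      exact Subgroup.mem_centralizer_iff.1 (htriv g hgN g.2) y (Subgroup.mem_subgroupOf.1 hy)
    haveI : IsMulCommutative (T : Subgroup C) := ⟨⟨fun a b => Subtype.ext (Subtype.ext
      (h.comm (Subgroup.mem_subgroupOf.1 a.2) (Subgroup.mem_subgroupOf.1 b.2)))⟩⟩
    have hcompl := MonoidHom.ker_transferSylow_isComplement' T hP'
    haveI : Group.IsSolvable (MonoidHom.transferSylow T hP').ker := by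
      refine isSolvable_of_two_not_dvd ?_
      rw [← hcompl.index_eq_card]
      exact T.not_dvd_index
    haveI : Group.IsSolvable (T : Subgroup C) :=
      isSolvable_of_comm fun a b => IsMulCommutative.is_comm.comm a b
    exact Group.isSolvable_of_ker_le_range (MonoidHom.transferSylow T hP').ker.subtype
      (MonoidHom.transferSylow T hP') (by simp)
  push Not at htriv
  obtain ⟨g, hgN, hgC, hgP⟩ := htriv
  obtain ⟨t, htA, ht1⟩ := (Subgroup.bot_or_exists_ne_one A).resolve_left hA
  obtain ⟨k, hk⟩ := P.2.exists_card_eq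
  obtain ⟨i, hi⟩ := (P.2.to_le hAP).exists_card_eq
  have hcube := h.card_fixed_pow_three_le (hAP htA) ht1 hgN
    (Subgroup.mem_centralizer_iff.1 hgC t htA).symm hgP
  have hAfix : Nat.card A ≤
      Nat.card ((P : Subgroup X) ⊓ Subgroup.centralizer ({g} : Set X) : Subgroup X) :=
    Nat.le_of_dvd Nat.card_pos (Subgroup.card_dvd_of_le (le_inf hAP fun a ha =>
      Subgroup.mem_centralizer_singleton_iff.2 (Subgroup.mem_centralizer_iff.1 hgC a ha)))
  have h3 : 3 * i ≤ k := by
    have := (Nat.pow_le_pow_left hAfix 3).trans hcube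
    rw [hi, hk, ← pow_mul] at this
    have := (Nat.pow_le_pow_iff_right (by norm_num : 1 < 2)).1 this
    omega
  have hi1 : 1 ≤ i := by
    rcases Nat.eq_zero_or_pos i with rfl | h' 
    · exact absurd (Subgroup.card_eq_one.1 (hi.trans (pow_zero 2))) hA
    · exact h'
  have hk3 : k ≠ 3 := fun e => hne (by rw [hk, e]; norm_num)
  have hki : 3 ≤ k - i := by omega
  -- the quotient by `A`
  haveI hAn : (A.subgroupOf C).Normal := ⟨fun a ha c => Subgroup.mem_subgroupOf.2 (by
    push_cast
    rw [← Subgroup.mem_centralizer_iff.1 c.2 _ (Subgroup.mem_subgroupOf.1 ha), mul_inv_cancel_right]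
    exact Subgroup.mem_subgroupOf.1 ha)⟩
  set Q := C ⧸ A.subgroupOf C
  set π := QuotientGroup.mk' (A.subgroupOf C)
  set S : Sylow 2 Q := T.mapSurjective (QuotientGroup.mk'_surjective (A.subgroupOf C))
  have hS : (S : Subgroup Q) = (T : Subgroup C).map π := rfl
  have hSsq : ∀ a ∈ (S : Subgroup Q), a * a = 1 := by
    rw [hS]
    rintro _ ⟨a, ha, rfl⟩
    rw [← map_mul, show a * a = 1 from Subtype.ext (h.sq _ (Subgroup.mem_subgroupOf.1 ha)), map_one]
  have hAT : A.subgroupOf C ≤ (T : Subgroup C) := fun a ha =>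
    Subgroup.mem_subgroupOf.2 (hAP (Subgroup.mem_subgroupOf.1 ha))
  have hcomap : (S : Subgroup Q).comap π = (T : Subgroup C) := by
    rw [hS, Subgroup.comap_map_eq, QuotientGroup.ker_mk', sup_of_le_left hAT]
  have hScard : Nat.card (S : Subgroup Q) = 2 ^ (k - i) := by
    have h1 : Nat.card (A.subgroupOf C) * Nat.card (S : Subgroup Q) = 2 ^ k := by
      rw [← hk, ← Nat.card_congr (Subgroup.subgroupOfEquivOfLe hPC).toEquiv, ← hTeq, ← hcomap]
      exact (PSolvable.card_comap_mk' (A.subgroupOf C) (S : Subgroup Q)).symm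
    rw [Nat.card_congr (Subgroup.subgroupOfEquivOfLe (hAP.trans hPC)).toEquiv, hi] at h1
    rw [Nat.pow_div (by omega) (by norm_num) |>.symm, ← h1,
      Nat.mul_div_cancel_left _ (by positivity)]
  have h8 : 8 ≤ Nat.card (S : Subgroup Q) := by
    rw [hScard]
    exact le_trans (by norm_num) (Nat.pow_le_pow_right (by norm_num) hki)
  -- involution centralisers of the quotient
  have hinv : ∀ s : Q, orderOf s = 2 → ∃ x : C, (x : X) ∈ (P : Subgroup X) ∧ (x : X) ∉ A ∧
      IsConj s (π x) := by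
    intro s hs
    obtain ⟨R, hR⟩ := (IsPGroup.of_card (n := 1) (by rw [Nat.card_zpowers, hs, pow_one]) :
      IsPGroup 2 (Subgroup.zpowers s)).exists_le_sylow
    obtain ⟨m, hm⟩ := MulAction.exists_smul_eq Q R S
    have h1 : m * s * m⁻¹ ∈ ((m • R : Sylow 2 Q) : Subgroup Q) :=
      ⟨_, hR (Subgroup.mem_zpowers _), rfl⟩
    rw [hm, hS] at h1
    obtain ⟨x, hx, hxe⟩ := h1
    refine ⟨x, Subgroup.mem_subgroupOf.1 hx, fun hxA => ?_, isConj_iff.2 ⟨m, hxe.symm⟩⟩
    have : π x = 1 := (QuotientGroup.eq_one_iff x).2 (Subgroup.mem_subgroupOf.2 hxA)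
    rw [this] at hxe
    rw [(conj_eq_one_iff).1 hxe.symm, orderOf_one] at hs
    omega
  have hsolv : ∀ x : C, (x : X) ∈ (P : Subgroup X) → (x : X) ∉ A →
      Group.IsSolvable (Subgroup.centralizer ({π x} : Set Q)) := by
    intro x hxP hxA
    set L := (Subgroup.centralizer ({π x} : Set Q)).comap π with hL
    have hmem : ∀ g : L, (g : X) * x * (g : X)⁻¹ * (x : X)⁻¹ ∈ A := by
      intro g
      have h1 := Subgroup.mem_centralizer_singleton_iff.1 (Subgroup.mem_comap.1 g.2)
      have h2 : π ((g : C) * x * (g : C)⁻¹ * x⁻¹) = 1 := by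
        rw [map_mul, map_mul, map_mul, map_inv, map_inv, h1]
        group
      exact Subgroup.mem_subgroupOf.1 ((QuotientGroup.eq_one_iff _).1 h2)
    let φ : L →* A :=
      { toFun := fun g => ⟨_, hmem g⟩
        map_one' := Subtype.ext (by simp)
        map_mul' := fun a b => Subtype.ext (by
          have hc := Subgroup.mem_centralizer_iff.1 (a : C).2 _ (hmem b)
          push_cast
          calc (a : X) * b * x * ((a : X) * b)⁻¹ * (x : X)⁻¹
              = (a : X) * ((b : X) * x * (b : X)⁻¹ * (x : X)⁻¹) * (x : X) * (a : X)⁻¹ *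
                  (x : X)⁻¹ := by group
            _ = ((b : X) * x * (b : X)⁻¹ * (x : X)⁻¹) * (a : X) * (x : X) * (a : X)⁻¹ *
                  (x : X)⁻¹ := by rw [hc]
            _ = ((b : X) * x * (b : X)⁻¹ * (x : X)⁻¹) *
                  ((a : X) * x * (a : X)⁻¹ * (x : X)⁻¹) := by group
            _ = ((a : X) * x * (a : X)⁻¹ * (x : X)⁻¹) *
                  ((b : X) * x * (b : X)⁻¹ * (x : X)⁻¹) :=
                h.comm (hAP (hmem b)) (hAP (hmem a))) }
    set A' := A ⊔ Subgroup.zpowers (x : X) with hA'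
    have hA'P : A' ≤ (P : Subgroup X) := sup_le hAP (Subgroup.zpowers_le.2 hxP)
    have hA'lt : Nat.card A < Nat.card A' := by
      refine lt_of_le_of_ne (Nat.le_of_dvd Nat.card_pos (Subgroup.card_dvd_of_le le_sup_left))
        fun e => hxA ?_
      rw [Subgroup.eq_of_le_of_card_ge (le_sup_left : A ≤ A') e.ge]
      exact Subgroup.mem_sup_right (Subgroup.mem_zpowers _)
    haveI : Group.IsSolvable (Subgroup.centralizer (A' : Set X)) := by
      have hlt : Nat.card (P : Subgroup X) - Nat.card A' < d := by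
        have := Nat.le_of_dvd Nat.card_pos (Subgroup.card_dvd_of_le hA'P)
        omega
      exact ih _ hlt A' hA'P (fun e => hA (le_bot_iff.1 (e ▸ le_sup_left))) rfl
    haveI : Group.IsSolvable φ.ker := by
      have hk : ∀ g : φ.ker, ((g : L) : X) ∈ Subgroup.centralizer (A' : Set X) := by
        intro g
        rw [hA', Subgroup.le_centralizer_iff] at *
        have h1 : ((g : L) : X) * x * ((g : L) : X)⁻¹ * (x : X)⁻¹ = 1 :=
          congrArg Subtype.val (MonoidHom.mem_ker.1 g.2)
        refine Subgroup.mem_centralizer_iff.2 fun y hy => ?_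
        have hle : A ⊔ Subgroup.zpowers (x : X) ≤
            Subgroup.centralizer ({((g : L) : X)} : Set X) := by
          refine sup_le (fun a ha => Subgroup.mem_centralizer_singleton_iff.2
            (Subgroup.mem_centralizer_iff.1 (g : L).1.2 a ha)) (Subgroup.zpowers_le.2 ?_)
          refine Subgroup.mem_centralizer_singleton_iff.2 ?_
          rw [mul_inv_eq_one, mul_inv_eq_iff_eq_mul] at h1
          exact h1.symm
        exact Subgroup.mem_centralizer_singleton_iff.1 (hle hy)
      exact Group.isSolvable_of_isSolvable_injective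
        (f := MonoidHom.codRestrict
          ((Subgroup.subtype C).comp ((Subgroup.subtype L).comp φ.ker.subtype)) _ hk)
        fun a b e => Subtype.ext (Subtype.ext (Subtype.ext (congrArg Subtype.val e :)))
    haveI : Group.IsSolvable A :=
      isSolvable_of_comm fun a b => Subtype.ext (h.comm (hAP a.2) (hAP b.2))
    haveI : Group.IsSolvable L := Group.isSolvable_of_ker_le_range φ.ker.subtype φ (by simp)
    refine Group.isSolvable_of_surjective (f := π.subgroupComap _) fun s => ?_
    obtain ⟨g, hg⟩ := QuotientGroup.mk'_surjective (A.subgroupOf C) (s : Q)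
    exact ⟨⟨g, Subgroup.mem_comap.2 (show π g ∈ _ by rw [show π g = s from hg]; exact s.2)⟩,
      Subtype.ext hg⟩
  haveI : Group.IsSolvable Q := by
    have hsolv' : ∀ s : Q, orderOf s = 2 → Group.IsSolvable (Subgroup.centralizer ({s} : Set Q)) := by
      intro s hs
      obtain ⟨x, hxP, hxA, hc⟩ := hinv s hs
      haveI := hsolv x hxP hxA
      obtain ⟨m, hm⟩ := isConj_iff.1 hc
      refine Group.isSolvable_of_isSolvable_injective
        (f := MonoidHom.codRestrict ((MulAut.conj m).toMonoidHom.comp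
          (Subgroup.centralizer ({s} : Set Q)).subtype)
          (Subgroup.centralizer ({π x} : Set Q)) fun z => ?_)
        fun a b e => Subtype.ext ((MulAut.conj m).injective (congrArg Subtype.val e :))
      refine Subgroup.mem_centralizer_singleton_iff.2 ?_
      show m * z * m⁻¹ * π x = π x * (m * z * m⁻¹)
      rw [← hm]
      have h1 := Subgroup.mem_centralizer_singleton_iff.1 z.2
      calc m * (z : Q) * m⁻¹ * (m * s * m⁻¹) = m * ((z : Q) * s) * m⁻¹ := by group
        _ = m * (s * z) * m⁻¹ := by rw [h1]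
        _ = m * s * m⁻¹ * (m * z * m⁻¹) := by group
    by_cases hall : ∀ a b : Q, orderOf a = 2 → orderOf b = 2 → IsConj a b
    swap
    · push Not at hall
      obtain ⟨a, b, ha, hb, hab⟩ := hall
      exact isSolvable_of_two_classes S hSsq h8 hsolv' ha hb hab
    exfalso
    -- the automiser of `A` is too small to fuse the involutions
    set L₀ := Subgroup.normalizer ((P : Subgroup X) : Set X) ⊓ C with hL₀
    have hrel : (Subgroup.centralizer ((P : Subgroup X) : Set X)).relIndex L₀ ≤ k := by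
      refine le_trans (Subgroup.relIndex_le_of_le_right (inf_le_inf_left _ ?_) ?_)
        (h.relIndex_le (hAP htA) ht1 hk)
      · exact fun c hc => Subgroup.mem_centralizer_singleton_iff.2
          (Subgroup.mem_centralizer_iff.1 hc t htA).symm
      · exact Subgroup.index_ne_zero_of_finite
    haveI hSc : IsMulCommutative (S : Subgroup Q) :=
      ⟨⟨fun a b => Subtype.ext (sylow_comm_of_sq S hSsq a.2 b.2)⟩⟩
    obtain ⟨x₀, hx₀, hx₀A⟩ : ∃ x ∈ (P : Subgroup X), x ∉ A := by
      by_contra hc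
      push Not at hc
      have := Nat.le_of_dvd Nat.card_pos (Subgroup.card_dvd_of_le hc)
      rw [hk, hi, Nat.pow_le_pow_iff_right (by norm_num : 1 < 2)] at this
      omega
    let f : L₀ ⧸ (Subgroup.centralizer ((P : Subgroup X) : Set X)).subgroupOf L₀ → Q := fun c =>
      π ⟨(c.out : X) * x₀ * (c.out : X)⁻¹,
        mul_mem (mul_mem (Subgroup.mem_inf.1 c.out.2).2 (hPC hx₀))
          (inv_mem (Subgroup.mem_inf.1 c.out.2).2)⟩
    have hcover : ∀ y ∈ (S : Subgroup Q), y ≠ 1 → y ∈ Set.range f := by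
      intro y hy hy1
      have hx' : π ⟨x₀, hPC hx₀⟩ ∈ (S : Subgroup Q) :=
        ⟨_, Subgroup.mem_subgroupOf.2 hx₀, rfl⟩
      have hx1 : π ⟨x₀, hPC hx₀⟩ ≠ 1 := fun e =>
        hx₀A (Subgroup.mem_subgroupOf.1 ((QuotientGroup.eq_one_iff _).1 e))
      obtain ⟨m, hm⟩ := isConj_iff.1 (hall _ y
        (orderOf_eq_prime (by rw [pow_two]; exact hSsq _ hx') hx1)
        (orderOf_eq_prime (by rw [pow_two]; exact hSsq _ hy) hy1))
      obtain ⟨n, hn, he⟩ := S.conj_eq_normalizer_conj_of_mem (π ⟨x₀, hPC hx₀⟩) m⁻¹ hx'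
        (by rw [inv_inv, hm]; exact hy)
      rw [inv_inv, hm] at he
      obtain ⟨c, hc⟩ := QuotientGroup.mk'_surjective (A.subgroupOf C) n⁻¹
      have hcT : ∀ z : C, z ∈ (T : Subgroup C) → c * z * c⁻¹ ∈ (T : Subgroup C) := by
        intro z hz
        rw [← hcomap, Subgroup.mem_comap] at hz ⊢
        rw [map_mul, map_mul, map_inv, show π c = n⁻¹ from hc]
        exact (Subgroup.mem_normalizer_iff.1 (inv_mem hn) _).1 hz
      have hcL : (c : X) ∈ L₀ := Subgroup.mem_inf.2 ⟨Subgroup.mem_normalizer_fintype fun z hz =>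
        Subgroup.mem_subgroupOf.1 (hcT ⟨z, hPC hz⟩ (Subgroup.mem_subgroupOf.2 hz)), c.2⟩
      obtain ⟨e, he'⟩ := QuotientGroup.mk_out_eq_mul
        ((Subgroup.centralizer ((P : Subgroup X) : Set X)).subgroupOf L₀) ⟨c, hcL⟩
      refine ⟨QuotientGroup.mk ⟨c, hcL⟩, ?_⟩
      have hez := Subgroup.mem_centralizer_iff.1 (Subgroup.mem_subgroupOf.1 e.2) x₀ hx₀
      show π _ = y
      have hcπ : π c = n⁻¹ := hc
      have hy' : y = π (c * ⟨x₀, hPC hx₀⟩ * c⁻¹) := by
        rw [map_mul, map_mul, map_inv, hcπ, inv_inv, he]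
      rw [hy']
      refine congrArg π (Subtype.ext ?_)
      push_cast
      rw [he']
      push_cast
      calc (c : X) * (e : L₀) * x₀ * ((c : X) * (e : L₀))⁻¹
          = (c : X) * (((e : L₀) : X) * x₀) * ((e : L₀) : X)⁻¹ * (c : X)⁻¹ := by group
        _ = (c : X) * (x₀ * ((e : L₀) : X)) * ((e : L₀) : X)⁻¹ * (c : X)⁻¹ := by rw [hez]
        _ = _ := by group
    have hcount : Nat.card (S : Subgroup Q) - 1 ≤
        (Subgroup.centralizer ((P : Subgroup X) : Set X)).relIndex L₀ := by
      have h1 : ((S : Subgroup Q) : Set Q) \ {1} ⊆ Set.range f := fun y hy => hcover y hy.1 hy.2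
      have h2 := Set.ncard_le_ncard h1 (Set.finite_range f)
      rw [Set.ncard_sdiff_singleton_of_mem (one_mem _), ← Nat.card_coe_set_eq,
        ← Nat.card_coe_set_eq] at h2
      exact h2.trans (Finite.card_range_le f)
    rw [hScard] at hcount
    have := two_pow_gt hki (k := k) (by omega)
    omega
  haveI : Group.IsSolvable (A.subgroupOf C) := isSolvable_of_comm fun a b => Subtype.ext
    (Subtype.ext (h.comm (hAP (Subgroup.mem_subgroupOf.1 a.2)) (hAP (Subgroup.mem_subgroupOf.1 b.2))))
  exact Group.isSolvable_of_ker_le_range (A.subgroupOf C).subtype π (by simp [π])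

/-- Involution centralisers are soluble. -/
theorem isSolvable_centralizer (hne : Nat.card (P : Subgroup X) ≠ 8) {t : X} (ht : orderOf t = 2) :
    Group.IsSolvable (Subgroup.centralizer ({t} : Set X)) := by
  haveI := Fact.mk Nat.prime_two
  haveI := h.nontrivial
  obtain ⟨a, ha⟩ := exists_ne (1 : (P : Subgroup X))
  have ha1 : (a : X) ≠ 1 := fun e => ha (Subtype.ext e)
  obtain ⟨c, hc⟩ := isConj_iff.1 (h.one_class t a ht (h.orderOf_eq_two a.2 ha1))
  have hs := h.isSolvable_centralizer_aux hne _ (Subgroup.zpowers (a : X))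
    (Subgroup.zpowers_le.2 a.2) (by simpa using ha1) rfl
  haveI := hs
  refine Group.isSolvable_of_isSolvable_injective
    (f := MonoidHom.codRestrict ((MulAut.conj c).toMonoidHom.comp
      (Subgroup.centralizer ({t} : Set X)).subtype)
      (Subgroup.centralizer ((Subgroup.zpowers (a : X) : Subgroup X) : Set X)) fun z => ?_)
    fun x y e => Subtype.ext ((MulAut.conj c).injective (congrArg Subtype.val e :))
  rw [Subgroup.mem_centralizer_iff]
  rintro _ ⟨j, rfl⟩
  refine Commute.eq (Commute.zpow_left ?_ j)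
  show (a : X) * (c * z * c⁻¹) = c * z * c⁻¹ * a
  rw [← hc]
  have h1 := Subgroup.mem_centralizer_singleton_iff.1 z.2
  calc c * t * c⁻¹ * (c * z * c⁻¹) = c * (t * z) * c⁻¹ := by group
    _ = c * ((z : X) * t) * c⁻¹ := by rw [h1]
    _ = c * z * c⁻¹ * (c * t * c⁻¹) := by group

end Elem

end Cfsg.Agent.Lib.B0Diff
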