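import Cfsg.Agent.Lib.B0Diff.Facts
import Cfsg.Agent.Lib.B0Diff.Solvable
import Cfsg.Agent.Lib.HeightPSolv.Principal
import Cfsg.Agent.Lib.HeightPSolv.Lambda
import Cfsg.Agent.Lib.Components.BalanceBasic
import Mathlib

/-!
With soluble involution centralisers: their cores are trivial and the Sylow 2-subgroup is normal
and self-centralising in them.
-/

set_option autoImplicit false
set_option linter.unusedSectionVars false
set_option linter.style.haveILetI false

namespace Cfsg.Agent.Lib.B0Diff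

open Cfsg
open Cfsg.Agent.Lib
open Cfsg.Agent.Lib.Blocks

universe u

variable {G : Type u} [Group G] [Finite G] {M : Ideal AlgInt} [M.IsPrime] {P : Sylow 2 G}

namespace DiffData

variable (h : DiffData M G P)
include h

theorem elem : Elem P :=
  ⟨h.card_ge_two, fun a ha => congrArg Subtype.val (sylow_sq h.sq_one ⟨a, ha⟩), h.one_class⟩

variable (hsolv : ∀ t : G, orderOf t = 2 → Group.IsSolvable (Subgroup.centralizer ({t} : Set G)))
include hsolv

/-- Balance. -/
theorem balance {a b : G} (ha : a ∈ (P : Subgroup G)) (_ha1 : a ≠ 1) (hb : b ∈ (P : Subgroup G))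
    (hb1 : b ≠ 1) :
    centralizerPPrimeCore 2 a ⊓ Subgroup.centralizer {b} ≤ centralizerPPrimeCore 2 b := by
  haveI := Fact.mk Nat.prime_two
  have he := h.elem
  refine Components.centralizerPPrimeCore_inf_le
    (Components.pLayer_eq_bot_of_isSolvable (hsolv b (he.orderOf_eq_two hb hb1))) ?_
    (he.comm ha hb)
  intro y
  obtain ⟨_, i, rfl⟩ := y
  refine ⟨1, Subtype.ext ?_⟩
  show (a ^ i) ^ 2 ^ 1 = 1
  rw [pow_one, pow_two]
  exact he.sq _ (zpow_mem ha i)

/-- The cores of the involution centralisers are trivial. -/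
theorem core_eq_bot {t : G} (ht : t ∈ (P : Subgroup G)) (ht1 : t ≠ 1) :
    centralizerPPrimeCore 2 t = ⊥ := by
  classical
  haveI := Fact.mk Nat.prime_two
  have he := h.elem
  have ht2 := he.orderOf_eq_two ht ht1
  by_contra hne
  set T := centralizerPPrimeCore 2 t with hT
  obtain ⟨y₀, hy₀, hy₀1⟩ := (Subgroup.bot_or_exists_ne_one T).resolve_left hne
  let S : Set (Subgroup G) := {Q | Q ≤ (P : Subgroup G) ∧ t ∈ Q ∧
    ∃ y ∈ T, y ≠ 1 ∧ ∀ a ∈ Q, Commute a y}
  have hSne : S.Nonempty := by
    refine ⟨Subgroup.zpowers t, Subgroup.zpowers_le.2 ht, Subgroup.mem_zpowers t, y₀, hy₀, hy₀1, ?_⟩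
    rintro _ ⟨i, rfl⟩
    exact Commute.zpow_left (Subgroup.mem_centralizer_singleton_iff.1
      (Components.centralizerPPrimeCore_le_centralizer t hy₀)).symm i
  obtain ⟨Q, ⟨hQP, htQ, y, hy, hy1, hyQ⟩, hmax⟩ :=
    Set.exists_max_image S (fun Q : Subgroup G => Nat.card Q) (Set.toFinite S) hSne
  have hTodd : ¬ 2 ∣ Nat.card T := fun h2 =>
    PSolvable.pPrimeCore_not_dvd (h2.trans (Subgroup.card_map_dvd _ _))
  have hyodd : ∀ z ∈ T, ¬ 2 ∣ orderOf z := fun z hz h2 =>
    hTodd (h2.trans (Subgroup.orderOf_dvd_natCard T hz))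
  have hcores : ∀ a ∈ Q, a ≠ 1 → y ∈ centralizerPPrimeCore 2 a := fun a ha ha1 =>
    h.balance hsolv ht ht1 (hQP ha) ha1 ⟨hy, Subgroup.mem_centralizer_singleton_iff.2 (hyQ a ha).symm.eq⟩
  by_cases hQ : Q = (P : Subgroup G)
  · exact hy1 (h.eq_one_of_cores hQP (hyodd y hy) hyQ hcores (Or.inl (by rw [hQ])))
  obtain ⟨x, hxP, hxQ⟩ : ∃ x ∈ (P : Subgroup G), x ∉ Q := by
    by_contra hc
    push Not at hc
    exact hQ (le_antisymm hQP hc)
  have hbig : ∀ x' ∈ (P : Subgroup G), x' ∉ Q → ∀ z ∈ T, (∀ a ∈ Q, Commute a z) →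
      Commute x' z → z = 1 := by
    intro x' hx' hx'Q z hz hzQ hzx
    by_contra hz1
    refine hx'Q ?_
    set Q' := Q ⊔ Subgroup.zpowers x' with hQ'
    have hle : Q' ≤ Subgroup.centralizer ({z} : Set G) :=
      sup_le (fun a ha => Subgroup.mem_centralizer_singleton_iff.2 (hzQ a ha).eq)
        (Subgroup.zpowers_le.2 (Subgroup.mem_centralizer_singleton_iff.2 hzx.eq))
    have hm := hmax Q' ⟨sup_le hQP (Subgroup.zpowers_le.2 hx'), Subgroup.mem_sup_left htQ,
      z, hz, hz1, fun a ha => Subgroup.mem_centralizer_singleton_iff.1 (hle ha)⟩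
    rw [Subgroup.eq_of_le_of_card_ge (le_sup_left : Q ≤ Q') hm]
    exact Subgroup.mem_sup_right (Subgroup.mem_zpowers x')
  set R := T ⊓ Subgroup.centralizer (Q : Set G) with hR
  have hyR : y ∈ R := ⟨hy, Subgroup.mem_centralizer_iff.2 fun a ha => (hyQ a ha).eq⟩
  have hnorm : ∀ r ∈ R, x * r * x⁻¹ ∈ R := by
    intro r hr
    refine ⟨(Subgroup.mem_normalizer_iff.1 (Components.centralizer_le_normalizer_centralizerPPrimeCore
      t (Subgroup.mem_centralizer_singleton_iff.2 (he.comm hxP ht))) r).1 hr.1,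
      Subgroup.mem_centralizer_iff.2 fun a ha => ?_⟩
    have h1 := Subgroup.mem_centralizer_iff.1 hr.2 a ha
    have h2 := he.comm hxP (hQP ha)
    calc a * (x * r * x⁻¹) = (a * x) * r * x⁻¹ := by group
      _ = x * (a * r) * x⁻¹ := by rw [← h2]; group
      _ = x * (r * a) * x⁻¹ := by rw [h1]
      _ = x * r * (a * x⁻¹) := by group
      _ = x * r * (x⁻¹ * a) := by rw [he.comm (hQP ha) (inv_mem hxP)]
      _ = x * r * x⁻¹ * a := by group
  let φ : R →* R :=
    { toFun := fun r => ⟨x * r * x⁻¹, hnorm r r.2⟩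
      map_one' := Subtype.ext (by simp)
      map_mul' := fun a b => Subtype.ext (by simp [mul_assoc]) }
  have hfpf : MonoidHom.FixedPointFree φ := by
    intro r hr
    refine Subtype.ext (hbig x hxP hxQ r r.2.1
      (fun a ha => Subgroup.mem_centralizer_iff.1 r.2.2 a ha) ?_)
    have h1 : x * (r : G) * x⁻¹ = r := congrArg Subtype.val hr
    exact (mul_inv_eq_iff_eq_mul.1 h1)
  have hinvo : Function.Involutive φ := fun r => Subtype.ext (by
    show x * (x * (r : G) * x⁻¹) * x⁻¹ = r
    have hxx := he.sq x hxP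
    have hxi : x⁻¹ = x := inv_eq_of_mul_eq_one_right hxx
    rw [hxi]
    calc x * (x * (r : G) * x) * x = (x * x) * r * (x * x) := by group
      _ = r := by rw [hxx, one_mul, mul_one])
  have hreal : IsConj y y⁻¹ := isConj_iff.2 ⟨x,
    congrArg Subtype.val (congrFun (hfpf.coe_eq_inv_of_involutive hinvo) ⟨y, hyR⟩)⟩
  have hidx : Q.relIndex (P : Subgroup G) = 2 := by
    rw [Subgroup.relIndex, Subgroup.index_eq_two_iff]
    refine ⟨⟨x, hxP⟩, fun b => ?_⟩
    simp only [Subgroup.mem_subgroupOf, Subgroup.coe_mul]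
    by_cases hb : (b : G) ∈ Q
    · refine Or.inr ⟨hb, fun hc => hxQ ?_⟩
      have := mul_mem (inv_mem hb) hc
      rwa [inv_mul_cancel_left] at this
    · refine Or.inl ⟨?_, hb⟩
      by_contra hbx
      refine hy1 (hbig ((b : G) * x) (mul_mem b.2 hxP) hbx y hy hyQ ?_)
      have hby : (b : G) * y * (b : G)⁻¹ = y⁻¹ := by
        have hnorm' : ∀ r ∈ R, (b : G) * r * (b : G)⁻¹ ∈ R := by
          intro r hr
          refine ⟨(Subgroup.mem_normalizer_iff.1
            (Components.centralizer_le_normalizer_centralizerPPrimeCore t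
              (Subgroup.mem_centralizer_singleton_iff.2 (he.comm b.2 ht))) r).1 hr.1,
            Subgroup.mem_centralizer_iff.2 fun a ha => ?_⟩
          have h1 := Subgroup.mem_centralizer_iff.1 hr.2 a ha
          calc a * ((b : G) * r * (b : G)⁻¹) = (a * b) * r * (b : G)⁻¹ := by group
            _ = (b : G) * (a * r) * (b : G)⁻¹ := by rw [he.comm (hQP ha) b.2]; group
            _ = (b : G) * r * (a * (b : G)⁻¹) := by rw [h1]; group
            _ = (b : G) * r * ((b : G)⁻¹ * a) := by rw [he.comm (hQP ha) (inv_mem b.2)]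
            _ = (b : G) * r * (b : G)⁻¹ * a := by group
        let ψ : R →* R :=
          { toFun := fun r => ⟨(b : G) * r * (b : G)⁻¹, hnorm' r r.2⟩
            map_one' := Subtype.ext (by simp)
            map_mul' := fun a b => Subtype.ext (by simp [mul_assoc]) }
        have hψ : MonoidHom.FixedPointFree ψ := fun r hr => Subtype.ext (hbig b b.2 hb r r.2.1
          (fun a ha => Subgroup.mem_centralizer_iff.1 r.2.2 a ha)
          (mul_inv_eq_iff_eq_mul.1 (congrArg Subtype.val hr : (b : G) * (r : G) * (b : G)⁻¹ = r)))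
        have hψi : Function.Involutive ψ := fun r => Subtype.ext (by
          show (b : G) * ((b : G) * (r : G) * (b : G)⁻¹) * (b : G)⁻¹ = r
          have hxx := he.sq b b.2
          rw [inv_eq_of_mul_eq_one_right hxx]
          calc (b : G) * ((b : G) * (r : G) * b) * b = ((b : G) * b) * r * ((b : G) * b) := by group
            _ = r := by rw [hxx, one_mul, mul_one])
        exact congrArg Subtype.val (congrFun (hψ.coe_eq_inv_of_involutive hψi) ⟨y, hyR⟩)
      have hxy : x * y * x⁻¹ = y⁻¹ :=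
        congrArg Subtype.val (congrFun (hfpf.coe_eq_inv_of_involutive hinvo) ⟨y, hyR⟩)
      show (b : G) * x * y = y * ((b : G) * x)
      calc (b : G) * x * y = (b : G) * (x * y * x⁻¹) * x := by group
        _ = ((b : G) * y * (b : G)⁻¹)⁻¹ * b * x := by rw [hxy]; group
        _ = y * ((b : G) * x) := by rw [hby, inv_inv, mul_assoc]
  have hcard : Nat.card (P : Subgroup G) = 2 * Nat.card Q := by
    have h3 := Subgroup.card_mul_index (Q.subgroupOf (P : Subgroup G))
    rw [Nat.card_congr (Subgroup.subgroupOfEquivOfLe hQP).toEquiv] at h3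
    rw [Subgroup.relIndex] at hidx
    rw [← h3, hidx, mul_comm]
  exact hy1 (h.eq_one_of_cores hQP (hyodd y hy) hyQ hcores (Or.inr ⟨hcard, hreal⟩))

/-- In an involution centraliser the Sylow subgroup is normal and self-centralising. -/
theorem centralizer_structure {t : G} (ht : t ∈ (P : Subgroup G)) (ht1 : t ≠ 1) :
    Subgroup.centralizer ({t} : Set G) ≤ Subgroup.normalizer ((P : Subgroup G) : Set G) ∧
      Subgroup.centralizer ((P : Subgroup G) : Set G) ≤ (P : Subgroup G) := by
  haveI := Fact.mk Nat.prime_two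
  have he := h.elem
  set C := Subgroup.centralizer ({t} : Set G) with hC
  have hPC : (P : Subgroup G) ≤ C := fun a ha =>
    Subgroup.mem_centralizer_singleton_iff.2 (he.comm ha ht)
  haveI hs := hsolv t (he.orderOf_eq_two ht ht1)
  have hO : pPrimeCore 2 C = ⊥ :=
    (Subgroup.map_eq_bot_iff_of_injective _ C.subtype_injective).1 (h.core_eq_bot hsolv ht ht1)
  set T : Sylow 2 C := P.subtype hPC
  have hT : (T : Subgroup C) = (P : Subgroup G).subgroupOf C := rfl
  have hn := sup_core_normal hs T fun a ha b hb =>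
    Subtype.ext (he.comm (Subgroup.mem_subgroupOf.1 ha) (Subgroup.mem_subgroupOf.1 hb))
  rw [hO, bot_sup_eq] at hn
  refine ⟨fun g hg => Subgroup.mem_normalizer_fintype fun a ha => ?_, fun g hg => ?_⟩
  · have := hn.conj_mem ⟨a, hPC ha⟩ (Subgroup.mem_subgroupOf.2 ha) ⟨g, hg⟩
    exact Subgroup.mem_subgroupOf.1 this
  · have hgC : g ∈ C := Subgroup.mem_centralizer_singleton_iff.2
      (Subgroup.mem_centralizer_iff.1 hg t ht).symm
    have hcore : pCore 2 C = (T : Subgroup C) := by
      haveI := hn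
      exact le_antisymm (PSolvable.pCore_le_sylow T) (PSolvable.le_pCore T.2)
    have h1 : (⟨g, hgC⟩ : C) ∈ pCore 2 C := by
      refine SolvableCore.centralizer_pCore_le hs hO (Subgroup.mem_centralizer_iff.2 fun a ha => ?_)
      rw [hcore] at ha
      exact Subtype.ext (Subgroup.mem_centralizer_iff.1 hg a (Subgroup.mem_subgroupOf.1 ha))
    rw [hcore] at h1
    exact Subgroup.mem_subgroupOf.1 h1

/-- The principal block is the only block of an involution centraliser. -/
theorem mem_principalBlock_centralizer {t : G} (ht : t ∈ (P : Subgroup G)) (ht1 : t ≠ 1)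
    (ξ : IrrCharacter (Subgroup.centralizer ({t} : Set G))) :
    ξ ∈ principalBlock M (Subgroup.centralizer ({t} : Set G)) := by
  haveI := Fact.mk Nat.prime_two
  have he := h.elem
  obtain ⟨hn, hc⟩ := h.centralizer_structure hsolv ht ht1
  have hPC : (P : Subgroup G) ≤ Subgroup.centralizer ({t} : Set G) := fun a ha =>
    Subgroup.mem_centralizer_singleton_iff.2 (he.comm ha ht)
  haveI : ((P : Subgroup G).subgroupOf (Subgroup.centralizer ({t} : Set G))).Normal :=
    Subgroup.normal_subgroupOf_of_le_normalizer hn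
  exact HeightPSolv.sameBlock_of_centralizer_le h.modular
    ((P : Subgroup G).subgroupOf (Subgroup.centralizer ({t} : Set G)))
    (P.2.comap_subtype) (fun g hg => Subgroup.mem_subgroupOf.2 (hc
      (Subgroup.mem_centralizer_iff.2 fun a ha => congrArg Subtype.val
        (Subgroup.mem_centralizer_iff.1 hg ⟨a, hPC ha⟩ (Subgroup.mem_subgroupOf.2 ha)))))
    (Chars.trivialIrr _) ξ

theorem sum_sq_centralizer {t : G} (ht : t ∈ (P : Subgroup G)) (ht1 : t ≠ 1) :
    (∑ᶠ ψ ∈ principalBlock M (Subgroup.centralizer ({t} : Set G)),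
        charDegree (ψ : Subgroup.centralizer ({t} : Set G) → ℂ) ^ 2) =
      Nat.card (Subgroup.centralizer ({t} : Set G)) := by
  haveI := Fact.mk Nat.prime_two
  refine HeightPSolv.sum_degree_sq_eq_card_iff.2 fun B hB => ?_
  obtain ⟨χ, hχ⟩ := Blocks.isPBlock_nonempty hB
  exact isPBlock_eq_of_mem hB (BrauerMap.isPBlock_principalBlock M) hχ
    (h.mem_principalBlock_centralizer hsolv ht ht1 χ)

end DiffData

end Cfsg.Agent.Lib.B0Diff
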